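import Mathlib

/-!
`p`-groups with a small centralizer of an element of order `p`.
-/

set_option autoImplicit false

namespace CfsgLib.Tech46.Terminal

open Subgroup

universe w

/-- A 2-group with an involution whose centralizer has order at most 4 has a cyclic subgroup of index at
most 2. -/
theorem exists_cyclic_index_two : ∀ (n : ℕ) (P : Type w) [Group P] [Finite P], Nat.card P ≤ n →
    IsPGroup 2 P → ∀ r : P, orderOf r = 2 → Nat.card (centralizer ({r} : Set P)) ≤ 4 →
      ∃ C : Subgroup P, IsCyclic C ∧ C.index ≤ 2 := by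
  intro n
  induction n using Nat.strong_induction_on with
  | h n ih =>
    intro P _ _ hn hP r hr hC
    by_cases hcen : ∀ g : P, g * r = r * g
    · refine ⟨zpowers r, inferInstance, ?_⟩
      have h1 : centralizer ({r} : Set P) = ⊤ :=
        eq_top_iff.mpr fun g _ => mem_centralizer_singleton_iff.mpr (hcen g)
      rw [h1, card_top] at hC
      have := (zpowers r).index_mul_card
      rw [Nat.card_zpowers, hr] at this
      omega
    push Not at hcen
    obtain ⟨g₀, hg₀⟩ := hcen
    haveI : Nontrivial P := ⟨⟨g₀ * r, r * g₀, hg₀⟩⟩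
    haveI := hP.center_nontrivial
    obtain ⟨⟨z, hz⟩, hz1⟩ := exists_ne (1 : center P)
    obtain ⟨k, hk⟩ := hP z
    obtain ⟨x, hx, hxz⟩ : ∃ x ∈ center P, orderOf x = 2 := by
      have hzn : orderOf z ≠ 1 := fun h => hz1 (Subtype.ext (orderOf_eq_one_iff.mp h))
      obtain ⟨j, -, hj⟩ := (Nat.dvd_prime_pow Nat.prime_two).mp (orderOf_dvd_of_pow_eq_one hk)
      have h2 : 2 ∣ orderOf z := by
        rcases j with _ | j
        · exact absurd hj hzn
        · exact hj ▸ dvd_pow_self 2 (Nat.succ_ne_zero j)
      refine ⟨z ^ (orderOf z / 2), pow_mem hz _, ?_⟩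
      rw [orderOf_pow_of_dvd (Nat.div_pos (Nat.le_of_dvd (orderOf_pos z) h2) two_pos).ne'
        (Nat.div_dvd_of_dvd h2), Nat.div_div_self h2 (orderOf_pos z).ne']
    have hxx : x * x = 1 := by rw [← pow_two, ← hxz, pow_orderOf_eq_one]
    have hx1 : x ≠ 1 := fun h => by simp [h] at hxz
    have hrx : r ≠ x := fun h => hg₀ (h ▸ (mem_center_iff.mp hx g₀))
    haveI hXn : (zpowers x).Normal := ⟨fun a ha g => by
      have := mem_center_iff.mp (zpowers_le.mpr hx ha) g
      rw [this, mul_inv_cancel_right]
      exact ha⟩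
    set q := QuotientGroup.mk' (zpowers x) with hq
    have hmemX : ∀ a : P, a ∈ zpowers x → a = 1 ∨ a = x := by
      rintro a ⟨i, rfl⟩
      obtain ⟨j, rfl | rfl⟩ := Int.even_or_odd' i
      · left; show x ^ (2 * j) = 1; rw [zpow_mul, zpow_two, hxx, one_zpow]
      · right; show x ^ (2 * j + 1) = x; rw [zpow_add, zpow_mul, zpow_two, hxx, one_zpow, one_mul, zpow_one]
    have hr' : orderOf (q r) = 2 := by
      refine orderOf_eq_prime (by rw [← map_pow, ← hr, pow_orderOf_eq_one, map_one]) fun h => ?_
      rcases hmemX r ((QuotientGroup.eq_one_iff r).mp h) with h' | h'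
      · simp [h'] at hr
      · exact hrx h'
    have hC' : Nat.card (centralizer ({q r} : Set (P ⧸ zpowers x))) ≤ 4 := by
      set M := (centralizer ({q r} : Set (P ⧸ zpowers x))).comap q with hM
      have h1 : Nat.card M ≤ 2 * Nat.card (centralizer ({r} : Set P)) := by
        classical
        let F : M → centralizer ({r} : Set P) → Prop := fun _ _ => True
        have hcl : ∀ g : M, (g : P) * r * (g : P)⁻¹ = r ∨ (g : P) * r * (g : P)⁻¹ = x * r := by
          intro g
          have h := mem_centralizer_singleton_iff.mp g.2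
          have : (g : P) * r * (g : P)⁻¹ * r⁻¹ ∈ zpowers x := by
            rw [← QuotientGroup.eq_one_iff]
            show q ((g : P) * r * (g : P)⁻¹ * r⁻¹) = 1
            rw [map_mul, map_mul, map_mul, h, map_inv, map_inv, mul_inv_cancel_right, mul_inv_cancel]
          rcases hmemX _ this with h' | h'
          · exact Or.inl (mul_inv_eq_one.mp h')
          · exact Or.inr (mul_inv_eq_iff_eq_mul.mp h')
        have hle : ((centralizer ({r} : Set P)).subgroupOf M).index ≤ 2 := by
          let ev : M ⧸ (centralizer ({r} : Set P)).subgroupOf M → P := fun c =>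
            Quotient.liftOn' c (fun g => (g : P) * r * (g : P)⁻¹) fun a b hab => by
              rw [QuotientGroup.leftRel_apply, mem_subgroupOf, mem_centralizer_singleton_iff] at hab
              simp only [Subgroup.coe_mul, Subgroup.coe_inv] at hab
              calc (a : P) * r * (a : P)⁻¹ = a * (r * ((a : P)⁻¹ * b)) * (b : P)⁻¹ := by group
                _ = a * (((a : P)⁻¹ * b) * r) * (b : P)⁻¹ := by rw [hab]
                _ = b * r * (b : P)⁻¹ := by group
          have hinj : Function.Injective ev := by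
            intro c d hcd
            induction c using Quotient.inductionOn' with
            | h a =>
              induction d using Quotient.inductionOn' with
              | h b =>
                have h : (a : P) * r * (a : P)⁻¹ = b * r * (b : P)⁻¹ := hcd
                apply Quotient.sound'
                rw [QuotientGroup.leftRel_apply, mem_subgroupOf, mem_centralizer_singleton_iff]
                simp only [Subgroup.coe_mul, Subgroup.coe_inv]
                calc (a : P)⁻¹ * b * r = (a : P)⁻¹ * (b * r * (b : P)⁻¹) * b := by group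
                  _ = (a : P)⁻¹ * (a * r * (a : P)⁻¹) * b := by rw [h]
                  _ = r * ((a : P)⁻¹ * b) := by group
          have hsub : Set.range ev ⊆ {r, x * r} := by
            rintro _ ⟨c, rfl⟩
            induction c using Quotient.inductionOn' with
            | h a => exact (hcl a).imp id id
          rw [Subgroup.index, ← Set.ncard_range_of_injective hinj]
          exact (Set.ncard_le_ncard hsub).trans ((Set.ncard_insert_le _ _).trans (by simp))
        rw [← index_mul_card ((centralizer ({r} : Set P)).subgroupOf M)]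
        refine Nat.mul_le_mul hle (Nat.le_of_dvd Nat.card_pos ?_)
        rw [← card_map_of_injective M.subtype_injective, subgroupOf_map_subtype]
        exact card_dvd_of_le inf_le_left
      have h2 : Nat.card M = 2 * Nat.card (centralizer ({q r} : Set (P ⧸ zpowers x))) := by
        rw [← card_mul_index ((q.subgroupComap (centralizer ({q r} : Set (P ⧸ zpowers x)))).ker), index_ker,
          MonoidHom.range_eq_top.mpr
            (MonoidHom.subgroupComap_surjective_of_surjective q _ (QuotientGroup.mk'_surjective _)), card_top]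
        congr 1
        rw [← hxz, ← Nat.card_zpowers]
        refine Nat.card_congr
          { toFun := fun a => ⟨(a.1 : P), (QuotientGroup.eq_one_iff _).mp (congrArg Subtype.val a.2)⟩
            invFun := fun a => ⟨⟨a.1, by
              show q a.1 ∈ centralizer ({q r} : Set (P ⧸ zpowers x))
              rw [show q a.1 = 1 from (QuotientGroup.eq_one_iff _).mpr a.2]; exact one_mem _⟩,
              Subtype.ext ((QuotientGroup.eq_one_iff _).mpr a.2)⟩
            left_inv := fun a => rfl
            right_inv := fun a => rfl }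
      omega
    have hlt : Nat.card (P ⧸ zpowers x) < n := by
      have := card_eq_card_quotient_mul_card_subgroup (zpowers x)
      rw [Nat.card_zpowers, hxz] at this
      have hpos : 0 < Nat.card (P ⧸ zpowers x) := Nat.card_pos
      omega
    obtain ⟨Cb, hCbc, hCbi⟩ := ih _ hlt (P ⧸ zpowers x) le_rfl (hP.to_quotient _) (q r) hr' hC'
    set C := Cb.comap q with hCdef
    have hCi : C.index ≤ 2 := by rwa [hCdef, index_comap_of_surjective _ (QuotientGroup.mk'_surjective _)]
    have hxC : x ∈ C := by
      show q x ∈ Cb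
      rw [show q x = 1 from (QuotientGroup.eq_one_iff x).mpr (mem_zpowers x)]
      exact one_mem _
    obtain ⟨⟨cb, hcb⟩, hgen⟩ := IsCyclic.exists_generator (α := Cb)
    obtain ⟨c, rfl⟩ := QuotientGroup.mk'_surjective _ cb
    have hdecomp : ∀ a ∈ C, ∃ i : ℤ, a = c ^ i ∨ a = c ^ i * x := by
      intro a ha
      obtain ⟨i, hi⟩ := hgen ⟨q a, ha⟩
      refine ⟨i, ?_⟩
      have h1 : (c ^ i)⁻¹ * a ∈ zpowers x := by
        refine (QuotientGroup.eq_one_iff _).mp ?_
        show q ((c ^ i)⁻¹ * a) = 1
        rw [map_mul, map_inv, map_zpow, inv_mul_eq_one]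
        exact congrArg Subtype.val hi
      rcases hmemX _ h1 with h' | h'
      · exact Or.inl (inv_mul_eq_one.mp h').symm
      · exact Or.inr (inv_mul_eq_iff_eq_mul.mp h')
    by_cases hcyc : x ∈ zpowers c
    · refine ⟨C, ?_, hCi⟩
      have hCeq : C = zpowers c := by
        refine le_antisymm (fun a ha => ?_) (zpowers_le.mpr hcb)
        obtain ⟨i, rfl | rfl⟩ := hdecomp a ha
        · exact zpow_mem (mem_zpowers c) i
        · exact mul_mem (zpow_mem (mem_zpowers c) i) hcyc
      rw [hCeq]
      infer_instance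
    have hcC : c ∈ C := hcb
    have hcom : ∀ a ∈ C, ∀ b ∈ C, a * b = b * a := by
      intro a ha b hb
      obtain ⟨i, hi⟩ := hdecomp a ha
      obtain ⟨j, hj⟩ := hdecomp b hb
      have hcx : ∀ i : ℤ, Commute (c ^ i) x := fun i => mem_center_iff.mp hx _
      have hcc : Commute (c ^ i) (c ^ j) := Commute.zpow_zpow (Commute.refl c) i j
      rcases hi with rfl | rfl <;> rcases hj with rfl | rfl
      · exact hcc.eq
      · exact (hcc.mul_right (hcx i)).eq
      · exact (hcc.mul_left (hcx j).symm).eq
      · exact ((hcc.mul_right (hcx i)).mul_left ((hcx j).symm.mul_right (Commute.refl x))).eq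
    by_cases hsmall : orderOf c ≤ 2
    · -- here `|P| ≤ 8`
      have hC4 : Nat.card C ≤ 4 := by
        classical
        have hsub : (C : Set P) ⊆ {1, c, x, c * x} := by
          intro a ha
          obtain ⟨i, hi⟩ := hdecomp a ha
          have : c ^ i = 1 ∨ c ^ i = c := by
            have hc2 : c ^ (2 : ℤ) = 1 := by
              rw [zpow_two]
              interval_cases h : orderOf c
              · exact absurd h (orderOf_pos c).ne'
              · rw [orderOf_eq_one_iff.mp h, mul_one]
              · rw [← pow_two, ← h, pow_orderOf_eq_one]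
            obtain ⟨j, rfl | rfl⟩ := Int.even_or_odd' i
            · left; rw [zpow_mul, hc2, one_zpow]
            · right; rw [zpow_add, zpow_mul, hc2, one_zpow, one_mul, zpow_one]
          rcases hi with rfl | rfl <;> rcases this with h | h <;> simp [h]
        rw [← SetLike.coe_sort_coe, Nat.card_coe_set_eq]
        refine (Set.ncard_le_ncard hsub).trans ?_
        refine (Set.ncard_insert_le _ _).trans (Nat.succ_le_succ ((Set.ncard_insert_le _ _).trans
          (Nat.succ_le_succ ((Set.ncard_insert_le _ _).trans (by simp)))))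
      have hP8 : Nat.card P ≤ 8 := by
        have := C.index_mul_card
        calc Nat.card P = C.index * Nat.card C := this.symm
          _ ≤ 2 * 4 := Nat.mul_le_mul hCi hC4
      obtain ⟨e, he⟩ : ∃ e : P, ¬ e * e = 1 := by
        by_contra hall
        push Not at hall
        apply hg₀
        have hinv : ∀ a : P, a⁻¹ = a := fun a => inv_eq_of_mul_eq_one_right (hall a)
        rw [← hinv (g₀ * r), mul_inv_rev, hinv, hinv]
      refine ⟨zpowers e, inferInstance, ?_⟩
      have h4 : 4 ≤ Nat.card (zpowers e) := by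
        rw [Nat.card_zpowers]
        obtain ⟨j, hj⟩ := hP e
        obtain ⟨i, -, hi⟩ := (Nat.dvd_prime_pow Nat.prime_two).mp (orderOf_dvd_of_pow_eq_one hj)
        rcases i with _ | _ | i
        · simp at hi; simp [hi] at he
        · exact absurd (by rw [← pow_two, ← (hi.trans (pow_one 2)), pow_orderOf_eq_one]) he
        · rw [hi]
          calc 4 = 2 ^ 2 := rfl
            _ ≤ 2 ^ (i + 2) := Nat.pow_le_pow_right two_pos (by omega)
      have := (zpowers e).index_mul_card
      by_contra h3
      have : 3 * 4 ≤ Nat.card P := this ▸ Nat.mul_le_mul (by omega) h4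
      omega
    exfalso
    push Not at hsmall
    obtain ⟨j, hj⟩ := hP c
    obtain ⟨i, -, hi⟩ := (Nat.dvd_prime_pow Nat.prime_two).mp (orderOf_dvd_of_pow_eq_one hj)
    obtain ⟨i, rfl⟩ : ∃ l, i = l + 2 := by
      rcases i with _ | _ | l
      · simp [hi] at hsmall
      · simp [hi] at hsmall
      · exact ⟨l, rfl⟩
    set e := c ^ 2 ^ (i + 1) with he
    have heord : orderOf e = 2 := by
      rw [he, orderOf_pow_of_dvd (pow_ne_zero _ two_ne_zero) (hi ▸ pow_dvd_pow 2 (by omega)), hi,
        Nat.pow_div (by omega) two_pos, show i + 2 - (i + 1) = 1 by omega, pow_one]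
    have heC : e ∈ C := pow_mem hcC _
    have hex : e ≠ x := fun h => hcyc (h ▸ pow_mem (mem_zpowers c) _)
    have hCn : C.Normal := by
      refine Subgroup.normal_of_index_eq_two ?_
      by_contra h2
      have : C.index = 1 := by
        have := index_ne_zero_of_finite (H := C)
        omega
      rw [index_eq_one] at this
      exact hg₀ (hcom g₀ (this ▸ mem_top g₀) r (this ▸ mem_top r))
    have here : r * e * r⁻¹ = e := by
      obtain ⟨k, hk⟩ := hdecomp _ (hCn.conj_mem c hcC r)
      have h1 : r * e * r⁻¹ = e ^ k := by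
        rw [he, ← conj_pow]
        rcases hk with hk | hk <;> rw [hk]
        · rw [← zpow_natCast, ← zpow_natCast, ← zpow_mul, ← zpow_mul, mul_comm]
        · rw [(show Commute (c ^ k) x from mem_center_iff.mp hx _).mul_pow, pow_succ' 2 i, pow_mul x, pow_two x, hxx,
            one_pow, mul_one, ← pow_succ' 2 i, ← zpow_natCast, ← zpow_natCast, ← zpow_mul, ← zpow_mul, mul_comm]
      have hee : e * e = 1 := by rw [← pow_two, ← heord, pow_orderOf_eq_one]
      obtain ⟨l, rfl | rfl⟩ := Int.even_or_odd' k
      · rw [zpow_mul, zpow_two, hee, one_zpow] at h1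
        exfalso
        have : e = 1 := conj_eq_one_iff.mp h1
        simp [this] at heord
      · rwa [zpow_add, zpow_mul, zpow_two, hee, one_zpow, one_mul, zpow_one] at h1
    set V := centralizer ({r} : Set P)
    have hrC : r ∉ C := fun h => by
      have hle : C ≤ V := fun a ha => mem_centralizer_singleton_iff.mpr (hcom a ha r h)
      have h8 : 2 ^ (i + 2) < Nat.card C := by
        rw [← hi, ← Nat.card_zpowers]
        refine lt_of_le_of_ne (Nat.le_of_dvd Nat.card_pos (card_dvd_of_le (zpowers_le.mpr hcC))) fun hh => hcyc ?_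
        exact (eq_of_le_of_card_ge (zpowers_le.mpr hcC) hh.ge).symm ▸ hxC
      have h4 : 2 ^ 2 ≤ 2 ^ (i + 2) := Nat.pow_le_pow_right two_pos (by omega)
      have := Nat.le_of_dvd Nat.card_pos (card_dvd_of_le hle)
      omega
    have hmem : ∀ w : P, w ∈ C ⊓ V ↔ w ∈ C ∧ w * r = r * w := fun w => by
      rw [mem_inf, mem_centralizer_singleton_iff]
    have he' : e ∈ C ⊓ V := (hmem e).mpr ⟨heC, (mul_inv_eq_iff_eq_mul.mp here).symm⟩
    have hx' : x ∈ C ⊓ V := (hmem x).mpr ⟨hxC, (mem_center_iff.mp hx r).symm⟩
    have h3 : 3 ≤ Nat.card (C ⊓ V : Subgroup P) := by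
      rw [← SetLike.coe_sort_coe, Nat.card_coe_set_eq]
      have : ({1, e, x} : Set P) ⊆ (C ⊓ V : Subgroup P) := by
        rintro a (rfl | rfl | rfl)
        · exact one_mem _
        · exact he'
        · exact hx'
      refine le_trans ?_ (Set.ncard_le_ncard this)
      rw [Set.ncard_eq_three.mpr ⟨1, e, x, fun h => by simp [← h] at heord, fun h => hx1 h.symm, hex, rfl⟩]
    have hlt' : C ⊓ V < V := lt_of_le_of_ne inf_le_right fun h =>
      hrC ((SetLike.ext_iff.mp h r).mpr (mem_centralizer_singleton_iff.mpr rfl : r ∈ V)).1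
    have h6 : 2 * Nat.card (C ⊓ V : Subgroup P) ≤ Nat.card V := by
      obtain ⟨t, ht⟩ := card_dvd_of_le (inf_le_right : C ⊓ V ≤ V)
      rw [ht, mul_comm]
      refine Nat.mul_le_mul_left _ ?_
      rcases t with _ | _ | t
      · rw [mul_zero] at ht; exact absurd ht Nat.card_pos.ne'
      · rw [zero_add, mul_one] at ht; exact absurd (eq_of_le_of_card_ge inf_le_right ht.le) hlt'.ne
      · omega
    omega

/-- In a 2-group with an involution whose centralizer has order at most 4, no involution centralizes a
subgroup of order at least 4 avoiding it. -/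
theorem false_of_small_centralizer {P : Type w} [Group P] [Finite P] (hP : IsPGroup 2 P) {r : P}
    (hr : orderOf r = 2) (hC : Nat.card (centralizer ({r} : Set P)) ≤ 4) {a : P} (ha : orderOf a = 2)
    {S : Subgroup P} (hS : S ≤ centralizer ({a} : Set P)) (haS : a ∉ S) (h4 : 4 ≤ Nat.card S) : False := by
  obtain ⟨C, hCc, hCi⟩ := exists_cyclic_index_two (Nat.card P) P le_rfl hP r hr hC
  set U := S ⊔ zpowers a
  have hU : 8 ≤ Nat.card U := by
    have hlt : S < U := lt_of_le_of_ne le_sup_left fun h => haS (h ▸ mem_sup_right (mem_zpowers a))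
    obtain ⟨t, ht⟩ := card_dvd_of_le (le_sup_left : S ≤ U)
    rcases t with _ | _ | t
    · rw [mul_zero] at ht; exact absurd ht Nat.card_pos.ne'
    · rw [zero_add, mul_one] at ht; exact absurd (eq_of_le_of_card_ge le_sup_left ht.le) hlt.ne
    · rw [ht]
      calc 8 = 4 * 2 := rfl
        _ ≤ Nat.card S * (t + 2) := Nat.mul_le_mul h4 (by omega)
  have hUa : U ≤ centralizer ({a} : Set P) :=
    sup_le hS (zpowers_le.mpr (mem_centralizer_singleton_iff.mpr rfl))
  by_cases hcen : ∀ g : P, g * r = r * g
  · have h1 : centralizer ({r} : Set P) = ⊤ :=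
      eq_top_iff.mpr fun g _ => mem_centralizer_singleton_iff.mpr (hcen g)
    rw [h1, card_top] at hC
    have := Nat.le_of_dvd Nat.card_pos (card_subgroup_dvd_card U)
    omega
  push Not at hcen
  obtain ⟨g₀, hg₀⟩ := hcen
  haveI := hCc
  have hcom : ∀ u ∈ C, ∀ v ∈ C, u * v = v * u := fun u hu v hv =>
    congrArg Subtype.val (mul_comm' (⟨u, hu⟩ : C) ⟨v, hv⟩)
  have hC2 : C.index = 2 := by
    have h0 := index_ne_zero_of_finite (H := C)
    by_contra h2
    have : C.index = 1 := by omega
    rw [index_eq_one] at this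
    exact hg₀ (hcom g₀ (this ▸ mem_top g₀) r (this ▸ mem_top r))
  have huniq : ∀ u ∈ C, ∀ v ∈ C, orderOf u = 2 → orderOf v = 2 → u = v := by
    intro u hu v hv hu2 hv2
    haveI : Fact (Nat.Prime 2) := ⟨Nat.prime_two⟩
    haveI : Fintype C := Fintype.ofFinite _
    have h := IsCyclic.card_orderOf_eq_totient (α := C) (d := 2)
      (by rw [← Nat.card_eq_fintype_card, ← hu2]; exact Subgroup.orderOf_dvd_natCard C hu)
    rw [Nat.totient_two] at h
    obtain ⟨w, hw⟩ := Finset.card_eq_one.mp h
    have h1 : (⟨u, hu⟩ : C) = w := Finset.mem_singleton.mp (hw ▸ by simp [Subgroup.orderOf_mk, hu2])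
    have h2 : (⟨v, hv⟩ : C) = w := Finset.mem_singleton.mp (hw ▸ by simp [Subgroup.orderOf_mk, hv2])
    exact congrArg Subtype.val (h1.trans h2.symm)
  by_cases hrC : r ∈ C
  · -- `r` would be the central involution
    apply hg₀
    have hn : C.Normal := Subgroup.normal_of_index_eq_two hC2
    have := huniq _ (hn.conj_mem r hrC g₀) r hrC (by rw [← hr]; exact (MulAut.conj g₀).orderOf_eq r) hr
    exact mul_inv_eq_iff_eq_mul.mp this
  by_cases haC : a ∈ C
  · have hSC : S ⊓ C = ⊥ := by
      by_contra h
      haveI := (nontrivial_iff_ne_bot _).mpr h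
      obtain ⟨w, hw⟩ := exists_prime_orderOf_dvd_card' (G := (S ⊓ C : Subgroup P)) (p := 2) (by
        obtain ⟨j, hj⟩ := IsPGroup.iff_card.mp (hP.to_subgroup (S ⊓ C))
        rcases j with _ | j
        · exact absurd ((S ⊓ C).eq_bot_of_card_eq (hj.trans (pow_zero 2))) h
        · rw [hj]; exact dvd_pow_self 2 (Nat.succ_ne_zero j))
      rw [← orderOf_coe] at hw
      exact haS (huniq _ w.2.2 a haC hw ha ▸ w.2.1)
    have h2 : Nat.card S ≤ 2 := by
      rw [← hC2]
      refine Nat.le_of_dvd (Nat.pos_of_ne_zero index_ne_zero_of_finite) ?_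
      have h5 : C.relIndex S = Nat.card S := by
        rw [relIndex, ← (C.subgroupOf S).index_mul_card, show C.subgroupOf S = ⊥ by
          rw [subgroupOf_eq_bot, disjoint_iff, inf_comm]; exact hSC, card_bot, mul_one, index_bot]
      haveI : C.Normal := Subgroup.normal_of_index_eq_two hC2
      exact h5 ▸ relIndex_dvd_index_of_normal C S
    omega
  · have hCC : C ⊓ centralizer ({a} : Set P) ≤ C ⊓ centralizer ({r} : Set P) := by
      rintro w ⟨hw, hwa⟩
      refine ⟨hw, mem_centralizer_singleton_iff.mpr ?_⟩
      have har : a * r ∈ C := by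
        rw [Subgroup.mul_mem_iff_of_index_two hC2]
        exact iff_of_false haC hrC
      have haa : a * a = 1 := by rw [← pow_two, ← ha, pow_orderOf_eq_one]
      have h1 := hcom w hw _ har
      rw [← mul_assoc, mem_centralizer_singleton_iff.mp hwa, mul_assoc, mul_assoc] at h1
      exact mul_left_cancel h1
    have hhalf : ∀ (V : Subgroup P), Nat.card V ≤ 2 * Nat.card (C ⊓ V : Subgroup P) := by
      intro V
      rw [← (C.subgroupOf V).index_mul_card]
      refine Nat.mul_le_mul ?_ (Nat.le_of_eq ?_)
      · haveI : C.Normal := Subgroup.normal_of_index_eq_two hC2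
        exact hC2 ▸ Nat.le_of_dvd (Nat.pos_of_ne_zero index_ne_zero_of_finite) (relIndex_dvd_index_of_normal C V)
      · rw [← card_map_of_injective V.subtype_injective, subgroupOf_map_subtype]
    have hlt : C ⊓ centralizer ({r} : Set P) < centralizer ({r} : Set P) :=
      lt_of_le_of_ne inf_le_right fun h =>
        hrC ((h ▸ (mem_centralizer_singleton_iff.mpr rfl : r ∈ centralizer ({r} : Set P))) : r ∈ C ⊓ _).1
    obtain ⟨t, ht⟩ := card_dvd_of_le (inf_le_right : C ⊓ centralizer ({r} : Set P) ≤ centralizer ({r} : Set P))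
    have h2 : Nat.card (C ⊓ centralizer ({r} : Set P) : Subgroup P) ≤ 2 := by
      rcases t with _ | _ | t
      · rw [mul_zero] at ht; exact absurd ht Nat.card_pos.ne'
      · rw [zero_add, mul_one] at ht; exact absurd (eq_of_le_of_card_ge inf_le_right ht.le) hlt.ne
      · rw [ht] at hC
        by_contra hh
        have : 3 * 2 ≤ Nat.card (C ⊓ centralizer ({r} : Set P) : Subgroup P) * (t + 1 + 1) :=
          Nat.mul_le_mul (by omega) (by omega)
        omega
    have h3 := hhalf U
    have h4' : Nat.card (C ⊓ U : Subgroup P) ≤ 2 :=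
      (Nat.le_of_dvd Nat.card_pos (card_dvd_of_le ((inf_le_inf_left C hUa).trans hCC))).trans h2
    omega

/-- A unipotent map of order `p` with a fixed space of order at most `p` on an elementary abelian group. -/
theorem zmod_unipotent {p : ℕ} [hp : Fact p.Prime] {V : Type*} [AddCommGroup V] [Finite V] [Module (ZMod p) V]
    (cr : Module.End (ZMod p) V) (hcrp : cr ^ p = 1) (hk1 : Nat.card (LinearMap.ker (cr - 1)) ≤ p) :
    Nat.card V ≤ p ^ p ∧
      (Nat.card V = p ^ p → LinearMap.ker (∑ i ∈ Finset.range p, cr ^ i) ≤ LinearMap.range (cr - 1)) ∧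
      (Nontrivial V → ∃ v : V, v ≠ 0 ∧ cr v = v) := by
  set f : Module.End (ZMod p) V := cr - 1 with hf
  have hpoly1 : ((Polynomial.X : Polynomial (ZMod p)) + 1) ^ p = Polynomial.X ^ p + 1 := by
    rw [add_pow_char, one_pow]
  have hpoly2 : ∑ i ∈ Finset.range p, ((Polynomial.X : Polynomial (ZMod p)) + 1) ^ i = Polynomial.X ^ (p - 1) := by
    apply mul_left_cancel₀ (Polynomial.X_ne_zero (R := ZMod p))
    rw [← pow_succ', Nat.sub_add_cancel hp.out.pos]
    have := geom_sum_mul ((Polynomial.X : Polynomial (ZMod p)) + 1) p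
    rw [add_sub_cancel_right, hpoly1, add_sub_cancel_right] at this
    rw [mul_comm]
    exact this
  have hfp : f ^ p = 0 := by
    have h := congrArg (Polynomial.aeval (R := ZMod p) f) hpoly1
    simp only [map_pow, map_add, map_one, Polynomial.aeval_X, hf, sub_add_cancel, hcrp] at h
    exact (add_eq_right.mp h.symm)
  have hnorm : ∑ i ∈ Finset.range p, cr ^ i = f ^ (p - 1) := by
    have h := congrArg (Polynomial.aeval (R := ZMod p) f) hpoly2
    simp only [map_sum, map_pow, map_add, map_one, Polynomial.aeval_X, hf, sub_add_cancel] at h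
    exact h
  have hstep : ∀ n, Nat.card (LinearMap.ker (f ^ (n + 1))) ≤ p * Nat.card (LinearMap.ker (f ^ n)) := by
    intro n
    let g : LinearMap.ker (f ^ (n + 1)) →ₗ[ZMod p] LinearMap.ker (f ^ n) :=
      (f.domRestrict _).codRestrict _ fun v => by
        rw [LinearMap.mem_ker, LinearMap.domRestrict_apply, ← Module.End.mul_apply, ← pow_succ]
        exact v.2
    have h1 : Nat.card (LinearMap.ker (f ^ (n + 1))) =
        Nat.card g.toAddMonoidHom.range * Nat.card g.toAddMonoidHom.ker := by
      rw [← g.toAddMonoidHom.ker.index_mul_card, AddSubgroup.index_ker]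
    rw [h1, mul_comm p]
    refine Nat.mul_le_mul (Nat.le_of_dvd Nat.card_pos (AddSubgroup.card_addSubgroup_dvd_card _)) ?_
    refine le_trans ?_ hk1
    refine Nat.card_le_card_of_injective
      (fun v => (⟨(v.1 : V), by
        have := congrArg Subtype.val v.2
        exact this⟩ : LinearMap.ker f)) fun a b h => ?_
    exact Subtype.ext (Subtype.ext (congrArg Subtype.val h :))
  have hkn : ∀ n, Nat.card (LinearMap.ker (f ^ n)) ≤ p ^ n := by
    intro n
    induction n with
    | zero =>
      rw [pow_zero, pow_zero, Module.End.one_eq_id, LinearMap.ker_id]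
      simp
    | succ n ih => exact (hstep n).trans (by rw [pow_succ']; exact Nat.mul_le_mul_left _ ih)
  refine ⟨?_, fun hV => ?_, fun hnt => ?_⟩
  · have := hkn p
    rw [hfp, LinearMap.ker_zero] at this
    rwa [Nat.card_congr (Equiv.subtypeUnivEquiv fun v => Submodule.mem_top)] at this
  · have hle : LinearMap.range f ≤ LinearMap.ker (f ^ (p - 1)) := by
      rintro _ ⟨v, rfl⟩
      rw [LinearMap.mem_ker, ← Module.End.mul_apply, ← pow_succ, Nat.sub_add_cancel hp.out.pos, hfp]
      rfl
    rw [hnorm]
    intro v hv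
    have hset : (LinearMap.range f : Set V) = (LinearMap.ker (f ^ (p - 1)) : Set V) := by
      refine Set.eq_of_subset_of_ncard_le hle ?_
      rw [← Nat.card_coe_set_eq, ← Nat.card_coe_set_eq]
      refine (hkn (p - 1)).trans ?_
      have h1 : Nat.card V = Nat.card f.toAddMonoidHom.range * Nat.card f.toAddMonoidHom.ker := by
        rw [← f.toAddMonoidHom.ker.index_mul_card, AddSubgroup.index_ker]
      rw [hV] at h1
      have h2 : Nat.card f.toAddMonoidHom.ker ≤ p := hk1
      refine Nat.le_of_mul_le_mul_right ?_ hp.out.pos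
      rw [← pow_succ, Nat.sub_add_cancel hp.out.pos, h1]
      exact Nat.mul_le_mul_left _ h2
    exact hset.ge hv
  · by_contra hno
    push Not at hno
    have hinj : ∀ v : V, f v = 0 → v = 0 := by
      intro v hv
      by_contra h0
      rw [hf, LinearMap.sub_apply, sub_eq_zero] at hv
      exact hno v h0 hv
    obtain ⟨v, hv⟩ := exists_ne (0 : V)
    have hpow : ∀ m : ℕ, (f ^ m) v ≠ 0 := by
      intro m
      induction m with
      | zero => simpa using hv
      | succ m ihm =>
        rw [pow_succ', Module.End.mul_apply]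
        exact fun h => ihm (hinj _ h)
    exact hpow p (by rw [hfp]; rfl)

theorem addMonoidHom_unipotent {p : ℕ} [hp : Fact p.Prime] {V : Type*} [AddCommGroup V] [Finite V]
    [Module (ZMod p) V] (c : V →+ V) (hcp : ∀ v, c^[p] v = v) (hk1 : Nat.card {v : V // c v = v} ≤ p) :
    Nat.card V ≤ p ^ p ∧
      (Nat.card V = p ^ p → ∀ v, ∑ i ∈ Finset.range p, c^[i] v = 0 → ∃ w, c w - w = v) ∧
      (Nontrivial V → ∃ v : V, v ≠ 0 ∧ c v = v) := by
  set cr : Module.End (ZMod p) V := c.toZModLinearMap p
  have hpow : ∀ (i : ℕ) (v : V), (cr ^ i) v = c^[i] v := fun i v => by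
    rw [Module.End.pow_apply]
    rfl
  have h1 : cr ^ p = 1 := LinearMap.ext fun v => (hpow p v).trans (hcp v)
  have h2 : Nat.card (LinearMap.ker (cr - 1)) ≤ p := by
    refine le_trans (Nat.card_congr (Equiv.subtypeEquivRight fun v => ?_)).le hk1
    rw [LinearMap.mem_ker, LinearMap.sub_apply, sub_eq_zero]
    rfl
  obtain ⟨a, b, d⟩ := zmod_unipotent cr h1 h2
  refine ⟨a, fun h v hv => ?_, d⟩
  obtain ⟨w, hw⟩ := b h (x := v) (by
    rw [LinearMap.mem_ker, LinearMap.sum_apply, ← hv]
    exact Finset.sum_congr rfl fun i _ => hpow i v)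
  exact ⟨w, hw⟩

/-- A normal elementary abelian subgroup of order at least `p ^ p` in a `p`-group with an element of order
`p` whose centralizer has order `p ^ 2` has order `p ^ p` and index `p`. -/
theorem card_eq_of_elementary_normal {p : ℕ} [hp : Fact p.Prime] (hp2 : p ≠ 2) {P : Type w} [Group P]
    [Finite P] (hP : IsPGroup p P) {r : P} (hr : orderOf r = p)
    (hC : Nat.card (centralizer ({r} : Set P)) = p ^ 2) {B : Subgroup P} [hBn : B.Normal]
    (hBc : ∀ a ∈ B, ∀ b ∈ B, a * b = b * a) (hBe : ∀ a ∈ B, a ^ p = 1) (hcard : p ^ p ≤ Nat.card B) :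
    Nat.card P = p ^ (p + 1) ∧ Nat.card B = p ^ p := by
  have hp3 : 3 ≤ p := by
    have := hp.out.two_le
    omega
  have hrB : r ∉ B := by
    intro h
    have hle : B ≤ centralizer ({r} : Set P) := fun a ha => mem_centralizer_singleton_iff.mpr (hBc a ha r h)
    have h1 := hcard.trans (Nat.le_of_dvd Nat.card_pos (card_dvd_of_le hle))
    rw [hC] at h1
    have := (Nat.pow_le_pow_iff_right hp.out.one_lt).mp h1
    omega
  let _ : CommGroup B := { (inferInstance : Group B) with mul_comm := fun a b => Subtype.ext (hBc a a.2 b b.2) }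
  let cH : B →* B :=
    { toFun := fun b => ⟨r * b * r⁻¹, hBn.conj_mem b b.2 r⟩
      map_one' := Subtype.ext (by simp)
      map_mul' := fun a b => Subtype.ext (by simp [mul_assoc]) }
  set c₀ : Additive B →+ Additive B := MonoidHom.toAdditive cH
  have hcr1 : ∀ v : Additive B, ((Additive.toMul (c₀ v) : B) : P) = r * (Additive.toMul v : B) * r⁻¹ :=
    fun v => rfl
  have hcrn : ∀ (n : ℕ) (v : Additive B), ((Additive.toMul (c₀^[n] v) : B) : P) =
      r ^ n * (Additive.toMul v : B) * (r ^ n)⁻¹ := by
    intro n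
    induction n with
    | zero => intro v; simp
    | succ n ih =>
      intro v
      rw [Function.iterate_succ_apply', hcr1, ih, pow_succ']
      group
  have hrp : r ^ p = 1 := by rw [← hr, pow_orderOf_eq_one]
  have hV : ∀ v : Additive B, p • v = 0 := fun v =>
    Additive.toMul.injective (by rw [toMul_nsmul, toMul_zero]; exact Subtype.ext (hBe _ (Additive.toMul v).2))
  have hfixed : ∀ v : Additive B, c₀ v = v →
      ((Additive.toMul v : B) : P) ∈ B ⊓ centralizer ({r} : Set P) := by
    intro v hv
    refine ⟨(Additive.toMul v).2, mem_centralizer_singleton_iff.mpr ?_⟩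
    have h1 := hcr1 v
    rw [hv] at h1
    exact (mul_inv_eq_iff_eq_mul.mp h1.symm).symm
  have hBCle : Nat.card (B ⊓ centralizer ({r} : Set P) : Subgroup P) ≤ p := by
    have hd := card_dvd_of_le (inf_le_right : B ⊓ centralizer ({r} : Set P) ≤ _)
    rw [hC, Nat.dvd_prime_pow hp.out] at hd
    obtain ⟨i, hi, he⟩ := hd
    rw [he]
    interval_cases i
    · simpa using hp.out.one_le
    · simp
    · exfalso
      have h := eq_of_le_of_card_ge inf_le_right (hC.trans he.symm).le
      exact hrB ((h.symm ▸ (mem_centralizer_singleton_iff.mpr rfl : r ∈ centralizer ({r} : Set P))) : r ∈ B ⊓ _).1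
  have hk1 : Nat.card {v : Additive B // c₀ v = v} ≤ p := by
    refine le_trans ?_ hBCle
    refine Nat.card_le_card_of_injective (fun v => (⟨(Additive.toMul v.1 : B), hfixed v.1 v.2⟩ :
      (B ⊓ centralizer ({r} : Set P) : Subgroup P))) fun a b h => ?_
    exact Subtype.ext (Additive.toMul.injective (Subtype.ext (congrArg Subtype.val h :)))
  obtain ⟨hle, hker, hfix⟩ := @addMonoidHom_unipotent p hp (Additive B) _ _ (AddCommGroup.zmodModule hV) c₀ (fun v =>
    Additive.toMul.injective (Subtype.ext (by rw [hcrn, hrp, one_mul, inv_one, mul_one]))) hk1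
  have hBeq : Nat.card B = p ^ p := le_antisymm ((Nat.card_congr Additive.toMul).symm.le.trans hle) hcard
  refine ⟨?_, hBeq⟩
  have hlift : ∀ n : P, n * r * n⁻¹ * r⁻¹ ∈ B → ∃ b ∈ B, b * n ∈ centralizer ({r} : Set P) := by
    intro n hn
    obtain ⟨c, hc⟩ : ∃ c : B, (c : P) = n * r * n⁻¹ * r⁻¹ := ⟨⟨_, hn⟩, rfl⟩
    have hsum : ∀ m : ℕ, ((Additive.toMul (∑ i ∈ Finset.range m, c₀^[i] (Additive.ofMul c)) : B) : P) =
        ((c : P) * r) ^ m * (r ^ m)⁻¹ := by
      intro m
      induction m with
      | zero => simp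
      | succ m ihm =>
        rw [Finset.sum_range_succ, toMul_add, Subgroup.coe_mul, ihm, hcrn, toMul_ofMul, pow_succ, pow_succ]
        group
    obtain ⟨v, hv⟩ := hker ((Nat.card_congr Additive.toMul).trans hBeq) (Additive.ofMul c) (by
      apply Additive.toMul.injective
      apply Subtype.ext
      rw [hsum, show (c : P) * r = n * r * n⁻¹ by rw [hc]; group, conj_pow, hrp]
      simp)
    refine ⟨(Additive.toMul v : B), (Additive.toMul v).2, mem_centralizer_singleton_iff.mpr ?_⟩
    set b : P := ((Additive.toMul v : B) : P) with hb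
    have h2 : (c : P) = b⁻¹ * (r * b * r⁻¹) := by
      have h := congrArg (fun w => ((Additive.toMul w : B) : P)) hv
      simp only [toMul_sub, toMul_ofMul, Subgroup.coe_div, div_eq_mul_inv, hcr1] at h
      rw [← h]
      exact hBc _ (hBn.conj_mem b (Additive.toMul v).2 r) b⁻¹ (inv_mem (Additive.toMul v).2)
    have h3 : n * r = b⁻¹ * (r * b) * n := by
      have : (c : P) * r * n = n * r := by rw [hc]; group
      rw [← this, h2]
      group
    rw [mul_assoc, h3]
    group
  -- the quotient has order `p`
  set q := QuotientGroup.mk' B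
  set Cb := centralizer ({q r} : Set (P ⧸ B))
  have hCb : Cb ≤ (centralizer ({r} : Set P)).map q := by
    intro z hz
    obtain ⟨n, rfl⟩ := QuotientGroup.mk'_surjective B z
    have h1 : n * r * n⁻¹ * r⁻¹ ∈ B := by
      refine (QuotientGroup.eq_one_iff _).mp ?_
      show q (n * r * n⁻¹ * r⁻¹) = 1
      rw [map_mul, map_mul, map_mul, mem_centralizer_singleton_iff.mp hz, map_inv, map_inv, mul_inv_cancel_right,
        mul_inv_cancel]
    obtain ⟨b, hb, hbn⟩ := hlift n h1
    refine ⟨b * n, hbn, ?_⟩
    rw [map_mul, show q b = 1 from (QuotientGroup.eq_one_iff b).mpr hb, one_mul]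
  have hBC : B ⊓ centralizer ({r} : Set P) ≠ ⊥ := by
    intro h
    haveI : Nontrivial B := Finite.one_lt_card_iff_nontrivial.mp
      (lt_of_lt_of_le (Nat.one_lt_pow hp.out.ne_zero hp.out.one_lt) hcard)
    obtain ⟨v, hv0, hv⟩ := hfix Additive.toMul.nontrivial
    have h2 := hfixed v hv
    rw [h, mem_bot] at h2
    exact hv0 (Additive.toMul.injective (Subtype.ext h2))
  have hCbp : Nat.card Cb ≤ p := by
    refine (Nat.le_of_dvd Nat.card_pos (card_dvd_of_le hCb)).trans ?_
    have h1 : Nat.card ((centralizer ({r} : Set P)).map q) * Nat.card (q.subgroupMap (centralizer ({r} : Set P))).ker = p ^ 2 := by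
      rw [← hC, ← (q.subgroupMap (centralizer ({r} : Set P))).ker.index_mul_card, index_ker,
        MonoidHom.range_eq_top.mpr (q.subgroupMap_surjective _), card_top]
    have h2 : 2 ≤ Nat.card (q.subgroupMap (centralizer ({r} : Set P))).ker := by
      rw [Nat.succ_le_iff, one_lt_card_iff_ne_bot]
      intro hk
      apply hBC
      rw [eq_bot_iff]
      rintro w ⟨hwB, hwC⟩
      have : (⟨w, hwC⟩ : centralizer ({r} : Set P)) ∈ (q.subgroupMap _).ker :=
        Subtype.ext ((QuotientGroup.eq_one_iff w).mpr hwB)
      rw [hk, mem_bot] at this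
      exact mem_bot.mpr (congrArg Subtype.val this)
    obtain ⟨i, hi, he⟩ := (Nat.dvd_prime_pow hp.out).mp (Dvd.intro _ h1)
    rw [he]
    interval_cases i
    · simpa using hp.out.one_le
    · simp
    · rw [he] at h1
      have h5 := Nat.eq_of_mul_eq_mul_left (pow_pos hp.out.pos 2) (h1.trans (mul_one _).symm)
      omega
  have hqr : orderOf (q r) = p := orderOf_eq_prime (by rw [← map_pow, ← hr, pow_orderOf_eq_one, map_one])
    fun h => hrB ((QuotientGroup.eq_one_iff r).mp h)
  have hCbe : Cb = zpowers (q r) :=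
    (eq_of_le_of_card_ge (zpowers_le.mpr (mem_centralizer_singleton_iff.mpr rfl))
      (by rw [Nat.card_zpowers, hqr]; exact hCbp)).symm
  have hQp : IsPGroup p (P ⧸ B) := hP.to_quotient B
  haveI : Nontrivial (P ⧸ B) := ⟨⟨q r, 1, fun h => hrB ((QuotientGroup.eq_one_iff r).mp h)⟩⟩
  haveI := hQp.center_nontrivial
  obtain ⟨⟨z, hz⟩, hz1⟩ := exists_ne (1 : center (P ⧸ B))
  have hzC : z ∈ zpowers (q r) := hCbe ▸ mem_centralizer_singleton_iff.mpr (mem_center_iff.mp hz (q r)).symm
  have hzgen : zpowers z = zpowers (q r) := by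
    refine eq_of_le_of_card_ge (zpowers_le.mpr hzC) ?_
    rw [Nat.card_zpowers, Nat.card_zpowers]
    have h := (Nat.dvd_prime hp.out).mp (hqr ▸ Nat.card_zpowers (q r) ▸ Subgroup.orderOf_dvd_natCard _ hzC)
    rcases h with h | h
    · exact absurd (Subtype.ext (orderOf_eq_one_iff.mp h)) hz1
    · rw [h, hqr]
  have htop : Cb = ⊤ := eq_top_iff.mpr fun w _ => mem_centralizer_singleton_iff.mpr (by
    obtain ⟨i, hi⟩ := hzgen.ge (mem_zpowers (q r))
    rw [← hi]
    exact ((show Commute w z from mem_center_iff.mp hz w).zpow_right i).eq)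
  rw [card_eq_card_quotient_mul_card_subgroup B, hBeq, ← card_top (G := P ⧸ B), ← htop, hCbe,
    Nat.card_zpowers, hqr, pow_succ']

end CfsgLib.Tech46.Terminal
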