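import Cfsg.Agent.Lib.Tech46.Balance
import Cfsg.Agent.Lib.Components.PComponent

/-!
Subgroups of `G` seen in the quotients `H / O_{p'}(H)`: images, preimages, descent to centralizers of
`p`-subgroups, and transport along automorphisms of `G`.
-/

set_option autoImplicit false

namespace CfsgLib.Tech46.Terminal

open Subgroup CfsgLib.Components
open scoped commutatorElement

variable {G : Type*} [Group G] {p : ℕ}

/-- `H / O_{p'}(H)`. -/
abbrev Bar (p : ℕ) (H : Subgroup G) : Type _ := ↥H ⧸ Cfsg.pPrimeCore p ↥H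

/-- The image of `S ∩ H` in `H / O_{p'}(H)`. -/
def img (p : ℕ) (H S : Subgroup G) : Subgroup (Bar p H) :=
  (S.subgroupOf H).map (QuotientGroup.mk' (Cfsg.pPrimeCore p ↥H))

/-- The full preimage in `G` of a subgroup of `H / O_{p'}(H)`. -/
def lift (p : ℕ) (H : Subgroup G) (B : Subgroup (Bar p H)) : Subgroup G :=
  (B.comap (QuotientGroup.mk' (Cfsg.pPrimeCore p ↥H))).map H.subtype

/-- `O_{p'}(H)` inside `G`. -/
def core (p : ℕ) (H : Subgroup G) : Subgroup G := (Cfsg.pPrimeCore p ↥H).map H.subtype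

/-- Descent of `B` to the subgroup `X` of `H`. -/
def desc (p : ℕ) (H X : Subgroup G) (B : Subgroup (Bar p H)) : Subgroup (Bar p X) :=
  img p X (lift p H B ⊓ X)

/-- The image of an element of `H`. -/
abbrev bmk (p : ℕ) {H : Subgroup G} {g : G} (hg : g ∈ H) : Bar p H :=
  QuotientGroup.mk' (Cfsg.pPrimeCore p ↥H) ⟨g, hg⟩

theorem mem_lift {H : Subgroup G} {B : Subgroup (Bar p H)} {g : G} :
    g ∈ lift p H B ↔ ∃ hg : g ∈ H, bmk p hg ∈ B :=
  ⟨fun ⟨z, hz, h⟩ => h ▸ ⟨z.2, hz⟩, fun ⟨hg, h⟩ => ⟨⟨g, hg⟩, h, rfl⟩⟩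

theorem mem_core {H : Subgroup G} {g : G} : g ∈ core p H ↔ ∃ hg : g ∈ H, bmk p hg = 1 :=
  ⟨fun ⟨z, hz, h⟩ => h ▸ ⟨z.2, (QuotientGroup.eq_one_iff _).mpr hz⟩,
    fun ⟨hg, h⟩ => ⟨⟨g, hg⟩, (QuotientGroup.eq_one_iff _).mp h, rfl⟩⟩

theorem mem_img {H S : Subgroup G} {y : Bar p H} :
    y ∈ img p H S ↔ ∃ g, ∃ hg : g ∈ H, g ∈ S ∧ bmk p hg = y :=
  ⟨fun ⟨z, hz, h⟩ => ⟨z, z.2, hz, h⟩, fun ⟨g, hg, hS, h⟩ => ⟨⟨g, hg⟩, hS, h⟩⟩

theorem bmk_mem_img {H S : Subgroup G} {g : G} (hg : g ∈ H) (hS : g ∈ S) : bmk p hg ∈ img p H S :=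
  mem_img.mpr ⟨g, hg, hS, rfl⟩

theorem exists_bmk {H : Subgroup G} (y : Bar p H) : ∃ g, ∃ hg : g ∈ H, bmk p hg = y := by
  obtain ⟨z, hz⟩ := QuotientGroup.mk'_surjective _ y
  exact ⟨z, z.2, hz⟩

theorem bmk_mul {H : Subgroup G} {a b : G} (ha : a ∈ H) (hb : b ∈ H) :
    bmk p ha * bmk p hb = bmk p (mul_mem ha hb) :=
  (map_mul (QuotientGroup.mk' (Cfsg.pPrimeCore p ↥H)) ⟨a, ha⟩ ⟨b, hb⟩).symm

theorem bmk_inv {H : Subgroup G} {a : G} (ha : a ∈ H) : (bmk p ha)⁻¹ = bmk p (inv_mem ha) :=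
  (map_inv (QuotientGroup.mk' (Cfsg.pPrimeCore p ↥H)) ⟨a, ha⟩).symm

theorem bmk_pow {H : Subgroup G} {a : G} (ha : a ∈ H) (n : ℕ) :
    (bmk p ha) ^ n = bmk p (pow_mem ha n) :=
  (map_pow (QuotientGroup.mk' (Cfsg.pPrimeCore p ↥H)) ⟨a, ha⟩ n).symm

theorem lift_le (H : Subgroup G) (B : Subgroup (Bar p H)) : lift p H B ≤ H := map_subtype_le _

theorem core_le (H : Subgroup G) : core p H ≤ H := map_subtype_le _

theorem lift_mono {H : Subgroup G} {B B' : Subgroup (Bar p H)} (h : B ≤ B') :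
    lift p H B ≤ lift p H B' :=
  map_mono (comap_mono h)

theorem img_mono {H S S' : Subgroup G} (h : S ≤ S') : img p H S ≤ img p H S' :=
  map_mono fun _ hz => h hz

theorem core_le_lift (H : Subgroup G) (B : Subgroup (Bar p H)) : core p H ≤ lift p H B :=
  map_mono fun z hz => by
    show QuotientGroup.mk' _ z ∈ B
    rw [show QuotientGroup.mk' (Cfsg.pPrimeCore p ↥H) z = 1 from (QuotientGroup.eq_one_iff z).mpr hz]
    exact one_mem B

theorem subgroupOf_lift (H : Subgroup G) (B : Subgroup (Bar p H)) :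
    (lift p H B).subgroupOf H = B.comap (QuotientGroup.mk' (Cfsg.pPrimeCore p ↥H)) :=
  comap_map_eq_self_of_injective H.subtype_injective _

theorem img_lift (H : Subgroup G) (B : Subgroup (Bar p H)) : img p H (lift p H B) = B := by
  rw [img, subgroupOf_lift, map_comap_eq_self_of_surjective (QuotientGroup.mk'_surjective _)]

theorem img_eq_bot_of_le_core {H S : Subgroup G} (h : S ≤ core p H) : img p H S = ⊥ := by
  rw [eq_bot_iff]
  rintro y hy
  obtain ⟨g, hg, hS, rfl⟩ := mem_img.mp hy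
  obtain ⟨_, h1⟩ := mem_core.mp (h hS)
  exact h1

theorem le_core_of_img_eq_bot {H S : Subgroup G} (hS : S ≤ H) (h : img p H S = ⊥) :
    S ≤ core p H := fun g hg =>
  mem_core.mpr ⟨hS hg, by simpa [h] using bmk_mem_img (p := p) (hS hg) hg⟩

theorem img_commutator_of_le {H S T : Subgroup G} (hS : S ≤ H) (hT : T ≤ H) :
    img p H ⁅S, T⁆ = ⁅img p H S, img p H T⁆ := by
  rw [img, img, img, ← map_commutator]
  congr 1
  apply map_injective H.subtype_injective
  rw [map_commutator, map_subgroupOf_eq_of_le hS, map_subgroupOf_eq_of_le hT,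
    map_subgroupOf_eq_of_le ((commutator_mono hS hT).trans (commutator_le_self H))]

theorem conj_mem_lift {H : Subgroup G} {B : Subgroup (Bar p H)} {g : G} (hg : g ∈ H)
    (hn : bmk p hg ∈ normalizer (B : Set (Bar p H))) : g ∈ normalizer (lift p H B : Set G) := by
  rw [mem_normalizer_iff]
  intro k
  rw [mem_lift, mem_lift]
  constructor
  · rintro ⟨hk, hb⟩
    refine ⟨mul_mem (mul_mem hg hk) (inv_mem hg), ?_⟩
    rw [← bmk_mul (mul_mem hg hk) (inv_mem hg), ← bmk_mul hg hk, ← bmk_inv hg]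
    exact (mem_normalizer_iff.mp hn _).mp hb
  · rintro ⟨hk, hb⟩
    have hk' : k ∈ H := by simpa [mul_assoc] using mul_mem (mul_mem (inv_mem hg) hk) hg
    refine ⟨hk', (mem_normalizer_iff.mp hn _).mpr ?_⟩
    rw [bmk_inv hg, bmk_mul hg hk', bmk_mul]
    exact hb

theorem le_normalizer_core (H : Subgroup G) : H ≤ normalizer (core p H : Set G) := by
  intro g hg
  have hlift : core p H = lift p H ⊥ := by
    rw [core, lift, MonoidHom.comap_bot, QuotientGroup.ker_mk']
  rw [hlift]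
  exact conj_mem_lift hg (by rw [normalizer_eq_top]; exact mem_top _)

variable [Finite G]

theorem core_coprime (H : Subgroup G) : (Nat.card (core p H)).Coprime p := by
  rw [core, card_map_of_injective H.subtype_injective]
  exact CfsgLib.PCore.pPrimeCore_coprime

theorem core_inf_le {H X : Subgroup G} (hX : X ≤ H) : core p H ⊓ X ≤ core p X := by
  intro g hg
  haveI hn : ((core p H).subgroupOf X).Normal := normal_subgroupOf_of_le_normalizer (hX.trans (le_normalizer_core H))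
  refine ⟨⟨g, hg.2⟩, CfsgLib.PCore.le_pPrimeCore hn ?_ (show (⟨g, hg.2⟩ : X) ∈ (core p H).subgroupOf X from hg.1), rfl⟩
  refine (core_coprime H).coprime_dvd_left ?_
  rw [← card_map_of_injective X.subtype_injective, subgroupOf_map_subtype]
  exact card_dvd_of_le inf_le_left

variable [hp : Fact p.Prime]

omit [Finite G] hp in
theorem pow_mem_of_mem {H : Subgroup G} {g : G} (hg : g ∈ H) (n : ℕ) : g ^ n ∈ H := pow_mem hg n

/-- A `p`-element of the core is trivial. -/
theorem eq_one_of_mem_core {H : Subgroup G} {g : G} (hg : g ∈ core p H) {n : ℕ}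
    (hn : g ^ p ^ n = 1) : g = 1 :=
  orderOf_eq_one_iff.mp (Nat.eq_one_of_dvd_coprimes ((core_coprime H).pow_right n)
    (orderOf_dvd_natCard _ hg) (orderOf_dvd_of_pow_eq_one hn))

theorem orderOf_bmk {H : Subgroup G} {g : G} (hg : g ∈ H) {n : ℕ} (hn : g ^ p ^ n = 1) :
    orderOf (bmk p hg) = orderOf g := by
  have h2 : orderOf (⟨g, hg⟩ : H) = orderOf g := Subgroup.orderOf_mk g hg
  refine Nat.dvd_antisymm ((orderOf_map_dvd _ _).trans h2.dvd) (orderOf_dvd_of_pow_eq_one ?_)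
  have h3 : g ^ orderOf (bmk p hg) ∈ core p H := mem_core.mpr ⟨pow_mem hg _, by
    rw [← bmk_pow hg, pow_orderOf_eq_one]⟩
  exact eq_one_of_mem_core h3 (n := n) (by rw [← pow_mul, mul_comm, pow_mul, hn, one_pow])

theorem bmk_eq_one_iff {H : Subgroup G} {g : G} (hg : g ∈ H) {n : ℕ} (hn : g ^ p ^ n = 1) :
    bmk p hg = 1 ↔ g = 1 := by
  refine ⟨fun h => eq_one_of_mem_core (mem_core.mpr ⟨hg, h⟩) hn, ?_⟩
  rintro rfl
  exact map_one (QuotientGroup.mk' (Cfsg.pPrimeCore p ↥H))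

omit hp in
theorem bmk_commute {H : Subgroup G} {a b : G} (ha : a ∈ H) (hb : b ∈ H) (h : a * b = b * a) :
    bmk p ha * bmk p hb = bmk p hb * bmk p ha := by
  rw [bmk_mul, bmk_mul]
  simp only [bmk, h]

/-- Coprime action: the image of the centralizer of a `p`-subgroup. -/
theorem img_centralizer {H R : Subgroup G} (hR : IsPGroup p R) (hRH : R ≤ H) :
    img p H (H ⊓ centralizer (R : Set G)) = centralizer (img p H R : Set (Bar p H)) := by
  have hR' : IsPGroup p (R.subgroupOf H) := hR.comap_of_injective _ H.subtype_injective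
  rw [img, img, ← map_centralizer_quotient CfsgLib.PCore.pPrimeCore_coprime hR']
  congr 1
  ext z
  simp only [mem_subgroupOf, mem_inf, z.2, true_and, mem_centralizer_iff, SetLike.mem_coe]
  exact ⟨fun h r hr => Subtype.ext (h r hr), fun h r hr => congrArg Subtype.val (h ⟨r, hRH hr⟩ hr)⟩

/-- An element whose image centralizes the image of a `p`-subgroup is congruent to one centralizing
that subgroup. -/
theorem exists_centralizing_rep {H R : Subgroup G} (hR : IsPGroup p R) (hRH : R ≤ H) {y : Bar p H}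
    (hy : y ∈ centralizer (img p H R : Set (Bar p H))) :
    ∃ g, ∃ hg : g ∈ H, g ∈ centralizer (R : Set G) ∧ bmk p hg = y := by
  rw [← img_centralizer hR hRH] at hy
  obtain ⟨g, hg, hgC, h⟩ := mem_img.mp hy
  exact ⟨g, hg, hgC.2, h⟩

section Transport

omit hp

variable (e : G ≃* G)

/-- Transport of `H / O_{p'}(H)` along an automorphism. -/
noncomputable def barEquiv (H : Subgroup G) : Bar p H ≃* Bar p (H.map e.toMonoidHom) :=
  QuotientGroup.congr _ _ (e.subgroupMap H) (CfsgLib.PCore.map_pPrimeCore_equiv (p := p) (e.subgroupMap H))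

theorem barEquiv_bmk {H : Subgroup G} {g : G} (hg : g ∈ H) :
    barEquiv (p := p) e H (bmk p hg) = bmk p (mem_map_of_mem e.toMonoidHom hg) :=
  rfl

theorem img_map (H S : Subgroup G) :
    img p (H.map e.toMonoidHom) (S.map e.toMonoidHom) = (img p H S).map (barEquiv e H).toMonoidHom := by
  ext y
  constructor
  · intro hy
    obtain ⟨g, hg, hS, rfl⟩ := mem_img.mp hy
    obtain ⟨s, hs, rfl⟩ := hS
    obtain ⟨h, hh, he⟩ := hg
    obtain rfl : h = s := e.injective he
    exact ⟨bmk p hh, bmk_mem_img hh hs, barEquiv_bmk e hh⟩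
  · rintro ⟨z, hz, rfl⟩
    obtain ⟨g, hg, hS, rfl⟩ := mem_img.mp hz
    exact mem_img.mpr ⟨e g, mem_map_of_mem e.toMonoidHom hg, mem_map_of_mem e.toMonoidHom hS,
      (barEquiv_bmk e hg).symm⟩

theorem lift_map (H : Subgroup G) (B : Subgroup (Bar p H)) :
    lift p (H.map e.toMonoidHom) (B.map (barEquiv e H).toMonoidHom) = (lift p H B).map e.toMonoidHom := by
  ext g
  constructor
  · intro hg
    obtain ⟨hgH, z, hz, hzg⟩ := mem_lift.mp hg
    obtain ⟨h, hh, rfl⟩ := hgH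
    have : bmk p hh = z := (barEquiv (p := p) e H).injective ((barEquiv_bmk e hh).trans hzg.symm)
    exact ⟨h, mem_lift.mpr ⟨hh, this ▸ hz⟩, rfl⟩
  · rintro ⟨h, hh, rfl⟩
    obtain ⟨hhH, hB⟩ := mem_lift.mp hh
    exact mem_lift.mpr ⟨mem_map_of_mem e.toMonoidHom hhH, _, hB, barEquiv_bmk e hhH⟩

end Transport

end CfsgLib.Tech46.Terminal
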