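import Cfsg.Agent.Lib.Tech46.Terminal.Orbit

/-!
Counting lemmas for centreless components of equal size: a lower bound for the centralizer of a component,
and the invariant elementary abelian subgroup spanned by elements with disjoint supports.
-/

set_option autoImplicit false

namespace CfsgLib.Tech46.Terminal

open Subgroup CfsgLib.Components
open scoped commutatorElement Pointwise

variable {Y : Type*} [Group Y] [Finite Y] {p : ℕ} [hp : Fact p.Prime]

/-- The centreless components of order `m`. -/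
def bigSet (Y : Type*) [Group Y] (m : ℕ) : Set (Subgroup Y) :=
  {K | Cfsg.IsComponent K ∧ topCard K = m ∧ Nat.card K = m}

omit hp in
theorem center_trivial_of_card {K : Subgroup Y} {m : ℕ} (h1 : topCard K = m) (h2 : Nat.card K = m) :
    K ⊓ centralizer (K : Set Y) = ⊥ := by
  rw [← map_center_subtype, Subgroup.map_eq_bot_iff, ker_subtype, le_bot_iff]
  refine (center K).eq_bot_of_card_eq ?_
  have h := card_eq_card_quotient_mul_card_subgroup (center K)
  rw [h2, show Nat.card (↥K ⧸ center ↥K) = m from h1] at h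
  exact (Nat.eq_of_mul_eq_mul_left (h2 ▸ Nat.card_pos) (by rw [mul_one, ← h])).symm

omit hp in
theorem bigSet_join_inf_centralizer {m : ℕ} {𝒯 : Set (Subgroup Y)} (h : 𝒯 ⊆ bigSet Y m) :
    sSup 𝒯 ⊓ centralizer ((sSup 𝒯 : Subgroup Y) : Set Y) = ⊥ :=
  sSup_inf_centralizer_eq_bot
    (fun _ hL _ hM hne => commutator_components_eq_bot (h hL).1 (h hM).1 hne)
    fun _ hL => center_trivial_of_card (h hL).2.1 (h hL).2.2

omit hp in
theorem map_mem_bigSet {m : ℕ} {K : Subgroup Y} (hK : K ∈ bigSet Y m) (g : Y) :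
    K.map (MulAut.conj g).toMonoidHom ∈ bigSet Y m :=
  ⟨isComponent_conj g hK.1, (topCard_map _ K).trans hK.2.1,
    (card_map_of_injective (MulAut.conj g).injective).trans hK.2.2⟩

omit hp in
theorem normal_bigSet_join (m : ℕ) : (sSup (bigSet Y m)).Normal := by
  rw [← normalizer_eq_top_iff, eq_top_iff]
  exact CfsgLib.Structure.le_normalizer_sSup fun g _ K hK => map_mem_bigSet hK g

omit hp in
theorem le_normalizer_of_le_layer {K : Subgroup Y} (hK : Cfsg.IsComponent K) {Z : Subgroup Y}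
    (hZ : Z ≤ Cfsg.layer Y) : Z ≤ normalizer (K : Set Y) :=
  hZ.trans (layer_le_normalizer_component hK)

omit hp in
theorem bigSet_join_le_layer (m : ℕ) {𝒯 : Set (Subgroup Y)} (h : 𝒯 ⊆ bigSet Y m) : sSup 𝒯 ≤ Cfsg.layer Y :=
  sSup_le fun _ hK => component_le_layer (h hK).1

omit hp in
/-- A component centralizes the join of a family of other components. -/
theorem sSup_le_centralizer_of_not_mem {𝒯 : Set (Subgroup Y)} (h : ∀ K ∈ 𝒯, Cfsg.IsComponent K)
    {J : Subgroup Y} (hJ : Cfsg.IsComponent J) (hmem : J ∉ 𝒯) : sSup 𝒯 ≤ centralizer (J : Set Y) :=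
  sSup_le fun K hK => le_centralizer_of_commutator_eq_bot
    (commutator_components_eq_bot (h K hK) hJ fun e => hmem (e ▸ hK))

omit hp in
/-- Components other than `J` centralized by a subgroup `A` of `C(J)` enlarge `C(J)` by their inner
automorphism groups. -/
theorem card_mul_pow_dvd {J : Subgroup Y} {A : Subgroup Y} {m : ℕ} (s : Finset (Subgroup Y))
    (hs : ∀ L ∈ s, Cfsg.IsComponent L ∧ topCard L = m) (hsJ : ∀ L ∈ s, L ≤ centralizer (J : Set Y))
    (hA : A ≤ centralizer (J : Set Y)) (hAs : ∀ L ∈ s, A ≤ centralizer (L : Set Y)) :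
    Nat.card A * m ^ s.card ∣ Nat.card (centralizer (J : Set Y)) := by
  classical
  set B : Subgroup Y := ⨆ L : {L // L ∈ s}, (L : Subgroup Y) with hB
  have hBJ : B ≤ centralizer (J : Set Y) := iSup_le fun L => hsJ L L.2
  have hBN : ∀ L : {L // L ∈ s}, B ≤ normalizer ((L : Subgroup Y) : Set Y) := fun L =>
    iSup_le fun M => component_le_normalizer (hs M M.2).1 (hs L L.2).1
  let Φ : B →* ((L : {L // L ∈ s}) → MulAut (L : Subgroup Y)) :=
    Pi.monoidHom fun L => (L : Subgroup Y).normalizerMonoidHom.comp (inclusion (hBN L))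
  set inn := fun L : {L // L ∈ s} => (MulAut.conj (G := ↥(L : Subgroup Y))).range
  have hrange : Subgroup.pi Set.univ inn ≤ Φ.range := by
    rw [pi_le_iff]
    rintro L _ ⟨_, ⟨⟨k, hk⟩, rfl⟩, rfl⟩
    refine ⟨⟨k, le_iSup (fun L : {L // L ∈ s} => (L : Subgroup Y)) L hk⟩, ?_⟩
    funext M
    by_cases hM : M = L
    · subst hM
      show (M : Subgroup Y).normalizerMonoidHom _ = _
      rw [MonoidHom.mulSingle_apply, Pi.mulSingle_eq_same]
      exact normalizerMonoidHom_self ⟨k, hk⟩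
    · show (M : Subgroup Y).normalizerMonoidHom _ = _
      rw [MonoidHom.mulSingle_apply, Pi.mulSingle_eq_of_ne hM]
      refine (normalizerMonoidHom_eq_one_iff _).mpr ?_
      exact le_centralizer_of_commutator_eq_bot
        (commutator_components_eq_bot (hs L L.2).1 (hs M M.2).1 fun e => hM (Subtype.ext e.symm)) hk
  have hpi : Nat.card (Subgroup.pi Set.univ inn) = m ^ s.card := by
    rw [Nat.card_congr (show Subgroup.pi Set.univ inn ≃ ((L : {L // L ∈ s}) → inn L) from
      { toFun := fun f L => ⟨f.1 L, f.2 L trivial⟩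
        invFun := fun f => ⟨fun L => f L, fun L _ => (f L).2⟩
        left_inv := fun f => rfl
        right_inv := fun f => rfl }), Nat.card_pi]
    rw [Finset.prod_congr rfl (fun L _ => show Nat.card (inn L) = m from
      (card_conj_range (L : Subgroup Y)).trans (hs L L.2).2), Finset.prod_const, Finset.card_univ,
      Fintype.card_coe]
  have hd1 : m ^ s.card ∣ Nat.card Φ.range := hpi ▸ card_dvd_of_le hrange
  have hcomm : ∀ a : A, ∀ b : B, Commute (a : Y) (b : Y) := fun a b => by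
    have hle : B ≤ centralizer ({(a : Y)} : Set Y) := iSup_le fun L l hl =>
      mem_centralizer_singleton_iff.mpr (mem_centralizer_iff.mp (hAs L L.2 a.2) l hl)
    exact (mem_centralizer_singleton_iff.mp (hle b.2)).symm
  let ψ : A × B →* Y := MonoidHom.noncommCoprod A.subtype B.subtype hcomm
  have hψ : ψ.range ≤ centralizer (J : Set Y) := by
    rintro _ ⟨⟨a, b⟩, rfl⟩
    exact mul_mem (hA a.2) (hBJ b.2)
  let g : ψ.ker →* Φ.ker :=
    { toFun := fun z => ⟨z.1.2, by
        rw [MonoidHom.mem_ker]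
        funext L
        refine (normalizerMonoidHom_eq_one_iff (hBN L z.1.2.2)).mpr ?_
        have h : (z.1.1 : Y) * z.1.2 = 1 := z.2
        rw [← inv_eq_of_mul_eq_one_right h]
        exact inv_mem (hAs L L.2 z.1.1.2)⟩
      map_one' := rfl
      map_mul' := fun _ _ => rfl }
  have hg : Function.Injective g := fun z w h => by
    have h2 : z.1.2 = w.1.2 := congrArg Subtype.val h
    refine Subtype.ext (Prod.ext ?_ h2)
    have hz : (z.1.1 : Y) * z.1.2 = 1 := z.2
    have hw : (w.1.1 : Y) * w.1.2 = 1 := w.2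
    rw [← h2] at hw
    exact Subtype.ext (mul_right_cancel (hz.trans hw.symm))
  have hd2 : Nat.card ψ.ker ∣ Nat.card Φ.ker := card_dvd_of_injective g hg
  have e1 : Nat.card A * Nat.card B = Nat.card ψ.range * Nat.card ψ.ker := by
    rw [← Nat.card_prod, ← ψ.ker.index_mul_card, index_ker]
  have e2 : Nat.card B = Nat.card Φ.range * Nat.card Φ.ker := by
    rw [← Φ.ker.index_mul_card, index_ker]
  refine (mul_dvd_mul_left _ hd1).trans (dvd_trans ?_ (card_dvd_of_le hψ))
  refine Nat.dvd_of_mul_dvd_mul_right (Nat.card_pos : 0 < Nat.card Φ.ker) ?_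
  rw [mul_assoc, ← e2, e1]
  exact mul_dvd_mul_left _ hd2

/-- A normal subgroup of order at most `p` of a `p`-group is central. -/
theorem commute_of_small_normal {Z : Type*} [Group Z] [Finite Z] (hZ : IsPGroup p Z) (N : Subgroup Z)
    [N.Normal] (hN : Nat.card N ≤ p) {a b : Z} (ha : a ∈ N) : a * b = b * a := by
  by_cases hb : N = ⊥
  · rw [hb, mem_bot] at ha
    simp [ha]
  obtain ⟨z, hzN, hzc, hz1⟩ := CfsgLib.Techniques.KInf.exists_mem_center hZ N hb
  have hle : zpowers z ≤ N := zpowers_le.mpr hzN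
  have heq : zpowers z = N := by
    refine eq_of_le_of_card_ge hle (hN.trans ?_)
    rw [Nat.card_zpowers]
    obtain ⟨k, hk⟩ := hZ z
    obtain ⟨i, -, hi⟩ := (Nat.dvd_prime_pow hp.out).mp (orderOf_dvd_of_pow_eq_one hk)
    rcases i with _ | i
    · exact absurd (orderOf_eq_one_iff.mp (hi.trans (pow_zero p))) hz1
    · rw [hi]
      exact Nat.le_self_pow (Nat.succ_ne_zero i) p
  rw [← heq] at ha
  obtain ⟨j, rfl⟩ := ha
  exact ((show Commute b z from mem_center_iff.mp hzc b).zpow_right j).symm.eq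

/-- The image in `Aut K` of a `p`-subgroup acting as inner automorphisms. -/
theorem card_map_le_pow {K : Subgroup Y} {m : ℕ} (hK : Cfsg.IsComponent K) (hm : topCard K = m)
    {R : Subgroup Y} (hR : IsPGroup p R) (hRE : R ≤ Cfsg.layer Y) :
    Nat.card (K.normalizerMonoidHom.comp (inclusion (le_normalizer_of_le_layer hK hRE))).range ≤
      p ^ m.factorization p := by
  set θ := K.normalizerMonoidHom.comp (inclusion (le_normalizer_of_le_layer hK hRE))
  have hle : θ.range ≤ (MulAut.conj (G := ↥K)).range := by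
    rintro _ ⟨g, rfl⟩
    obtain ⟨k, hk, hkg⟩ := exists_inner_rep hK (hRE g.2)
    exact ⟨⟨k, hk⟩, (normalizerMonoidHom_self ⟨k, hk⟩).symm.trans
      (normalizerMonoidHom_eq_of_mem _ (le_normalizer hk) hkg).symm⟩
  obtain ⟨k, hk⟩ := IsPGroup.iff_card.mp (hR.of_surjective _ θ.rangeRestrict_surjective)
  rw [hk]
  refine Nat.pow_le_pow_right hp.out.pos ((hp.out.pow_dvd_iff_le_factorization ?_).mp ?_)
  · rw [← hm, topCard]
    exact Nat.card_pos.ne'
  · rw [← hk, ← hm, ← card_conj_range]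
    exact card_dvd_of_le hle

/-- If every big component is normalized by the element `r` of a `p`-group `Q` and the `p`-part of their
order is `p`, then `r` centralizes the part of `Q` inside their join. -/
theorem commute_of_all_normalized {m : ℕ} (hm : m.factorization p ≤ 1) {Q : Subgroup Y} (hQ : IsPGroup p Q)
    {r : Y} (hrQ : r ∈ Q) (hr : ∀ K ∈ bigSet Y m, r ∈ normalizer (K : Set Y)) {b : Y} (hbQ : b ∈ Q)
    (hb : b ∈ sSup (bigSet Y m)) : r * b = b * r := by
  set W := sSup (bigSet Y m) with hW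
  haveI := normal_bigSet_join (Y := Y) m
  have hc : r * b * r⁻¹ * b⁻¹ ∈ W := mul_mem ((inferInstance : W.Normal).conj_mem b hb r) (inv_mem hb)
  have hcen : r * b * r⁻¹ * b⁻¹ ∈ centralizer (W : Set Y) := by
    have hle : W ≤ centralizer ({r * b * r⁻¹ * b⁻¹} : Set Y) := by
      refine sSup_le fun K hK k hk => mem_centralizer_singleton_iff.mpr ?_
      have hWN : W ≤ normalizer (K : Set Y) := le_normalizer_of_le_layer hK.1 (bigSet_join_le_layer m subset_rfl)
      set Q' := Q ⊓ normalizer (K : Set Y)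
      let θ : Q' →* MulAut K := K.normalizerMonoidHom.comp (inclusion inf_le_right)
      set Nb := (W.subgroupOf Q').map θ.rangeRestrict
      haveI : Nb.Normal := ((inferInstance : W.Normal).subgroupOf Q').map _ θ.rangeRestrict_surjective
      have hNb : Nat.card Nb ≤ p := by
        refine le_trans ?_ ((card_map_le_pow (p := p) hK.1 hK.2.1 (hQ.to_le (inf_le_left : Q ⊓ W ≤ Q))
          (inf_le_right.trans (bigSet_join_le_layer m subset_rfl))).trans
          ((Nat.pow_le_pow_right hp.out.pos hm).trans (pow_one p).le))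
        let g : Nb → (K.normalizerMonoidHom.comp (inclusion (le_normalizer_of_le_layer hK.1
            ((inf_le_right : Q ⊓ W ≤ W).trans (bigSet_join_le_layer m subset_rfl))))).range :=
          fun z => ⟨(z.1 : MulAut K), by
            obtain ⟨w, hw, he⟩ := z.2
            exact ⟨⟨w, w.2.1, hw⟩, congrArg Subtype.val he⟩⟩
        exact Nat.card_le_card_of_injective g fun z w h =>
          Subtype.ext (Subtype.ext (congrArg Subtype.val h :))
      have h1 := commute_of_small_normal (p := p) ((hQ.to_le inf_le_left).of_surjective _ θ.rangeRestrict_surjective) Nb hNb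
        (a := θ.rangeRestrict ⟨b, hbQ, hWN hb⟩) (b := θ.rangeRestrict ⟨r, hrQ, hr K hK⟩)
        ⟨⟨b, hbQ, hWN hb⟩, hb, rfl⟩
      have hn : r * b * r⁻¹ * b⁻¹ ∈ normalizer (K : Set Y) := hWN hc
      have h2 : K.normalizerMonoidHom ⟨r * b * r⁻¹ * b⁻¹, hn⟩ = 1 := by
        have h3 : θ ⟨b, hbQ, hWN hb⟩ * θ ⟨r, hrQ, hr K hK⟩ = θ ⟨r, hrQ, hr K hK⟩ * θ ⟨b, hbQ, hWN hb⟩ :=
          congrArg Subtype.val h1
        have : K.normalizerMonoidHom ⟨r * b * r⁻¹ * b⁻¹, hn⟩ =
            θ ⟨r, hrQ, hr K hK⟩ * θ ⟨b, hbQ, hWN hb⟩ * (θ ⟨r, hrQ, hr K hK⟩)⁻¹ * (θ ⟨b, hbQ, hWN hb⟩)⁻¹ := by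
          rw [← map_inv, ← map_inv, ← map_mul, ← map_mul, ← map_mul]
          rfl
        rw [this, ← h3, mul_inv_cancel_right, mul_inv_cancel]
      exact mem_centralizer_iff.mp ((normalizerMonoidHom_eq_one_iff hn).mp h2) k hk
    exact mem_centralizer_iff.mpr fun y hy => mem_centralizer_singleton_iff.mp (hle hy)
  have h0 : r * b * r⁻¹ * b⁻¹ ∈ W ⊓ centralizer (W : Set Y) := ⟨hc, hcen⟩
  rw [bigSet_join_inf_centralizer subset_rfl, mem_bot, mul_inv_eq_one, mul_inv_eq_iff_eq_mul] at h0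
  exact h0

/-- The configuration of `p - 1` disjointly supported full `p`-subgroups inside a `p`-group. -/
structure Spread (p m : ℕ) (Q : Subgroup Y) (O : Fin (p - 1) → Set (Subgroup Y))
    (S : Fin (p - 1) → Subgroup Y) : Prop where
  big : ∀ j, O j ⊆ bigSet Y m
  ne : ∀ j, (O j).Nonempty
  disj : ∀ i j, i ≠ j → Disjoint (O i) (O j)
  le_Q : ∀ j, S j ≤ Q
  le_join : ∀ j, S j ≤ sSup (O j)
  card : ∀ j, Nat.card (S j) = p ^ m.factorization p
  faithful : ∀ j, ∀ K ∈ O j, S j ⊓ centralizer (K : Set Y) = ⊥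

/-- A spread configuration in a `p`-group with cyclic `Ω₁` of the centre gives an elementary abelian normal
subgroup of order at least `p ^ p`. -/
theorem exists_elementary_normal (hp2 : p ≠ 2) (hO : Cfsg.pPrimeCore p Y = ⊥) {m : ℕ} {Q : Subgroup Y}
    (hQ : IsPGroup p Q) {x₀ : Y}
    (hcen : ∀ v ∈ Q, orderOf v = p → (∀ w ∈ Q, v * w = w * v) → v ∈ zpowers x₀) (hx₀ : orderOf x₀ = p)
    {O : Fin (p - 1) → Set (Subgroup Y)} {S : Fin (p - 1) → Subgroup Y} (h : Spread p m Q O S) :
    ∃ B : Subgroup Y, B ≤ Q ∧ Q ≤ normalizer (B : Set Y) ∧ (∀ a ∈ B, ∀ b ∈ B, a * b = b * a) ∧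
      (∀ a ∈ B, a ^ p = 1) ∧ p ^ p ≤ Nat.card B ∧ B ≤ sSup (bigSet Y m) := by
  classical
  have hp3 : 3 ≤ p := by
    have := hp.out.two_le
    omega
  set W := sSup (bigSet Y m) with hW
  haveI hWn := normal_bigSet_join (Y := Y) m
  have hWE : W ≤ Cfsg.layer Y := bigSet_join_le_layer m subset_rfl
  obtain ⟨P0, hP0⟩ := hQ.exists_le_sylow
  set R0 := (P0 : Subgroup Y) ⊓ W
  have hR0 : IsPGroup p R0 := P0.2.to_le inf_le_left
  have hcW : ∀ w ∈ W, (∀ K ∈ bigSet Y m, w ∈ centralizer (K : Set Y)) → w = 1 := by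
    intro w hw hc
    have hle : W ≤ centralizer ({w} : Set Y) := sSup_le fun K hK k hk =>
      mem_centralizer_singleton_iff.mpr (mem_centralizer_iff.mp (hc K hK) k hk)
    have : w ∈ W ⊓ centralizer (W : Set Y) :=
      ⟨hw, mem_centralizer_iff.mpr fun y hy => mem_centralizer_singleton_iff.mp (hle hy)⟩
    rwa [bigSet_join_inf_centralizer subset_rfl, mem_bot] at this
  have hSR : ∀ j, S j ≤ R0 := fun j =>
    le_inf ((h.le_Q j).trans hP0) ((h.le_join j).trans (sSup_le_sSup (h.big j)))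
  have hout : ∀ j, ∀ K ∈ bigSet Y m, K ∉ O j → S j ≤ centralizer (K : Set Y) := fun j K hK hKj =>
    (h.le_join j).trans (sSup_le_centralizer_of_not_mem (fun L hL => (h.big j hL).1) hK.1 hKj)
  -- central elements of order `p` of the `S j`
  have hv : ∀ j, ∃ v ∈ S j, orderOf v = p ∧ ∀ r ∈ R0, v * r = r * v := by
    intro j
    obtain ⟨K₀, hK₀⟩ := h.ne j
    have hfac : 1 ≤ m.factorization p := by
      have hd := dvd_topCard (p := p) hO (h.big j hK₀).1
      rw [(h.big j hK₀).2.1] at hd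
      refine (hp.out.pow_dvd_iff_le_factorization ?_).mp (by rwa [pow_one])
      rw [← (h.big j hK₀).2.2]
      exact Nat.card_pos.ne'
    haveI : Nontrivial (S j) := by
      rw [← Finite.one_lt_card_iff_nontrivial, h.card]
      exact Nat.one_lt_pow (by omega) hp.out.one_lt
    have hSp : IsPGroup p (S j) := hQ.to_le (h.le_Q j)
    haveI := hSp.center_nontrivial
    obtain ⟨⟨⟨v, hvS⟩, hvc⟩, hv1⟩ := exists_ne (1 : center (S j))
    obtain ⟨k, hk⟩ := hSp ⟨v, hvS⟩
    have hk' : v ^ p ^ k = 1 := congrArg Subtype.val hk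
    obtain ⟨i, -, hi⟩ := (Nat.dvd_prime_pow hp.out).mp (orderOf_dvd_of_pow_eq_one hk')
    rcases i with _ | i
    · exact absurd (Subtype.ext (Subtype.ext (orderOf_eq_one_iff.mp (hi.trans (pow_zero p))))) hv1
    refine ⟨v ^ p ^ i, pow_mem hvS _, ?_, ?_⟩
    · rw [orderOf_pow_of_dvd (pow_ne_zero _ hp.out.ne_zero) (hi ▸ pow_dvd_pow p (Nat.le_succ i)), hi,
        Nat.pow_div (Nat.le_succ i) hp.out.pos, Nat.succ_sub (le_refl i), Nat.sub_self, pow_one]
    intro r hr
    refine Commute.pow_left ?_ _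
    show v * r = r * v
    have hvW : v ∈ W := (hSR j hvS).2
    have hc0 : v * r * v⁻¹ * r⁻¹ ∈ W := mul_mem (mul_mem (mul_mem hvW hr.2) (inv_mem hvW)) (inv_mem hr.2)
    refine mul_inv_eq_iff_eq_mul.mp (mul_inv_eq_one.mp (hcW _ hc0 fun K hK => ?_))
    by_cases hKj : K ∈ O j
    · have hRN : R0 ≤ normalizer (K : Set Y) := le_normalizer_of_le_layer hK.1 (inf_le_right.trans hWE)
      let θ : R0 →* MulAut K := K.normalizerMonoidHom.comp (inclusion hRN)
      have hinj : Function.Injective (θ.comp (inclusion (hSR j))) := by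
        rw [← MonoidHom.ker_eq_bot_iff, eq_bot_iff]
        intro s hs
        have h1 : (s : Y) ∈ S j ⊓ centralizer (K : Set Y) :=
          ⟨s.2, (normalizerMonoidHom_eq_one_iff _).mp (MonoidHom.mem_ker.mp hs)⟩
        rw [h.faithful j K hKj, mem_bot] at h1
        exact mem_bot.mpr (Subtype.ext h1)
      have heq : (θ.comp (inclusion (hSR j))).range = θ.range := by
        refine eq_of_le_of_card_ge (by rintro _ ⟨s, rfl⟩; exact ⟨_, rfl⟩) ?_
        rw [← Nat.card_congr (MonoidHom.ofInjective hinj).toEquiv, h.card]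
        exact card_map_le_pow hK.1 hK.2.1 hR0 (inf_le_right.trans hWE)
      obtain ⟨s, hs⟩ : θ ⟨r, hr⟩ ∈ (θ.comp (inclusion (hSR j))).range := heq ▸ ⟨_, rfl⟩
      have hvs : (⟨v, hSR j hvS⟩ : R0) * inclusion (hSR j) s = inclusion (hSR j) s * ⟨v, hSR j hvS⟩ :=
        Subtype.ext (show v * (s : Y) = (s : Y) * v from congrArg Subtype.val (mem_center_iff.mp hvc s).symm)
      have h2 := congrArg θ hvs
      rw [map_mul, map_mul] at h2
      change θ ⟨v, hSR j hvS⟩ * (θ.comp (inclusion (hSR j))) s =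
        (θ.comp (inclusion (hSR j))) s * θ ⟨v, hSR j hvS⟩ at h2
      rw [hs] at h2
      refine (normalizerMonoidHom_eq_one_iff (le_normalizer_of_le_layer hK.1 hWE hc0)).mp ?_
      have : K.normalizerMonoidHom ⟨v * r * v⁻¹ * r⁻¹, le_normalizer_of_le_layer hK.1 hWE hc0⟩ =
          θ ⟨v, hSR j hvS⟩ * θ ⟨r, hr⟩ * (θ ⟨v, hSR j hvS⟩)⁻¹ * (θ ⟨r, hr⟩)⁻¹ := by
        rw [← map_inv, ← map_inv, ← map_mul, ← map_mul, ← map_mul]
        rfl
      rw [this, h2, mul_inv_cancel_right, mul_inv_cancel]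
    · have hvK : v ∈ centralizer (K : Set Y) := hout j K hK hKj hvS
      have hrN : r ∈ normalizer (K : Set Y) := le_normalizer_of_le_layer hK.1 hWE hr.2
      have := mul_mem hvK (conj_mem_centralizer hrN (inv_mem hvK))
      rwa [← mul_assoc, ← mul_assoc] at this
  choose v hvS hvo hvc using hv
  let V : Subgroup Y :=
    { carrier := {u | u ∈ R0 ∧ u ^ p = 1 ∧ ∀ r ∈ R0, u * r = r * u}
      one_mem' := ⟨one_mem _, one_pow p, fun r _ => by rw [one_mul, mul_one]⟩
      mul_mem' := fun {a b} ha hb => ⟨mul_mem ha.1 hb.1, by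
          rw [(show Commute a b from ha.2.2 b hb.1).mul_pow, ha.2.1, hb.2.1, one_mul],
        fun r hr => ((show Commute a r from ha.2.2 r hr).mul_left (show Commute b r from hb.2.2 r hr)).eq⟩
      inv_mem' := fun {a} ha => ⟨inv_mem ha.1, by rw [inv_pow, ha.2.1, inv_one],
        fun r hr => (show Commute a r from ha.2.2 r hr).inv_left.eq⟩ }
  have hPR : Q ≤ normalizer (R0 : Set Y) := fun g hg => mem_normalizer_iff.mpr fun u =>
    and_congr (mem_normalizer_iff.mp (le_normalizer (hP0 hg)) u)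
      ⟨fun hu => hWn.conj_mem u hu g, fun hu => by simpa [mul_assoc] using hWn.conj_mem _ hu g⁻¹⟩
  have hQV : ∀ g ∈ Q, ∀ u ∈ V, g * u * g⁻¹ ∈ V := by
    intro g hg u hu
    refine ⟨(mem_normalizer_iff.mp (hPR hg) u).mp hu.1, by rw [conj_pow, hu.2.1]; group, fun r hr => ?_⟩
    have := hu.2.2 (g⁻¹ * r * g) ((mem_normalizer_iff''.mp (hPR hg) r).mp hr)
    calc g * u * g⁻¹ * r = g * (u * (g⁻¹ * r * g)) * g⁻¹ := by group
      _ = g * ((g⁻¹ * r * g) * u) * g⁻¹ := by rw [this]
      _ = r * (g * u * g⁻¹) := by group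
  set B := Q ⊓ V with hB
  have hBn : Q ≤ normalizer (B : Set Y) := fun g hg => mem_normalizer_iff.mpr fun u =>
    ⟨fun hu => mem_inf.mpr ⟨mul_mem (mul_mem hg hu.1) (inv_mem hg), hQV g hg u hu.2⟩, fun hu => by
      have h1 := mul_mem (mul_mem (inv_mem hg) hu.1) hg
      have h2 := hQV g⁻¹ (inv_mem hg) _ hu.2
      simp only [inv_inv] at h2
      exact mem_inf.mpr ⟨by simpa [mul_assoc] using h1, by simpa [mul_assoc] using h2⟩⟩
  have hvB : ∀ j, v j ∈ B := fun j =>
    ⟨h.le_Q j (hvS j), hSR j (hvS j), by rw [← hvo j, pow_orderOf_eq_one], hvc j⟩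
  have hBc : ∀ a ∈ B, ∀ b ∈ B, a * b = b * a := fun a ha b hb => ha.2.2.2 b hb.2.1
  refine ⟨B, inf_le_left, hBn, hBc, fun a ha => ha.2.2.1, ?_, fun a ha => ha.2.1.2⟩
  by_contra hlt
  push Not at hlt
  obtain ⟨e, he⟩ := IsPGroup.iff_card.mp (hQ.to_le (inf_le_left : B ≤ Q))
  rw [he, Nat.pow_lt_pow_iff_right hp.out.one_lt] at hlt
  -- supports
  set supp : Y → Set (Subgroup Y) := fun u => {K ∈ bigSet Y m | u ∉ centralizer (K : Set Y)}
  let _ : CommGroup B := { (inferInstance : Group B) with mul_comm := fun a b => Subtype.ext (hBc a a.2 b b.2) }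
  let vB : Fin (p - 1) → B := fun j => ⟨v j, hvB j⟩
  let Φ : (Fin (p - 1) → Fin p) → B := fun c => ∏ j, vB j ^ (c j : ℕ)
  have hin : ∀ j, ∀ K ∈ O j, v j ∉ centralizer (K : Set Y) := fun j K hK hc => by
    have : v j ∈ S j ⊓ centralizer (K : Set Y) := ⟨hvS j, hc⟩
    rw [h.faithful j K hK, mem_bot] at this
    exact hp.out.ne_one (by rw [← hvo j, this, orderOf_one])
  have hother : ∀ j, ∀ K ∈ bigSet Y m, K ∉ O j → v j ∈ centralizer (K : Set Y) := fun j K hK hKj =>
    hout j K hK hKj (hvS j)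
  have hpowc : ∀ j (n : ℤ), ∀ K ∈ O j, v j ^ n ∈ centralizer (K : Set Y) → (p : ℤ) ∣ n := by
    intro j n K hK hc
    have : v j ^ n ∈ S j ⊓ centralizer (K : Set Y) := ⟨zpow_mem (hvS j) _, hc⟩
    rw [h.faithful j K hK, mem_bot, ← orderOf_dvd_iff_zpow_eq_one, hvo j] at this
    exact this
  have hsplit : ∀ (c : Fin (p - 1) → Fin p) j, ∀ K ∈ bigSet Y m, (∀ i, i ≠ j → K ∉ O i) →
      ∃ u ∈ centralizer (K : Set Y), ((Φ c : B) : Y) = v j ^ (c j : ℕ) * u := by
    intro c j K hK hKi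
    refine ⟨((∏ i ∈ Finset.univ.erase j, vB i ^ (c i : ℕ) : B) : Y), ?_, ?_⟩
    · show (∏ i ∈ Finset.univ.erase j, vB i ^ (c i : ℕ) : B) ∈ (centralizer (K : Set Y)).subgroupOf B
      refine Subgroup.prod_mem _ fun i hi => ?_
      exact pow_mem (show v i ∈ centralizer (K : Set Y) from hother i K hK (hKi i (Finset.ne_of_mem_erase hi))) _
    · rw [← Subgroup.coe_pow B (vB j), ← Subgroup.coe_mul]
      exact congrArg Subtype.val (Finset.mul_prod_erase Finset.univ _ (Finset.mem_univ j)).symm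
  have hdisj : ∀ {i j K}, K ∈ O i → K ∈ O j → i = j := fun {i j K} hi hj => by
    by_contra hne
    exact Set.disjoint_left.mp (h.disj i j hne) hi hj
  have hinj : Function.Injective Φ := by
    intro c d hcd
    funext j
    obtain ⟨K, hK⟩ := h.ne j
    have hKi : ∀ i, i ≠ j → K ∉ O i := fun i hi hKi => hi (hdisj hKi hK)
    obtain ⟨u, hu, e1⟩ := hsplit c j K (h.big j hK) hKi
    obtain ⟨w, hw, e2⟩ := hsplit d j K (h.big j hK) hKi
    rw [hcd, e2] at e1
    have h1 : v j ^ ((d j : ℤ) - (c j : ℤ)) ∈ centralizer (K : Set Y) := by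
      rw [zpow_sub, zpow_natCast, zpow_natCast, ← ((Commute.refl (v j)).pow_pow _ _).inv_left.eq,
        show (v j ^ (c j : ℕ))⁻¹ * v j ^ (d j : ℕ) = u * w⁻¹ by
          rw [inv_mul_eq_iff_eq_mul, ← mul_assoc, eq_mul_inv_iff_mul_eq]
          exact e1]
      exact mul_mem hu (inv_mem hw)
    obtain ⟨k, hk⟩ := hpowc j _ K hK h1
    have := (c j).isLt
    have := (d j).isLt
    have hk0 : k = 0 := by
      rcases lt_trichotomy k 0 with hk' | hk' | hk'
      · have : (p : ℤ) * k ≤ -p := by nlinarith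
        omega
      · exact hk'
      · have : (p : ℤ) ≤ p * k := by nlinarith
        omega
    subst hk0
    apply Fin.ext
    omega
  have hsurj : Function.Surjective Φ := by
    refine (hinj.bijective_of_nat_card_le ?_).2
    rw [he, Nat.card_pi, Finset.prod_const, Finset.card_univ, Fintype.card_fin, Nat.card_fin]
    exact Nat.pow_le_pow_right hp.out.pos (by omega)
  have hsupp : ∀ c, supp ((Φ c : B) : Y) = ⋃ i ∈ {i | (c i : ℕ) ≠ 0}, O i := by
    intro c
    ext K
    simp only [supp, Set.mem_setOf_eq, Set.mem_iUnion, exists_prop]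
    constructor
    · rintro ⟨hK, hnc⟩
      by_cases hex : ∃ i, K ∈ O i
      · obtain ⟨i, hi⟩ := hex
        refine ⟨i, fun h0 => hnc ?_, hi⟩
        obtain ⟨u, hu, e1⟩ := hsplit c i K hK fun i' hne hi' => hne (hdisj hi' hi)
        rw [e1, h0, pow_zero, one_mul]
        exact hu
      · push Not at hex
        exfalso
        obtain ⟨u, hu, e1⟩ := hsplit c ⟨0, by omega⟩ K hK fun i _ => hex i
        rw [e1] at hnc
        exact hnc (mul_mem (pow_mem (hother _ K hK (hex _)) _) hu)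
    · rintro ⟨i, hi0, hi⟩
      refine ⟨h.big i hi, fun hc => ?_⟩
      obtain ⟨u, hu, e1⟩ := hsplit c i K (h.big i hi) fun i' hne hi' => hne (hdisj hi' hi)
      have h1 := mul_mem hc (inv_mem hu)
      rw [e1, mul_inv_cancel_right, ← zpow_natCast] at h1
      have h2 := Int.natCast_dvd_natCast.mp (hpowc i _ K hi h1)
      have h3 := Nat.le_of_dvd (Nat.pos_of_ne_zero hi0) h2
      have := (c i).isLt
      omega
  have hsv : ∀ j, supp (v j) = O j := fun j => by
    ext K
    exact ⟨fun ⟨hK, hc⟩ => by_contra fun hKj => hc (hother j K hK hKj), fun hK => ⟨h.big j hK, hin j K hK⟩⟩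
  let act : Y → Set (Subgroup Y) → Set (Subgroup Y) := fun g T =>
    (fun K : Subgroup Y => K.map (MulAut.conj g).toMonoidHom) '' T
  have hact : ∀ a b : Y, ∀ T, act a (act b T) = act (a * b) T := fun a b T => by
    simp only [act, Set.image_image, map_conj_map_conj]
  have hc1 : ∀ K : Subgroup Y, K.map (MulAut.conj (1 : Y)).toMonoidHom = K := fun K => by ext; simp
  have hact1 : ∀ T, act 1 T = T := fun T => by simp only [act, hc1, Set.image_id']
  have hsa : ∀ g u : Y, supp (g * u * g⁻¹) = act g (supp u) := by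
    intro g u
    have key : ∀ g u : Y, act g (supp u) ⊆ supp (g * u * g⁻¹) := by
      rintro g u _ ⟨K, ⟨hK, hc⟩, rfl⟩
      refine ⟨map_mem_bigSet hK g, fun hc' => hc (mem_centralizer_iff.mpr fun k hk => ?_)⟩
      refine (MulAut.conj g).injective ?_
      rw [map_mul, map_mul]
      exact mem_centralizer_iff.mp hc' _ ⟨k, hk, rfl⟩
    refine (key g u).antisymm' ?_
    have h1 := key g⁻¹ (g * u * g⁻¹)
    rw [show g⁻¹ * (g * u * g⁻¹) * g⁻¹⁻¹ = u by group] at h1
    intro K hK
    refine ⟨_, h1 ⟨K, hK, rfl⟩, ?_⟩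
    simp only [map_conj_map_conj, mul_inv_cancel, hc1]
  have hperm : ∀ g ∈ Q, ∀ j, ∃ i, act g (O j) = O i := by
    intro g hg j
    have hgB : ∀ g ∈ Q, ∀ j, g * v j * g⁻¹ ∈ B := fun g hg j => (mem_normalizer_iff.mp (hBn hg) _).mp (hvB j)
    obtain ⟨c, hc⟩ := hsurj ⟨_, hgB g hg j⟩
    have h1 : act g (O j) = ⋃ i ∈ {i | (c i : ℕ) ≠ 0}, O i := by
      rw [← hsupp c, hc, hsa, hsv]
    obtain ⟨K, hK⟩ := h.ne j
    have hKm : K.map (MulAut.conj g).toMonoidHom ∈ act g (O j) := ⟨K, hK, rfl⟩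
    rw [h1] at hKm
    simp only [Set.mem_iUnion, exists_prop] at hKm
    obtain ⟨i, hi, -⟩ := hKm
    refine ⟨i, ?_⟩
    obtain ⟨d, hd⟩ := hsurj ⟨_, hgB g⁻¹ (inv_mem hg) i⟩
    have h2 : act g⁻¹ (O i) = ⋃ l ∈ {l | (d l : ℕ) ≠ 0}, O l := by
      rw [← hsupp d, hd, hsa, hsv]
    have hsub : act g⁻¹ (O i) ⊆ O j := by
      have : O i ⊆ act g (O j) := h1 ▸ Set.subset_biUnion_of_mem (u := O) hi
      refine (Set.image_mono this).trans (le_of_eq ?_)
      show act g⁻¹ (act g (O j)) = O j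
      rw [hact, inv_mul_cancel, hact1]
    have heq : act g⁻¹ (O i) = O j := by
      obtain ⟨L, hL⟩ := h.ne i
      have hLm : L.map (MulAut.conj g⁻¹).toMonoidHom ∈ act g⁻¹ (O i) := ⟨L, hL, rfl⟩
      rw [h2] at hLm
      simp only [Set.mem_iUnion, exists_prop] at hLm
      obtain ⟨l, hl, hLl⟩ := hLm
      have hsubl : O l ⊆ act g⁻¹ (O i) := h2 ▸ Set.subset_biUnion_of_mem (u := O) hl
      obtain rfl : l = j := hdisj hLl (hsub (hsubl hLl))
      exact Set.Subset.antisymm hsub hsubl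
    rw [← heq, hact, mul_inv_cancel, hact1]
  have hfixO : ∀ g ∈ Q, ∀ j, act g (O j) = O j := by
    intro g hg
    choose π hπ using hperm g hg
    have hπi : Function.Injective π := by
      intro a b hab
      have h1 : act g (O a) = act g (O b) := by rw [hπ a, hπ b, hab]
      have h2 : O a = O b := by
        have := congrArg (act g⁻¹) h1
        rwa [hact, hact, inv_mul_cancel, hact1, hact1] at this
      obtain ⟨K, hK⟩ := h.ne a
      exact hdisj hK (h2 ▸ hK)
    let σ : Equiv.Perm (Fin (p - 1)) := Equiv.ofBijective π (Finite.injective_iff_bijective.mp hπi)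
    have hk : ∀ k : ℕ, ∀ j, act (g ^ k) (O j) = O ((σ ^ k) j) := by
      intro k
      induction k with
      | zero => intro j; rw [pow_zero, pow_zero, hact1]; rfl
      | succ k ih =>
        intro j
        rw [pow_succ', ← hact, ih, hπ, pow_succ', Equiv.Perm.mul_apply]
        rfl
    obtain ⟨n, hn⟩ := hQ ⟨g, hg⟩
    have hn' : g ^ p ^ n = 1 := congrArg Subtype.val hn
    have hσn : σ ^ p ^ n = 1 := by
      ext j
      have h1 := hk (p ^ n) j
      rw [hn', hact1] at h1
      obtain ⟨K, hK⟩ := h.ne j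
      exact congrArg Fin.val (hdisj hK (h1 ▸ hK)).symm
    have hcop : ((p - 1).factorial).Coprime (p ^ n) := by
      refine Nat.Coprime.pow_right n (hp.out.coprime_iff_not_dvd.mpr fun hd => ?_).symm
      have := hp.out.dvd_factorial.mp hd
      omega
    have hσ1 : σ = 1 := by
      refine orderOf_eq_one_iff.mp (Nat.eq_one_of_dvd_coprimes hcop ?_ (orderOf_dvd_of_pow_eq_one hσn))
      have h1 := orderOf_dvd_natCard σ
      rwa [Nat.card_perm, Nat.card_fin] at h1
    intro j
    rw [hπ j]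
    exact congrArg O (Equiv.ext_iff.mp hσ1 j)
  have hcentral : ∀ j, v j ∈ zpowers x₀ := by
    intro j
    refine hcen (v j) (hvB j).1 (hvo j) fun w hw => ?_
    let N : Subgroup Q := (zpowers (v j)).subgroupOf Q
    haveI : N.Normal := by
      refine ⟨fun a ha g => ?_⟩
      obtain ⟨k, hk⟩ := (mem_subgroupOf.mp ha)
      obtain ⟨c, hc⟩ := hsurj ⟨(g : Y) * v j * (g : Y)⁻¹, (mem_normalizer_iff.mp (hBn g.2) _).mp (hvB j)⟩
      have h1 := hsupp c
      rw [hc, hsa, hsv, hfixO g g.2] at h1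
      have hzero : ∀ i, i ≠ j → (c i : ℕ) = 0 := by
        intro i hij
        by_contra h0
        obtain ⟨K, hK⟩ := h.ne i
        have hKj : K ∈ O j := h1.symm ▸ Set.mem_biUnion (x := i) (h0 : i ∈ {i | (c i : ℕ) ≠ 0}) hK
        exact hij (hdisj hK hKj)
      have h2 : (g : Y) * v j * (g : Y)⁻¹ = v j ^ (c j : ℕ) := by
        have h3 : Φ c = vB j ^ (c j : ℕ) :=
          Finset.prod_eq_single j (fun i _ hij => by rw [hzero i hij, pow_zero]) fun hj => absurd (Finset.mem_univ j) hj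
        rw [hc] at h3
        exact congrArg Subtype.val h3
      show (g : Y) * a * (g : Y)⁻¹ ∈ zpowers (v j)
      rw [← hk, ← conj_zpow, h2]
      exact zpow_mem (pow_mem (mem_zpowers _) _) _
    have hNc : Nat.card N ≤ p := by
      have h1 := Nat.le_of_dvd Nat.card_pos (card_dvd_of_le (inf_le_left : zpowers (v j) ⊓ Q ≤ _))
      rw [Nat.card_zpowers, hvo j] at h1
      rwa [← card_map_of_injective Q.subtype_injective, subgroupOf_map_subtype]
    exact congrArg Subtype.val (commute_of_small_normal hQ N hNc (a := ⟨v j, (hvB j).1⟩) (b := ⟨w, hw⟩)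
      (mem_zpowers (v j)))
  have hj01 : (⟨0, by omega⟩ : Fin (p - 1)) ≠ ⟨1, by omega⟩ := fun h => by simp [Fin.ext_iff] at h
  set j0 : Fin (p - 1) := ⟨0, by omega⟩
  set j1 : Fin (p - 1) := ⟨1, by omega⟩
  have hz : zpowers (v j1) = zpowers x₀ :=
    eq_of_le_of_card_ge (zpowers_le.mpr (hcentral j1)) (by rw [Nat.card_zpowers, Nat.card_zpowers, hvo, hx₀])
  obtain ⟨k, hk⟩ := hz.ge (hcentral j0)
  obtain ⟨K, hK⟩ := h.ne j0
  exact hin j0 K hK (hk ▸ zpow_mem (hother j1 K (h.big j0 hK) fun hK1 => hj01 (hdisj hK hK1)) k)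

end CfsgLib.Tech46.Terminal
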