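import Cfsg.Agent.Lib.Tech46.Terminal.Bar

/-!
Descent of components to centralizers of `p`-subgroups acting trivially on them, and separation of
perfect subgroups by disjoint families of components.
-/

set_option autoImplicit false

namespace CfsgLib.Tech46.Terminal

open Subgroup CfsgLib.Components
open scoped commutatorElement

variable {G : Type*} [Group G] [Finite G] {p : ℕ} [hp : Fact p.Prime]

section Families

variable {Y : Type*} [Group Y] [Finite Y]

omit hp in
/-- A component inside the join of a family of components belongs to it. -/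
theorem component_mem_of_le_sSup {𝒯 : Set (Subgroup Y)} (h𝒯 : ∀ K ∈ 𝒯, Cfsg.IsComponent K)
    {C : Subgroup Y} (hC : Cfsg.IsComponent C) (hle : C ≤ sSup 𝒯) : C ∈ 𝒯 := by
  by_contra h
  apply component_commutator_ne_bot hC
  refine le_bot_iff.mp ((commutator_mono hle le_rfl).trans (le_of_eq ?_))
  exact commutator_sSup_eq_bot fun K hK =>
    commutator_components_eq_bot (h𝒯 K hK) hC fun e => h (e ▸ hK)

omit hp in
/-- A nontrivial perfect subgroup in the joins of two families of components forces a common member. -/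
theorem exists_common_of_perfect {𝒯 𝒰 : Set (Subgroup Y)} (h𝒯 : ∀ K ∈ 𝒯, Cfsg.IsComponent K)
    (h𝒰 : ∀ K ∈ 𝒰, Cfsg.IsComponent K) {A : Subgroup Y} (hA : ⁅A, A⁆ = A) (hA1 : A ≠ ⊥)
    (h1 : A ≤ sSup 𝒯) (h2 : A ≤ sSup 𝒰) : ∃ K ∈ 𝒯, K ∈ 𝒰 := by
  by_contra h
  push Not at h
  apply hA1
  rw [← hA]
  refine le_bot_iff.mp ((commutator_mono h1 h2).trans (le_of_eq ?_))
  refine commutator_sSup_eq_bot fun K hK => ?_
  rw [commutator_comm]
  exact commutator_sSup_eq_bot fun L hL =>
    commutator_components_eq_bot (h𝒰 L hL) (h𝒯 K hK) fun e => h K hK (e ▸ hL)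

end Families

/-- The hypotheses of descent: `X` is the centralizer in `H` of the `p`-subgroup `R`, whose image
centralizes `B`. -/
structure Fixes (p : ℕ) (H X : Subgroup G) (B : Subgroup (Bar p H)) : Prop where
  exists_R : ∃ R : Subgroup G, IsPGroup p R ∧ R ≤ H ∧ X = H ⊓ centralizer (R : Set G) ∧
    B ≤ centralizer (img p H R : Set (Bar p H))

omit [Finite G] hp in
theorem Fixes.le {H X : Subgroup G} {B : Subgroup (Bar p H)} (h : Fixes p H X B) : X ≤ H := by
  obtain ⟨R, -, -, rfl, -⟩ := h.exists_R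
  exact inf_le_left

omit [Finite G] hp in
theorem Fixes.mono {H X : Subgroup G} {B B' : Subgroup (Bar p H)} (h : Fixes p H X B) (hle : B' ≤ B) :
    Fixes p H X B' :=
  ⟨let ⟨R, h1, h2, h3, h4⟩ := h.exists_R; ⟨R, h1, h2, h3, hle.trans h4⟩⟩

theorem Fixes.exists_rep {H X : Subgroup G} {B : Subgroup (Bar p H)} (h : Fixes p H X B) {b : Bar p H}
    (hb : b ∈ B) : ∃ g, ∃ hg : g ∈ H, g ∈ lift p H B ⊓ X ∧ bmk p hg = b := by
  obtain ⟨R, hR, hRH, rfl, hc⟩ := h.exists_R
  obtain ⟨g, hg, hgC, rfl⟩ := exists_centralizing_rep hR hRH (hc hb)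
  exact ⟨g, hg, ⟨mem_lift.mpr ⟨hg, hb⟩, hg, hgC⟩, rfl⟩

theorem Fixes.img_inf {H X : Subgroup G} {B : Subgroup (Bar p H)} (h : Fixes p H X B) :
    img p H (lift p H B ⊓ X) = B := by
  refine le_antisymm ((img_mono inf_le_left).trans (img_lift H B).le) fun b hb => ?_
  obtain ⟨g, hg, hgS, rfl⟩ := h.exists_rep hb
  exact bmk_mem_img hg hgS

/-- The canonical map `B → desc B`, together with its compatibility with representatives. -/
theorem Fixes.exists_hom {H X : Subgroup G} {B : Subgroup (Bar p H)} (h : Fixes p H X B) :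
    ∃ f : B →* desc p H X B, Function.Surjective f ∧
      ∀ g (hg : g ∈ H) (hgX : g ∈ X) (hb : bmk p hg ∈ B), (f ⟨bmk p hg, hb⟩ : Bar p X) = bmk p hgX := by
  set S := lift p H B ⊓ X with hS
  have hSH : S ≤ H := inf_le_left.trans (lift_le H B)
  let σ : S →* B :=
    ((QuotientGroup.mk' (Cfsg.pPrimeCore p ↥H)).comp (Subgroup.inclusion hSH)).codRestrict B fun z => by
      obtain ⟨_, hb⟩ := mem_lift.mp z.2.1
      exact hb
  let τ : S →* desc p H X B :=
    ((QuotientGroup.mk' (Cfsg.pPrimeCore p ↥X)).comp (Subgroup.inclusion (inf_le_right : S ≤ X))).codRestrict _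
      fun z => bmk_mem_img z.2.2 z.2
  have hσ : Function.Surjective σ := by
    rintro ⟨b, hb⟩
    obtain ⟨g, hg, hgS, rfl⟩ := h.exists_rep hb
    exact ⟨⟨g, hgS⟩, rfl⟩
  have hτ : Function.Surjective τ := by
    rintro ⟨y, hy⟩
    obtain ⟨g, hg, hgS, rfl⟩ := mem_img.mp hy
    exact ⟨⟨g, hgS⟩, rfl⟩
  have hker : σ.ker ≤ τ.ker := by
    intro z hz
    have h1 : (z : G) ∈ core p H := mem_core.mpr ⟨hSH z.2, congrArg Subtype.val (MonoidHom.mem_ker.mp hz)⟩
    obtain ⟨_, h2⟩ := mem_core.mp (core_inf_le h.le ⟨h1, z.2.2⟩)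
    exact Subtype.ext h2
  refine ⟨MonoidHom.liftOfSurjective σ hσ ⟨τ, hker⟩, ?_, ?_⟩
  · intro y
    obtain ⟨z, rfl⟩ := hτ y
    exact ⟨σ z, MonoidHom.liftOfRightInverse_comp_apply _ _ _ _ z⟩
  · intro g hg hgX hb
    have := MonoidHom.liftOfRightInverse_comp_apply σ _ (Function.rightInverse_surjInv hσ) ⟨τ, hker⟩
      ⟨g, mem_lift.mpr ⟨hg, hb⟩, hgX⟩
    exact congrArg Subtype.val this

theorem Fixes.desc_spec {H X : Subgroup G} {B : Subgroup (Bar p H)} (h : Fixes p H X B)
    (hB : Cfsg.IsComponent B) :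
    Cfsg.IsComponent (desc p H X B) ∧ Nonempty (↥B ≃* ↥(desc p H X B)) := by
  obtain ⟨f, hf, hfg⟩ := h.exists_hom
  have hcop : (Nat.card f.ker).Coprime p := by
    set S' := lift p H B ⊓ core p X
    have hle : f.ker.map B.subtype ≤ img p H S' := by
      rintro _ ⟨⟨b, hb⟩, hker, rfl⟩
      obtain ⟨g, hg, hgS, rfl⟩ := h.exists_rep hb
      have h1 : bmk p hgS.2 = 1 := by
        rw [← hfg g hg hgS.2 hb, MonoidHom.mem_ker.mp hker]
        rfl
      exact bmk_mem_img hg (show g ∈ S' from ⟨hgS.1, mem_core.mpr ⟨hgS.2, h1⟩⟩)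
    have h2 : Nat.card f.ker ∣ Nat.card (img p H S') := by
      rw [← card_map_of_injective B.subtype_injective]
      exact card_dvd_of_le hle
    refine (core_coprime X).coprime_dvd_left (h2.trans ((card_map_dvd _ _).trans ?_))
    rw [← card_map_of_injective H.subtype_injective, subgroupOf_map_subtype]
    exact card_dvd_of_le (inf_le_left.trans inf_le_right)
  have hdvd : p ∣ Nat.card B := dvd_card_component CfsgLib.PCore.pPrimeCore_quotient_pPrimeCore hB
  have hbot : f.ker = ⊥ := by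
    obtain htop | hcen := quasisimple_normal_eq_top_or_le_center hB.2 f.ker
    · exfalso
      rw [htop, card_top] at hcop
      exact hp.out.one_lt.ne' (Nat.dvd_one.mp (hcop ▸ Nat.dvd_gcd hdvd dvd_rfl))
    · apply map_injective B.subtype_injective
      rw [Subgroup.map_bot, eq_bot_iff, ← CfsgLib.PCore.pPrimeCore_quotient_pPrimeCore (G := ↥H) (p := p)]
      refine CfsgLib.PCore.le_pPrimeCore_of_isSubnormal
        (f.normal_ker.isSubnormal.trans' hB.1) ?_
      rwa [card_map_of_injective B.subtype_injective]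
  let e : B ≃* desc p H X B := MulEquiv.ofBijective f ⟨(MonoidHom.ker_eq_bot_iff f).mp hbot, hf⟩
  refine ⟨⟨?_, isQuasisimple_of_mulEquiv hB.2 e⟩, ⟨e⟩⟩
  have hsub : ((lift p H B).subgroupOf H).IsSubnormal := by
    rw [subgroupOf_lift]
    exact hB.1.comap _
  have hsub' : ((lift p H B ⊓ X).subgroupOf X).IsSubnormal := by
    rw [inf_subgroupOf_right]
    exact hsub.comap (Subgroup.inclusion h.le)
  exact hsub'.map (QuotientGroup.mk'_surjective _)

omit hp in
theorem lift_inf_subnormal {H X : Subgroup G} (hX : X ≤ H) {B : Subgroup (Bar p H)} (hB : B.IsSubnormal) :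
    ((lift p H B ⊓ X).subgroupOf X).IsSubnormal := by
  have hsub : ((lift p H B).subgroupOf H).IsSubnormal := by
    rw [subgroupOf_lift]
    exact hB.comap _
  rw [inf_subgroupOf_right]
  exact hsub.comap (Subgroup.inclusion hX)

theorem desc_injective {H X : Subgroup G} {B B' : Subgroup (Bar p H)} (h : Fixes p H X B)
    (h' : Fixes p H X B') (hB : Cfsg.IsComponent B) (hB' : Cfsg.IsComponent B')
    (he : desc p H X B = desc p H X B') : B = B' := by
  by_contra hne
  apply component_commutator_ne_bot (h.desc_spec hB).1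
  conv_lhs => arg 2; rw [he]
  rw [desc, desc, ← img_commutator_of_le inf_le_right inf_le_right]
  refine img_eq_bot_of_le_core (le_trans (le_inf ?_ ?_) (core_inf_le h.le))
  · refine le_core_of_img_eq_bot ((commutator_mono (inf_le_left.trans (lift_le H B))
      (inf_le_left.trans (lift_le H B'))).trans (commutator_le_self H)) ?_
    rw [img_commutator_of_le (inf_le_left.trans (lift_le H B)) (inf_le_left.trans (lift_le H B')),
      h.img_inf, h'.img_inf, commutator_components_eq_bot hB hB' hne]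
  · exact (commutator_mono inf_le_right inf_le_right).trans (commutator_le_self X)

/-- Descent of a join of components. -/
theorem img_le_iSup_desc {H X : Subgroup G} {ι : Type*} {B : ι → Subgroup (Bar p H)}
    (h : Fixes p H X (⨆ i, B i)) :
    img p X (lift p H (⨆ i, B i) ⊓ X) ≤ ⨆ i, desc p H X (B i) := by
  obtain ⟨f, -, hfg⟩ := h.exists_hom
  intro y hy
  obtain ⟨g, hgX, ⟨hgl, -⟩, rfl⟩ := mem_img.mp hy
  obtain ⟨hgH, hgB⟩ := mem_lift.mp hgl
  rw [← hfg g hgH hgX hgB]
  suffices hle : ∀ b (hb : b ∈ ⨆ i, B i), (f ⟨b, hb⟩ : Bar p X) ∈ ⨆ i, desc p H X (B i) from hle _ hgB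
  intro b hb
  refine iSup_induction' (fun i => B i)
    (C := fun b hb => (f ⟨b, hb⟩ : Bar p X) ∈ ⨆ i, desc p H X (B i)) ?_ ?_ ?_ hb
  · intro i b hb
    obtain ⟨g, hg, hgS, rfl⟩ := (h.mono (le_iSup B i)).exists_rep hb
    rw [hfg g hg hgS.2]
    exact mem_iSup_of_mem i (bmk_mem_img hgS.2 hgS)
  · rw [show (⟨1, _⟩ : ↥(⨆ i, B i)) = 1 from rfl, map_one]
    exact one_mem _
  · intro a b ha hb iha ihb
    rw [show (⟨a * b, _⟩ : ↥(⨆ i, B i)) = ⟨a, ha⟩ * ⟨b, hb⟩ from rfl, map_mul, Subgroup.coe_mul]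
    exact mul_mem iha ihb

end CfsgLib.Tech46.Terminal
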