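import Cfsg.Agent.Lib.Tech46.Terminal.Small
import Cfsg.Agent.Lib.Tech46.Terminal.MaxClass

/-!
A pair maximizing the criterion has no moved links.
-/

set_option autoImplicit false

namespace CfsgLib.Tech46.Terminal

open Subgroup CfsgLib.Components
open scoped commutatorElement

variable {G : Type*} [Group G] {p : ℕ} {m1 m2 : ℕ}

/-- `(x, K)` maximizes the criterion. -/
structure Best (p m1 m2 : ℕ) (x : G) (K : Subgroup (Bar p (Cn x))) : Prop where
  order : orderOf x = p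
  good : Good m1 m2 K
  wf : ∀ (y : G) (J : Subgroup (Bar p (Cn y))), orderOf y = p → Good m1 m2 J → WF p m1 m2 y J → WF p m1 m2 x K
  sig_le : ∀ (y : G) (J : Subgroup (Bar p (Cn y))), orderOf y = p → Good m1 m2 J →
    (WF p m1 m2 x K → WF p m1 m2 y J) → sig p y J ≤ sig p x K
  we : ∀ (y : G) (J : Subgroup (Bar p (Cn y))), orderOf y = p → Good m1 m2 J →
    (WF p m1 m2 x K → WF p m1 m2 y J) → sig p y J = sig p x K → WE p y J → WE p x K

variable [Finite G] [hp : Fact p.Prime]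

/-- An element of order `p` over an element of order `p` of `B`, centralizing `R`. -/
theorem Fixes.exists_order_p {H X : Subgroup G} {B : Subgroup (Bar p H)} (hfix : Fixes p H X B)
    {b : Bar p H} (hb : b ∈ B) (hbo : orderOf b = p) :
    ∃ u, ∃ hu : u ∈ H, u ∈ lift p H B ∧ u ∈ X ∧ orderOf u = p ∧ bmk p hu ∈ zpowers b := by
  obtain ⟨g, hg, hgS, hgb⟩ := hfix.exists_rep hb
  have hpd : p ∣ orderOf g := by
    have h1 := orderOf_map_dvd (QuotientGroup.mk' (Cfsg.pPrimeCore p ↥H)) (⟨g, hg⟩ : H)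
    change orderOf (bmk p hg) ∣ _ at h1
    rwa [hgb, hbo, Subgroup.orderOf_mk] at h1
  refine ⟨g ^ (orderOf g / p), pow_mem hg _, pow_mem hgS.1 _, pow_mem hgS.2 _, exists_pow_order g hpd, ?_⟩
  rw [← bmk_pow hg, hgb]
  exact pow_mem (mem_zpowers b) _

omit [Finite G] hp in
theorem bmk_mem_himg {x y g : G} {K : Subgroup (Bar p (Cn x))} (hgK : g ∈ lift p (Cn x) K) (hgy : g ∈ Cn y)
    {n : ℕ} (hn : g ^ p ^ n = 1) : bmk p hgy ∈ Himg p x K y :=
  bmk_mem_img hgy (mem_pElemClosure (mem_inf.mpr ⟨hgK, hgy⟩) hn)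

/-- If a central element of order `p` of a Sylow subgroup is `x` up to powers and there is a moved link, the
components are centreless. -/
theorem Setup.eq_of_no_central (hs : Setup G p m1 m2) {x : G} {K : Subgroup (Bar p (Cn x))}
    (hx : orderOf x = p) (hK : Good m1 m2 K) {P : Subgroup G} (hP : IsSylIn p P (Dg p x K))
    (hcen : ∀ z ∈ P, orderOf z = p → (∀ w ∈ P, z * w = w * z) → z ∈ zpowers x) {y : G} (hyP : y ∈ P)
    (hyo : orderOf y = p) (hy : ¬ Cfsg.IsComponent (Himg p x K y)) : m1 = m2 := by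
  by_contra hne
  set Z := (center K).map K.subtype with hZ
  have hZne : Z ≠ ⊥ := by
    rw [hZ, Ne, map_eq_bot_iff_of_injective _ K.subtype_injective]
    intro h
    have h1 := card_eq_card_quotient_mul_card_subgroup (center K)
    rw [show Nat.card (center K) = 1 from card_eq_one.mpr h, mul_one, hK.card_eq] at h1
    exact hne (hK.top_eq.symm.trans h1.symm)
  have hpZ : p ∣ Nat.card Z := by
    by_contra hd
    refine hZne (le_bot_iff.mp ?_)
    rw [← CfsgLib.PCore.pPrimeCore_quotient_pPrimeCore (G := ↥(Cn x)) (p := p)]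
    refine CfsgLib.PCore.le_pPrimeCore_of_isSubnormal
      ((inferInstance : (center K).Normal).isSubnormal.trans' hK.comp.1) ?_
    exact (hp.out.coprime_iff_not_dvd.mpr hd).symm
  obtain ⟨b, hb⟩ := exists_prime_orderOf_dvd_card' p hpZ
  have hbK : (b : Bar p (Cn x)) ∈ K := map_subtype_le _ b.2
  obtain ⟨u, hu, huK, huX, huo, hub⟩ :=
    (fixes_of_le_Dg hP.isPGroup hP.le).exists_order_p hbK (by rw [Subgroup.orderOf_coe, hb])
  have hbC : (b : Bar p (Cn x)) ∈ centralizer (K : Set (Bar p (Cn x))) := by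
    obtain ⟨c, hc, hcb⟩ := b.2
    rw [← hcb]
    exact mem_centralizer_iff.mpr fun k hk => congrArg Subtype.val (mem_center_iff.mp hc ⟨k, hk⟩)
  have huD : u ∈ Dg p x K := mem_Dg_iff.mpr ⟨hu, (zpowers_le.mpr hbC) hub⟩
  have hucom : ∀ w ∈ P, u * w = w * u := fun w hw => (mem_centralizer_iff.mp huX.2 w hw).symm
  have hxu := eq_zpowers_of_mem hx huo
    (hcen u (hP.mem_of_commute huD (n := 1) (by rw [pow_one, pow_p_eq_one huo]) hucom) huo hucom)
  have hxK : x ∈ lift p (Cn x) K := (zpowers_le.mpr huK) (hxu ▸ mem_zpowers x)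
  obtain ⟨J, hJ, -⟩ := hs.exists_link hx hK (hP.le hyP) hyo
  have ha : bmk p hJ.mem ∈ Cfsg.layer (Bar p (Cn y)) := orbit_join_le_layer hJ.spec.comp
    (hJ.spec.le_join (bmk_mem_himg hxK hJ.mem (n := 1) (by rw [pow_one, pow_p_eq_one hx])))
  exact hy ((hs.single_iff hx hJ).mpr (layer_le_normalizer_component hJ.spec.comp ha))

/-- A moved centreless component of `C(u)` gives a component of `C(y)`. -/
theorem Setup.exists_extra {m : ℕ} (hs : Setup G p m m) {u y : G} (huo : orderOf u = p) (hyo : orderOf y = p)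
    (huy : u ∈ Cn y) (hyu : y ∈ Cn u) {M : Subgroup (Bar p (Cn u))} (hM : M ∈ bigSet (Bar p (Cn u)) m)
    (hmove : bmk p hyu ∉ normalizer (M : Set (Bar p (Cn u)))) :
    ∃ I : Subgroup (Bar p (Cn y)), Cfsg.IsComponent I ∧ topCard I = m ∧
      (bmk p huy ∈ normalizer (I : Set (Bar p (Cn y))) → bmk p huy ∈ centralizer (I : Set (Bar p (Cn y)))) := by
  set r := bmk p hyu
  have hrp : r ^ p = 1 := bmk_pow_order hyu hyo
  have hpw : ∀ i j, i < p → j < p → i ≠ j →
      ⁅M.map (MulAut.conj (r ^ i)).toMonoidHom, M.map (MulAut.conj (r ^ j)).toMonoidHom⁆ = ⊥ :=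
    fun i j hi hj hij => commutator_components_eq_bot (isComponent_conj _ hM.1) (isComponent_conj _ hM.1)
      (orbit_pairwise hrp hmove hi hj hij)
  have hdf := fun k (hk : k ∈ M) => diag_fixed (p := p) hrp (fun i hi hip => by
    have := hpw i 0 hip hp.out.pos hi.ne'
    rwa [pow_zero, map_conj_one] at this) hk
  let ν : M →* Bar p (Cn u) := MonoidHom.mk' (fun k => ((k : Bar p (Cn u)) * r) ^ p)
    fun k l => diag_mul hrp hpw k.2 l.2
  set W := sSup (orbit r M)
  set C := centralizer ({r} : Set (Bar p (Cn u)))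
  have hbigW : orbit r M ⊆ bigSet (Bar p (Cn u)) m := by
    rintro L ⟨i, rfl⟩
    exact map_mem_bigSet hM _
  have hνC : ν.range ≤ W ⊓ C := by
    rintro _ ⟨k, rfl⟩
    exact mem_inf.mpr ⟨(hdf k k.2).2.1,
      mem_centralizer_singleton_iff.mpr (mul_inv_eq_iff_eq_mul.mp (hdf k k.2).1).symm⟩
  have hWC : W ⊓ C ≤ ν.range := by
    rintro w ⟨hw, hwr⟩
    obtain ⟨k, hk, hkw⟩ := exists_inner_rep hM.1 (orbit_join_le_layer hM.1 hw)
    have hν := hνC ⟨⟨k, hk⟩, rfl⟩
    have hz : (ν ⟨k, hk⟩)⁻¹ * w ∈ centralizer (W : Set (Bar p (Cn u))) := by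
      refine mem_centralizer_sSup_orbit ?_ ?_
      · exact (mem_centralizer_singleton_iff.mp (mul_mem (inv_mem hν.2) hwr)).symm
      · have h1 := mul_mem (inv_mem (hdf k hk).2.2) hkw
        rwa [show (k⁻¹ * (k * r) ^ p)⁻¹ * (k⁻¹ * w) = ((k * r) ^ p)⁻¹ * w by group] at h1
    have h2 : (ν ⟨k, hk⟩)⁻¹ * w ∈ W ⊓ centralizer (W : Set (Bar p (Cn u))) :=
      mem_inf.mpr ⟨mul_mem (inv_mem hν.1) hw, hz⟩
    rw [bigSet_join_inf_centralizer hbigW, mem_bot, inv_mul_eq_one] at h2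
    exact h2 ▸ ⟨⟨k, hk⟩, rfl⟩
  have hνeq : ν.range = W ⊓ C := le_antisymm hνC hWC
  have hνinj : Function.Injective ν := by
    rw [injective_iff_map_eq_one]
    intro k hk
    have h1 := (hdf k k.2).2.2
    rw [show ((k : Bar p (Cn u)) * r) ^ p = 1 from hk, mul_one, inv_mem_iff] at h1
    have h2 : (k : Bar p (Cn u)) ∈ M ⊓ centralizer (M : Set (Bar p (Cn u))) := ⟨k.2, h1⟩
    rw [center_trivial_of_card hM.2.1 hM.2.2, mem_bot] at h2
    exact Subtype.ext h2
  have eν : M ≃* (W ⊓ C : Subgroup (Bar p (Cn u))) :=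
    (MonoidHom.ofInjective hνinj).trans (MulEquiv.subgroupCongr hνeq)
  -- descend to `C(u) ∩ C(y)`
  set X := Cn y ⊓ Cn u with hX
  have hfix : Fixes p (Cn u) X (W ⊓ C) := by
    rw [hX, inf_comm (Cn y)]
    exact fixes_of_element hyu hyo (mem_centralizer_iff.mpr fun w hw => mem_centralizer_singleton_iff.mp hw.2)
  set S := lift p (Cn u) W ⊓ X
  have hSeq : S = lift p (Cn u) (W ⊓ C) ⊓ X := by
    refine le_antisymm (fun g hg => ?_) (inf_le_inf_right _ (lift_mono inf_le_left))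
    obtain ⟨hgu, hgW⟩ := mem_lift.mp hg.1
    exact mem_inf.mpr ⟨mem_lift.mpr ⟨hgu, mem_inf.mpr ⟨hgW, mem_centralizer_singleton_iff.mpr
      (bmk_commute hgu hyu (mem_centralizer_singleton_iff.mp (mem_inf.mp hg.2).1))⟩⟩, hg.2⟩
  have hXu : X ≤ Cn u := inf_le_right
  have hSsub : (S.subgroupOf X).IsSubnormal := lift_inf_subnormal hXu (isSubnormal_sSup_orbit hM.1)
  have hSimg : img p X S = desc p (Cn u) X (W ⊓ C) := by rw [desc, ← hSeq]
  obtain ⟨f, hf, -⟩ := hfix.exists_hom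
  let g : M →* img p X S := ((MulEquiv.subgroupCongr hSimg).symm.toMonoidHom.comp f).comp eν.toMonoidHom
  have hg : Function.Surjective g :=
    ((MulEquiv.subgroupCongr hSimg).symm.surjective.comp hf).comp eν.surjective
  have hSne : img p X S ≠ ⊥ := by
    intro h
    have hle : S ≤ core p X := le_core_of_img_eq_bot inf_le_right h
    have hd : p ∣ Nat.card S := by
      refine (dvd_card_component CfsgLib.PCore.pPrimeCore_quotient_pPrimeCore hM.1).trans ?_
      rw [Nat.card_congr eν.toEquiv, ← hfix.img_inf, ← hSeq]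
      refine (card_map_dvd _ _).trans ?_
      rw [← card_map_of_injective (Cn u).subtype_injective, subgroupOf_map_subtype]
      exact card_dvd_of_le inf_le_left
    exact hp.out.coprime_iff_not_dvd.mp (core_coprime (p := p) X).symm (hd.trans (card_dvd_of_le hle))
  haveI : Nontrivial (img p X S) := (nontrivial_iff_ne_bot _).mpr hSne
  have hgi : Function.Injective g := by
    rw [← MonoidHom.ker_eq_bot_iff]
    obtain htop | hcen := quasisimple_normal_eq_top_or_le_center hM.1.2 g.ker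
    · obtain ⟨w, hw⟩ := exists_ne (1 : img p X S)
      obtain ⟨k, rfl⟩ := hg w
      exact absurd (MonoidHom.mem_ker.mp (htop ▸ mem_top k)) hw
    · rw [eq_bot_iff]
      refine hcen.trans (le_of_eq ?_)
      have h := center_trivial_of_card hM.2.1 hM.2.2
      rwa [← map_center_subtype, map_eq_bot_iff_of_injective _ M.subtype_injective] at h
  let e : M ≃* img p X S := MulEquiv.ofBijective g ⟨hgi, hg⟩
  have hgood : Good m m (img p X S) :=
    ⟨⟨hSsub.map (QuotientGroup.mk'_surjective _), isQuasisimple_of_mulEquiv hM.1.2 e⟩,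
      (topCard_eq_of_mulEquiv e).symm.trans hM.2.1, (Nat.card_congr e.toEquiv).symm.trans hM.2.2⟩
  obtain ⟨I, hI, -⟩ := hs.step huo hyo huy hX (inf_le_right : S ≤ X) hSsub hgood
  exact ⟨I, hI.comp, hI.top_eq, fun h => (hI.fixed h).1⟩

/-- A maximizing pair has only single links. -/
theorem Best.single {x : G} {K : Subgroup (Bar p (Cn x))} (hs : Setup G p m1 m2) (hb : Best p m1 m2 x K)
    {y : G} (hy : y ∈ Dg p x K) (hyo : orderOf y = p) : Cfsg.IsComponent (Himg p x K y) := by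
  by_contra hc
  have hx := hb.order
  have hK := hb.good
  obtain ⟨J, hJ, -⟩ := hs.exists_link hx hK hy hyo
  have hm : bmk p hJ.mem ∉ normalizer (J : Set (Bar p (Cn y))) := fun h => hc ((hs.single_iff hx hJ).mpr h)
  have hwf : WF p m1 m2 x K := hb.wf y J hyo hJ.good (hs.wf_of_moved hx hyo hJ hm)
  obtain ⟨P, hP, hcfg⟩ : ∃ P, IsSylIn p P (Dg p x K) ∧ (m1 = m2 →
      (p = 2 → ∃ a ∈ P, orderOf a = p ∧ ∃ S : Subgroup G, S ≤ P ∧ S ≤ Cn a ∧ a ∉ S ∧ 4 ≤ Nat.card S) ∧
      (p ≠ 2 → ∃ u ∈ lift p (Cn x) K, orderOf u = p ∧ P ≤ Cn u ∧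
        ∃ (O : Fin (p - 1) → Set (Subgroup (Bar p (Cn u)))) (S : Fin (p - 1) → Subgroup (Bar p (Cn u))),
          Spread p m1 (img p (Cn u) P) O S)) := by
    by_cases h : m1 = m2
    · obtain ⟨P, h1, h2⟩ := hwf h
      exact ⟨P, h1, fun _ => h2⟩
    · obtain ⟨P, h1⟩ := exists_isSylIn (p := p) (Dg p x K)
      exact ⟨P, h1, fun h' => absurd h' h⟩
  obtain ⟨d, hd, hdP⟩ := hP.exists_conj (zpowers_le.mpr hy) (isPGroup_zpowers_of_order hyo)
  have hy1 : d * y * d⁻¹ ∈ P := hdP y (mem_zpowers y)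
  have hy1o : orderOf (d * y * d⁻¹) = p := by
    rw [← hyo]
    exact orderOf_injective (MulAut.conj d).toMonoidHom (MulAut.conj d).injective y
  have hy1d : ¬ Cfsg.IsComponent (Himg p x K (d * y * d⁻¹)) := fun h => hc (by
    have := isComponent_himg_conj (inv_mem hd) h
    rwa [show d⁻¹ * (d * y * d⁻¹) * d⁻¹⁻¹ = y by group] at this)
  have hxP : x ∈ P := hP.mem_of_commute (self_mem_Dg x K) (n := 1) (by rw [pow_one, pow_p_eq_one hx])
    fun w hw => (mem_centralizer_singleton_iff.mp (Dg_le x K (hP.le hw))).symm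
  -- central elements give single links
  have hcentral : ∀ z ∈ P, orderOf z = p → (∀ w ∈ P, z * w = w * z) → Cfsg.IsComponent (Himg p x K z) := by
    intro z hz hzo hzc
    by_contra hzd
    obtain ⟨Jz, hJz, -⟩ := hs.exists_link hx hK (hP.le hz) hzo
    have hmz : bmk p hJz.mem ∉ normalizer (Jz : Set (Bar p (Cn z))) := fun h => hzd ((hs.single_iff hx hJz).mpr h)
    exact absurd (hs.sig_lt_of_central hx hK hP hz hzo hzc hJz hmz)
      (not_lt.mpr (hb.sig_le z Jz hzo hJz.good fun _ => hs.wf_of_moved hx hzo hJz hmz))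
  -- they lie in `⟨x⟩`
  have hcen : ∀ z ∈ P, orderOf z = p → (∀ w ∈ P, z * w = w * z) → z ∈ zpowers x := by
    intro z hz hzo hzc
    by_contra hzx
    set y1 := d * y * d⁻¹
    obtain ⟨J1, hJ1, -⟩ := hs.exists_link hx hK (hP.le hy1) hy1o
    have hm1 : bmk p hJ1.mem ∉ normalizer (J1 : Set (Bar p (Cn y1))) := fun h =>
      hy1d ((hs.single_iff hx hJ1).mpr h)
    have hzy : z ∈ Cn y1 := mem_centralizer_singleton_iff.mpr (hzc y1 hy1)
    obtain ⟨i, hi⟩ := hs.exists_pow_rep hx hK (hP.le hy1) hy1o hJ1 (hP.le hz) hzy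
    have hxcom : ∀ w ∈ P, Commute (x ^ i) w := fun w hw =>
      Commute.pow_left (mem_centralizer_singleton_iff.mp (Dg_le x K (hP.le hw))).symm i
    set z' := (x ^ i)⁻¹ * z
    have hz' : z' ∈ P := mul_mem (inv_mem (pow_mem hxP i)) hz
    have hz'o : orderOf z' = p := by
      refine orderOf_eq_of_pow ?_ fun h => hzx ((inv_mul_eq_one.mp h) ▸ pow_mem (mem_zpowers x) i)
      rw [(hxcom z hz).inv_left.mul_pow, inv_pow, ← pow_mul, mul_comm i, pow_mul, pow_p_eq_one hx, one_pow,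
        inv_one, one_mul, pow_p_eq_one hzo]
    have hz'c : ∀ w ∈ P, z' * w = w * z' := fun w hw =>
      ((hxcom w hw).inv_left.mul_left (show Commute z w from hzc w hw)).eq
    obtain ⟨Jz, hJz, -⟩ := hs.exists_link hx hK (hP.le hz') hz'o
    obtain ⟨hz'y, hz'n⟩ := mem_Dg_iff.mp hi
    exact hs.plane hx hK (hP.le hy1) hy1o (hP.le hz') hz'o hz'y hJ1 hm1 hJz
      ((hs.single_iff hx hJz).mp (hcentral z' hz' hz'o hz'c)) (centralizer_le_normalizer _ hz'n)
  have hnwe : ¬ WE p x K := fun h => by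
    obtain ⟨z, hz, hzo, hzx, hzc⟩ := h P hP
    exact hzx (hcen z hz hzo hzc)
  have hm12 : m1 = m2 := hs.eq_of_no_central hx hK hP hcen hy1 hy1o hy1d
  subst hm12
  obtain ⟨h2, hodd⟩ := hcfg rfl
  -- a moved link with largest centralizer
  haveI : Nonempty {z : G // z ∈ P ∧ orderOf z = p ∧ ¬ Cfsg.IsComponent (Himg p x K z)} :=
    ⟨⟨_, hy1, hy1o, hy1d⟩⟩
  obtain ⟨⟨y2, hy2P, hy2o, hy2d⟩, hy2max⟩ := Finite.exists_max
    fun z : {z : G // z ∈ P ∧ orderOf z = p ∧ ¬ Cfsg.IsComponent (Himg p x K z)} =>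
      Nat.card (P ⊓ Cn z.1 : Subgroup G)
  have hcard := hs.card_centralizer_eq hx hK hP hcentral hy2P hy2o hy2d
    fun z hz hzo hzd => hy2max ⟨z, hz, hzo, hzd⟩
  obtain ⟨J2, hJ2, -⟩ := hs.exists_link hx hK (hP.le hy2P) hy2o
  have hm2 : bmk p hJ2.mem ∉ normalizer (J2 : Set (Bar p (Cn y2))) := fun h =>
    hy2d ((hs.single_iff hx hJ2).mpr h)
  have hCP : Nat.card (centralizer ({(⟨y2, hy2P⟩ : P)} : Set P)) = p ^ 2 := by
    rw [← hcard]
    exact Nat.card_congr
      { toFun := fun w => ⟨w.1, mem_inf.mpr ⟨w.1.2, mem_centralizer_singleton_iff.mpr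
          (congrArg Subtype.val (mem_centralizer_singleton_iff.mp w.2))⟩⟩
        invFun := fun w => ⟨⟨w.1, w.2.1⟩, mem_centralizer_singleton_iff.mpr
          (Subtype.ext (mem_centralizer_singleton_iff.mp w.2.2))⟩
        left_inv := fun _ => rfl
        right_inv := fun _ => rfl }
  by_cases hp2 : p = 2
  · obtain ⟨a, ha, hao, S, hS, hSa, haS, h4⟩ := h2 hp2
    subst hp2
    refine false_of_small_centralizer hP.isPGroup (r := (⟨y2, hy2P⟩ : P)) (by rw [Subgroup.orderOf_mk, hy2o])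
      (by rw [hCP]; norm_num) (a := (⟨a, ha⟩ : P)) (by rw [Subgroup.orderOf_mk, hao]) (S := S.subgroupOf P)
      (fun w hw => mem_centralizer_singleton_iff.mpr
        (Subtype.ext (mem_centralizer_singleton_iff.mp (hSa hw)))) (fun h => haS h) ?_
    rwa [Nat.card_congr (subgroupOfEquivOfLe hS).toEquiv]
  obtain ⟨u, huK, huo, hPu, O, Sp, hsp⟩ := hodd hp2
  have hp3 : 3 ≤ p := by
    have := hp.out.two_le
    omega
  have hux : u ∈ Cn x := lift_le _ _ huK
  have hy2u : y2 ∈ Cn u := hPu hy2P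
  have huy2 : u ∈ Cn y2 := mem_Cn_comm.mp hy2u
  set Q := img p (Cn u) P with hQdef
  have hQ : IsPGroup p Q := (hP.isPGroup.comap_of_injective _ (Cn u).subtype_injective).map _
  have hxu : x ∈ Cn u := hPu hxP
  set x₀ := bmk p hxu
  have hx₀ : orderOf x₀ = p := by rw [orderOf_bmk hxu (n := 1) (by rw [pow_one, pow_p_eq_one hx]), hx]
  have hQinj : ∀ {v w : G} (hv : v ∈ Cn u) (hw : w ∈ Cn u), v ∈ P → w ∈ P → bmk p hv = bmk p hw → v = w := by
    intro v w hv hw hvP hwP he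
    obtain ⟨n, hn⟩ := hP.isPGroup ⟨v⁻¹ * w, mul_mem (inv_mem hvP) hwP⟩
    refine inv_mul_eq_one.mp ((bmk_eq_one_iff (p := p) (mul_mem (inv_mem hv) hw) (congrArg Subtype.val hn)).mp ?_)
    rw [← bmk_mul (inv_mem hv) hw, ← bmk_inv hv, he, inv_mul_cancel]
  have hcenQ : ∀ v ∈ Q, orderOf v = p → (∀ w ∈ Q, v * w = w * v) → v ∈ zpowers x₀ := by
    intro v hv hvo hvc
    obtain ⟨z, hz, hzP, rfl⟩ := mem_img.mp hv
    obtain ⟨n, hn⟩ := hP.isPGroup ⟨z, hzP⟩
    have hzo : orderOf z = p := by rw [← orderOf_bmk hz (congrArg Subtype.val hn), hvo]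
    have hzc : ∀ w ∈ P, z * w = w * z := fun w hw => hQinj (mul_mem hz (hPu hw)) (mul_mem (hPu hw) hz)
      (mul_mem hzP hw) (mul_mem hw hzP) (by
        rw [← bmk_mul hz (hPu hw), ← bmk_mul (hPu hw) hz]
        exact hvc _ (bmk_mem_img _ hw))
    obtain ⟨k, rfl⟩ := hcen z hzP hzo hzc
    rw [show bmk p hz = x₀ ^ k from map_zpow (QuotientGroup.mk' (Cfsg.pPrimeCore p ↥(Cn u))) ⟨x, hxu⟩ k]
    exact zpow_mem (mem_zpowers x₀) k
  obtain ⟨B, hBQ, hBn, hBc, hBe, hBcard, hBW⟩ := exists_elementary_normal hp2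
    CfsgLib.PCore.pPrimeCore_quotient_pPrimeCore hQ hcenQ hx₀ hsp
  set r : Q := ⟨bmk p hy2u, bmk_mem_img _ hy2P⟩
  have hr : orderOf r = p := by
    rw [Subgroup.orderOf_mk, orderOf_bmk hy2u (n := 1) (by rw [pow_one, pow_p_eq_one hy2o]), hy2o]
  have hrC : Nat.card (centralizer ({r} : Set Q)) = p ^ 2 := by
    rw [← hCP]
    symm
    refine Nat.card_eq_of_bijective (fun w => (⟨⟨bmk p (hPu w.1.2), bmk_mem_img _ w.1.2⟩,
      mem_centralizer_singleton_iff.mpr (Subtype.ext (bmk_commute _ _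
        (congrArg Subtype.val (mem_centralizer_singleton_iff.mp w.2))))⟩ : centralizer ({r} : Set Q))) ⟨?_, ?_⟩
    · intro v w he
      exact Subtype.ext (Subtype.ext (hQinj _ _ v.1.2 w.1.2 (congrArg (fun t => (t.1 : Bar p (Cn u))) he)))
    · rintro ⟨⟨v, hv⟩, hvr⟩
      obtain ⟨z, hz, hzP, rfl⟩ := mem_img.mp hv
      refine ⟨⟨⟨z, hzP⟩, mem_centralizer_singleton_iff.mpr (Subtype.ext ?_)⟩, rfl⟩
      exact hQinj (mul_mem hz hy2u) (mul_mem hy2u hz) (mul_mem hzP hy2P) (mul_mem hy2P hzP) (by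
        rw [← bmk_mul hz hy2u, ← bmk_mul hy2u hz]
        exact congrArg Subtype.val (mem_centralizer_singleton_iff.mp hvr))
  haveI : (B.subgroupOf Q).Normal := normal_subgroupOf_of_le_normalizer hBn
  obtain ⟨hQcard, -⟩ := card_eq_of_elementary_normal hp2 hQ hr hrC (B := B.subgroupOf Q)
    (fun a ha b hb => Subtype.ext (hBc a ha b hb)) (fun a ha => Subtype.ext (by simpa using hBe a ha))
    (by rwa [Nat.card_congr (subgroupOfEquivOfLe hBQ).toEquiv])
  have hσ : sig p x K = p + 1 := by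
    rw [hQdef, card_img_pGroup hP.isPGroup hPu, hP.card] at hQcard
    exact Nat.pow_right_injective hp.out.two_le hQcard
  -- the components of `C(y₂)`
  obtain ⟨e, hei, he⟩ := exists_others (bmk_pow_order hJ2.mem hx) hm2
  have hR : IsPGroup p (zpowers y2) := isPGroup_zpowers_of_order hy2o
  have hRfac : (Nat.card (zpowers y2)).factorization p = 1 := by
    rw [Nat.card_zpowers, hy2o, hp.out.factorization_self]
  have hRc : ∀ L : Subgroup (Bar p (Cn y2)), img p (Cn y2) (zpowers y2) ≤ centralizer (L : Set (Bar p (Cn y2))) := by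
    intro L
    rw [img_zpowers (mem_centralizer_singleton_iff.mpr rfl : y2 ∈ Cn y2), zpowers_le]
    exact bmk_self_mem_centralizer y2 _ _
  have heL : ∀ j, Cfsg.IsComponent (e j) ∧ topCard (e j) = m1 := fun j => by
    obtain ⟨i, hi⟩ := (he j).1
    rw [hi]
    exact ⟨isComponent_conj _ hJ2.spec.comp, (topCard_map _ J2).trans hJ2.spec.top_eq⟩
  obtain ⟨hv1, -⟩ := two_le_factorization_topCard hJ2.spec.comp
    (CfsgLib.PCore.pPrimeCore_quotient_pPrimeCore (G := ↥(Cn y2)) (p := p))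
  rw [hJ2.spec.top_eq] at hv1
  have hle2 : sig p y2 J2 ≤ sig p x K := hb.sig_le y2 J2 hy2o hJ2.good fun _ => hs.wf_of_moved hx hy2o hJ2 hm2
  classical
  set s₀ := Finset.univ.image e
  have hs₀ : ∀ L ∈ s₀, Cfsg.IsComponent L ∧ topCard L = m1 ∧ L ≠ J2 ∧ L ∈ orbit (bmk p hJ2.mem) J2 := by
    intro L hL
    obtain ⟨j, -, rfl⟩ := Finset.mem_image.mp hL
    exact ⟨(heL j).1, (heL j).2, (he j).2, (he j).1⟩
  have hs₀c : s₀.card = p - 1 := by
    rw [Finset.card_image_of_injective _ hei, Finset.card_univ, Fintype.card_fin]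
  have hbound : ∀ s : Finset (Subgroup (Bar p (Cn y2))),
      (∀ L ∈ s, Cfsg.IsComponent L ∧ topCard L = m1 ∧ L ≠ J2) → 1 + s.card * m1.factorization p ≤ sig p y2 J2 := by
    intro s hsL
    have := sig_bound (m := m1) hR (zpowers_le.mpr (self_mem_Dg y2 J2)) s (fun L hL => ⟨(hsL L hL).1, (hsL L hL).2.1⟩)
      (fun L hL => le_centralizer_of_commutator_eq_bot
        (commutator_components_eq_bot (hsL L hL).1 hJ2.spec.comp (hsL L hL).2.2)) fun L _ => hRc L
    rwa [hRfac] at this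
  have hv : m1.factorization p = 1 := by
    by_contra hv
    have h1 := hbound s₀ fun L hL => ⟨(hs₀ L hL).1, (hs₀ L hL).2.1, (hs₀ L hL).2.2.1⟩
    rw [hs₀c] at h1
    have h2 : (p - 1) * 2 ≤ (p - 1) * m1.factorization p := Nat.mul_le_mul_left _ (by omega)
    omega
  -- a moved component of `C(u)`
  obtain ⟨M, hM, hMm⟩ : ∃ M ∈ bigSet (Bar p (Cn u)) m1, bmk p hy2u ∉ normalizer (M : Set (Bar p (Cn u))) := by
    by_contra hno
    push Not at hno
    have hle : B.subgroupOf Q ≤ centralizer ({r} : Set Q) := fun b hbB =>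
      mem_centralizer_singleton_iff.mpr (Subtype.ext
        (commute_of_all_normalized hv.le hQ r.2 hno b.2 (hBW hbB)).symm)
    have h1 := Nat.le_of_dvd Nat.card_pos (card_dvd_of_le hle)
    rw [hrC, Nat.card_congr (subgroupOfEquivOfLe hBQ).toEquiv] at h1
    have := (Nat.pow_le_pow_iff_right hp.out.one_lt).mp (hBcard.trans h1)
    omega
  obtain ⟨I, hIc, hIt, hIfix⟩ := hs.exists_extra huo hy2o huy2 hy2u hM hMm
  have hn1 : u ^ p ^ 1 = 1 := by rw [pow_one, pow_p_eq_one huo]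
  have hub := hJ2.spec.le_join (bmk_mem_himg huK huy2 hn1)
  have hIO : I ∉ orbit (bmk p hJ2.mem) J2 := by
    intro hI
    have hc := hIfix (layer_le_normalizer_component hIc (orbit_join_le_layer hJ2.spec.comp hub))
    have hc' : bmk p huy2 ∈ centralizer
        ((sSup (orbit (bmk p hJ2.mem) J2) : Subgroup _) : Set (Bar p (Cn y2))) := by
      rw [← orbit_eq_of_mem (bmk_pow_order hJ2.mem hx) hI]
      exact mem_centralizer_sSup_orbit
        (bmk_commute hJ2.mem huy2 (mem_centralizer_singleton_iff.mp hux).symm) hc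
    have hmem : bmk p huy2 ∈ sSup (orbit (bmk p hJ2.mem) J2) ⊓ centralizer
        ((sSup (orbit (bmk p hJ2.mem) J2) : Subgroup _) : Set (Bar p (Cn y2))) := ⟨hub, hc'⟩
    rw [bigSet_join_inf_centralizer (m := m1) (by
      rintro L ⟨i, rfl⟩; exact map_mem_bigSet hJ2.orbit_mem_bigSet _), mem_bot] at hmem
    exact bmk_ne_one huy2 huo hmem
  have h1 := hbound (insert I s₀) fun L hL => by
    rcases Finset.mem_insert.mp hL with rfl | hL
    · exact ⟨hIc, hIt, fun h => hIO (by rw [h]; exact self_mem_orbit _ _)⟩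
    · exact ⟨(hs₀ L hL).1, (hs₀ L hL).2.1, (hs₀ L hL).2.2.1⟩
  rw [Finset.card_insert_of_notMem (fun h => hIO (hs₀ I h).2.2.2), hs₀c, hv, mul_one] at h1
  exact hnwe (hb.we y2 J2 hy2o hJ2.good (fun _ => hs.wf_of_moved hx hy2o hJ2 hm2) (by omega)
    (we_of_moved hy2o hJ2.orbit_mem_bigSet (bmk_pow_order hJ2.mem hx) hm2))

end CfsgLib.Tech46.Terminal
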