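import Cfsg.Agent.Lib.Tech46.Terminal.Step

/-!
Linked components in the centralizers of commuting elements of order `p`: uniqueness, transfer of
centralizing elements, and the two incompatibility lemmas for moved orbits.
-/

set_option autoImplicit false

namespace CfsgLib.Tech46.Terminal

open Subgroup CfsgLib.Components
open scoped commutatorElement

section Orbits

variable {Y : Type*} [Group Y] [Finite Y] {p : ℕ} [hp : Fact p.Prime]

omit hp in
theorem conj_pow_mem_orbit (a : Y) (K : Subgroup Y) (i : ℕ) :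
    K.map (MulAut.conj (a ^ i)).toMonoidHom ∈ orbit a K := ⟨i, rfl⟩

omit [Finite Y] in
theorem orbit_eq_of_mem {a : Y} (hap : a ^ p = 1) {K L : Subgroup Y} (h : L ∈ orbit a K) :
    orbit a L = orbit a K := by
  obtain ⟨i, rfl⟩ := h
  ext M
  constructor
  · rintro ⟨j, rfl⟩
    exact ⟨j + i, by rw [map_conj_map_conj, pow_add]⟩
  · rintro ⟨j, rfl⟩
    refine ⟨j + i * (p - 1), ?_⟩
    rw [map_conj_map_conj, ← pow_add]
    congr 3
    rw [add_assoc, show i * (p - 1) + i = p * i by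
      rw [← Nat.mul_succ, Nat.succ_eq_add_one, Nat.sub_add_cancel hp.out.pos, mul_comm], pow_add, pow_mul,
      hap, one_pow, mul_one]

omit [Finite Y] hp in
theorem mem_normalizer_orbit {a g : Y} (hga : g * a = a * g) {K L : Subgroup Y}
    (hg : g ∈ normalizer (K : Set Y)) (h : L ∈ orbit a K) : g ∈ normalizer (L : Set Y) := by
  obtain ⟨i, rfl⟩ := h
  rw [mem_normalizer_iff_conj_eq] at hg ⊢
  have hgi : Commute g (a ^ i) := Commute.pow_right hga i
  rw [map_conj_map_conj, hgi.eq, ← map_conj_map_conj, hg]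

omit [Finite Y] hp in
theorem map_conj_sSup_orbit {a g : Y} (hga : g * a = a * g) (K : Subgroup Y) :
    (sSup (orbit a K)).map (MulAut.conj g).toMonoidHom ≤
      sSup (orbit a (K.map (MulAut.conj g).toMonoidHom)) := by
  rw [map_le_iff_le_comap]
  refine sSup_le ?_
  rintro L ⟨i, rfl⟩
  rw [← map_le_iff_le_comap]
  refine le_sSup (s := orbit a (K.map (MulAut.conj g).toMonoidHom)) ⟨i, ?_⟩
  have hgi : Commute g (a ^ i) := Commute.pow_right hga i
  rw [map_conj_map_conj, map_conj_map_conj, hgi.eq]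

theorem self_mem_normalizer_orbit_join (a : Y) (K : Subgroup Y) :
    a ∈ normalizer ((sSup (orbit a K) : Subgroup Y) : Set Y) := by
  refine mem_normalizer_iff_conj_eq.mpr (eq_of_le_of_card_ge ?_ (card_map_of_injective
    (MulAut.conj a).injective).ge)
  refine (map_conj_sSup_orbit rfl K).trans (sSup_le ?_)
  rintro L ⟨i, rfl⟩
  refine le_sSup (s := orbit a K) ⟨i + 1, ?_⟩
  rw [map_conj_map_conj, pow_succ]

omit hp in
theorem isSubnormal_sSup_orbit {a : Y} {K : Subgroup Y} (hK : Cfsg.IsComponent K) :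
    (sSup (orbit a K)).IsSubnormal := by
  have hWE : sSup (orbit a K) ≤ Cfsg.layer Y :=
    sSup_le fun L hL => component_le_layer (isComponent_of_mem_orbit hK hL)
  refine IsSubnormal.step _ _ hWE (inferInstance : (Cfsg.layer Y).Normal).isSubnormal
    ((normal_subgroupOf_iff_le_normalizer hWE).mpr ?_)
  refine CfsgLib.Structure.le_normalizer_sSup fun g hg L hL => ?_
  rwa [mem_normalizer_iff_conj_eq.mp (layer_le_normalizer_component (isComponent_of_mem_orbit hK hL) hg)]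

omit hp in
theorem orbit_join_le_layer {a : Y} {K : Subgroup Y} (hK : Cfsg.IsComponent K) :
    sSup (orbit a K) ≤ Cfsg.layer Y :=
  sSup_le fun _ hL => component_le_layer (isComponent_of_mem_orbit hK hL)

omit hp in
/-- Elements of the join of an orbit of centreless components fixed by `a` lie in the diagonal `H`. -/
theorem OrbitSpec.exact {a : Y} {H J : Subgroup Y} {m : ℕ} (h : OrbitSpec a H J m m)
    (hHa : H ≤ centralizer ({a} : Set Y)) :
    sSup (orbit a J) ⊓ centralizer ({a} : Set Y) ≤ H := by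
  rintro w ⟨hw, hwa⟩
  obtain ⟨k, hk, hkw⟩ := exists_inner_rep h.comp (orbit_join_le_layer h.comp hw)
  obtain ⟨x, hx, hkx⟩ := h.onto k hk
  have hz : x⁻¹ * w ∈ centralizer ((sSup (orbit a J) : Subgroup Y) : Set Y) := by
    refine mem_centralizer_sSup_orbit (mem_centralizer_singleton_iff.mp (mul_mem (inv_mem (hHa hx)) hwa)).symm ?_
    have := mul_mem (inv_mem hkx) hkw
    rwa [show (k⁻¹ * x)⁻¹ * (k⁻¹ * w) = x⁻¹ * w by group] at this
  have hbot : sSup (orbit a J) ⊓ centralizer ((sSup (orbit a J) : Subgroup Y) : Set Y) = ⊥ := by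
    refine sSup_inf_centralizer_eq_bot (fun L hL M hM hne => commutator_components_eq_bot
      (isComponent_of_mem_orbit h.comp hL) (isComponent_of_mem_orbit h.comp hM) hne) fun L hL => ?_
    obtain ⟨i, rfl⟩ := hL
    have hJc : J ⊓ centralizer (J : Set Y) = ⊥ := by
      rw [← map_center_subtype, Subgroup.map_eq_bot_iff, ker_subtype, le_bot_iff]
      refine (center J).eq_bot_of_card_eq ?_
      have h1 := card_eq_card_quotient_mul_card_subgroup (center J)
      rw [h.card_eq, show Nat.card (↥J ⧸ center ↥J) = m from h.top_eq] at h1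
      exact (Nat.eq_of_mul_eq_mul_left (h.card_eq ▸ Nat.card_pos) (by rw [mul_one, ← h1])).symm
    rw [eq_bot_iff]
    rintro _ ⟨⟨z, hz, rfl⟩, hc⟩
    have : z ∈ J ⊓ centralizer (J : Set Y) := ⟨hz, mem_centralizer_iff.mpr fun l hl =>
      (MulAut.conj (a ^ i)).injective ((map_mul _ _ _).trans
        ((mem_centralizer_iff.mp hc _ ⟨l, hl, rfl⟩).trans (map_mul _ _ _).symm))⟩
    rw [hJc, mem_bot] at this
    simp [this]
  have h2 : x⁻¹ * w ∈ sSup (orbit a J) ⊓ centralizer ((sSup (orbit a J) : Subgroup Y) : Set Y) :=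
    mem_inf.mpr ⟨mul_mem (inv_mem (h.le_join hx)) hw, hz⟩
  rw [hbot, mem_bot, inv_mul_eq_one] at h2
  exact h2 ▸ hx

end Orbits

variable {G : Type*} [Group G] [Finite G] {p : ℕ} [hp : Fact p.Prime] {m1 m2 : ℕ}

/-- The elements of `C(x)` centralizing `K`. -/
def Dg (p : ℕ) (x : G) (K : Subgroup (Bar p (Cn x))) : Subgroup G :=
  lift p (Cn x) (centralizer (K : Set (Bar p (Cn x))))

/-- The `p`-elements of `C(y)` in the preimage of `K`, generated. -/
def Lsub (p : ℕ) (x : G) (K : Subgroup (Bar p (Cn x))) (y : G) : Subgroup G :=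
  pElemClosure p (lift p (Cn x) K ⊓ Cn y)

/-- The image of `Lsub` at `y`. -/
def Himg (p : ℕ) (x : G) (K : Subgroup (Bar p (Cn x))) (y : G) : Subgroup (Bar p (Cn y)) :=
  img p (Cn y) (Lsub p x K y)

/-- `J` is a component of `C(y)` linked to the component `K` of `C(x)`. -/
structure Link (p m1 m2 : ℕ) (x : G) (K : Subgroup (Bar p (Cn x))) (y : G)
    (J : Subgroup (Bar p (Cn y))) : Prop where
  mem : x ∈ Cn y
  spec : OrbitSpec (bmk p mem) (Himg p x K y) J m1 m2

omit [Finite G] hp in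
theorem Link.good {x y : G} {K : Subgroup (Bar p (Cn x))} {J : Subgroup (Bar p (Cn y))}
    (h : Link p m1 m2 x K y J) : Good m1 m2 J :=
  ⟨h.spec.comp, h.spec.top_eq, h.spec.card_eq⟩

omit [Finite G] hp in
theorem Dg_le (x : G) (K : Subgroup (Bar p (Cn x))) : Dg p x K ≤ Cn x := lift_le _ _

omit [Finite G] hp in
theorem mem_Dg_iff {x d : G} {K : Subgroup (Bar p (Cn x))} :
    d ∈ Dg p x K ↔ ∃ hd : d ∈ Cn x, bmk p hd ∈ centralizer (K : Set (Bar p (Cn x))) := mem_lift

omit [Finite G] hp in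
theorem Dg_normalizes {x d : G} {K : Subgroup (Bar p (Cn x))} (hd : d ∈ Dg p x K) :
    d ∈ normalizer (lift p (Cn x) K : Set G) :=
  let ⟨h, hc⟩ := mem_Dg_iff.mp hd
  conj_mem_lift h (centralizer_le_normalizer _ hc)

theorem bmk_pow_order {H : Subgroup G} {x : G} (hx : x ∈ H) (ho : orderOf x = p) :
    (bmk p hx) ^ p = 1 := by
  have h := orderOf_bmk (p := p) hx (n := 1) (by rw [pow_one, ← ho, pow_orderOf_eq_one])
  have h2 := pow_orderOf_eq_one (bmk p hx)
  rwa [h, ho] at h2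

theorem fixes_of_le_Dg {x : G} {K : Subgroup (Bar p (Cn x))} {R : Subgroup G} (hR : IsPGroup p R)
    (hle : R ≤ Dg p x K) : Fixes p (Cn x) (Cn x ⊓ centralizer (R : Set G)) K := by
  refine ⟨⟨R, hR, hle.trans (Dg_le x K), rfl, ?_⟩⟩
  rw [le_centralizer_iff]
  intro z hz
  obtain ⟨g, hg, hgR, rfl⟩ := mem_img.mp hz
  obtain ⟨_, hc⟩ := mem_Dg_iff.mp (hle hgR)
  exact hc

theorem fixes_pair {x y : G} {K : Subgroup (Bar p (Cn x))} (hy : y ∈ Dg p x K) (hyo : orderOf y = p) :
    Fixes p (Cn x) (Cn x ⊓ Cn y) K := by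
  have := fixes_of_le_Dg (isPGroup_zpowers_of_order (p := p) hyo) (zpowers_le.mpr hy)
  rwa [centralizer_zpowers_eq] at this

theorem fixes_triple {x y z : G} {K : Subgroup (Bar p (Cn x))} (hy : y ∈ Dg p x K) (hyo : orderOf y = p)
    (hz : z ∈ Dg p x K) (hzo : orderOf z = p) (hyz : y ∈ Cn z) :
    Fixes p (Cn x) (Cn x ⊓ (Cn y ⊓ Cn z)) K := by
  have hyN : zpowers y ≤ normalizer ((zpowers z : Subgroup G) : Set G) := by
    rw [zpowers_le]
    refine centralizer_le_normalizer _ ?_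
    rwa [centralizer_zpowers_eq]
  have hR : IsPGroup p (zpowers y ⊔ zpowers z : Subgroup G) :=
    (isPGroup_zpowers_of_order hyo).to_sup_of_normal_right' (isPGroup_zpowers_of_order hzo) hyN
  have := fixes_of_le_Dg hR (sup_le (zpowers_le.mpr hy) (zpowers_le.mpr hz))
  have e : centralizer ((zpowers y ⊔ zpowers z : Subgroup G) : Set G) = Cn y ⊓ Cn z := by
    ext g
    rw [mem_inf]
    constructor
    · intro h
      exact ⟨mem_centralizer_singleton_iff.mpr
          ((mem_centralizer_iff.mp h y (mem_sup_left (mem_zpowers y))).symm),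
        mem_centralizer_singleton_iff.mpr ((mem_centralizer_iff.mp h z (mem_sup_right (mem_zpowers z))).symm)⟩
    · rintro ⟨h1, h2⟩
      rw [← centralizer_zpowers_eq, mem_centralizer_iff] at h1 h2
      have : (zpowers y ⊔ zpowers z : Subgroup G) ≤ Cn g :=
        sup_le (fun u hu => mem_centralizer_singleton_iff.mpr (h1 u hu))
          (fun u hu => mem_centralizer_singleton_iff.mpr (h2 u hu))
      exact mem_centralizer_iff.mpr fun u hu => mem_centralizer_singleton_iff.mp (this hu)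
  rwa [e] at this

theorem desc_conj {H X : Subgroup G} {B B' : Subgroup (Bar p H)} {g : G} (hgH : g ∈ H) (hgX : g ∈ X)
    (hB : B.map (MulAut.conj (bmk p hgH)).toMonoidHom = B') :
    (desc p H X B).map (MulAut.conj (bmk p hgX)).toMonoidHom ≤ desc p H X B' := by
  rintro _ ⟨w, hw, rfl⟩
  obtain ⟨s, hsX, hsS, rfl⟩ := mem_img.mp hw
  obtain ⟨hsH, hsB⟩ := mem_lift.mp hsS.1
  refine mem_img.mpr ⟨g * s * g⁻¹, mul_mem (mul_mem hgX hsX) (inv_mem hgX),
    mem_inf.mpr ⟨mem_lift.mpr ⟨mul_mem (mul_mem hgH hsH) (inv_mem hgH), ?_⟩, mul_mem (mul_mem hgX hsX) (inv_mem hgX)⟩, ?_⟩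
  · rw [← hB]
    exact ⟨bmk p hsH, hsB, by simp only [MulEquiv.coe_toMonoidHom, MulAut.conj_apply, bmk_mul, bmk_inv]⟩
  · simp only [MulEquiv.coe_toMonoidHom, MulAut.conj_apply, bmk_mul, bmk_inv]

namespace Setup

variable (hs : Setup G p m1 m2)
include hs

theorem good_desc {x y : G} {K : Subgroup (Bar p (Cn x))} (hK : Good m1 m2 K) (hy : y ∈ Dg p x K)
    (hyo : orderOf y = p) : Good m1 m2 (img p (Cn x ⊓ Cn y) (lift p (Cn x) K ⊓ Cn y)) := by
  obtain ⟨hc, ⟨e⟩⟩ := (fixes_pair hy hyo).desc_spec hK.comp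
  have heq : lift p (Cn x) K ⊓ Cn y = lift p (Cn x) K ⊓ (Cn x ⊓ Cn y) := by
    rw [← inf_assoc, inf_eq_left.mpr (lift_le (Cn x) K)]
  rw [heq]
  exact ⟨hc, (topCard_eq_of_mulEquiv e).symm.trans hK.top_eq,
    (Nat.card_congr e.toEquiv).symm.trans hK.card_eq⟩

theorem exists_link {x y : G} {K : Subgroup (Bar p (Cn x))} (hx : orderOf x = p) (hK : Good m1 m2 K)
    (hy : y ∈ Dg p x K) (hyo : orderOf y = p) :
    ∃ J, Link p m1 m2 x K y J ∧ Nonempty (↥(Himg p x K y) ≃* ↥K) := by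
  have hxy : x ∈ Cn y := mem_Cn_comm.mp (Dg_le x K hy)
  have hle : lift p (Cn x) K ⊓ Cn y ≤ Cn x ⊓ Cn y := inf_le_inf_right _ (lift_le _ _)
  have hsub : ((lift p (Cn x) K ⊓ Cn y).subgroupOf (Cn x ⊓ Cn y)).IsSubnormal := by
    have := lift_inf_subnormal (p := p) (inf_le_left : Cn x ⊓ Cn y ≤ Cn x) hK.comp.1
    rwa [← inf_assoc, inf_eq_left.mpr (lift_le (Cn x) K)] at this
  obtain ⟨J, hJ, ⟨e⟩⟩ := hs.step hx hyo hxy (inf_comm (Cn x) (Cn y)) hle hsub (hs.good_desc hK hy hyo)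
  obtain ⟨-, ⟨e'⟩⟩ := (fixes_pair hy hyo).desc_spec hK.comp
  refine ⟨J, ⟨hxy, hJ⟩, ⟨e.trans ?_⟩⟩
  have heq : img p (Cn x ⊓ Cn y) (lift p (Cn x) K ⊓ Cn y) = desc p (Cn x) (Cn x ⊓ Cn y) K := by
    rw [desc, ← inf_assoc, inf_eq_left.mpr (lift_le (Cn x) K)]
  exact (MulEquiv.subgroupCongr heq).trans e'.symm

theorem himg_perfect {x y : G} {K : Subgroup (Bar p (Cn x))} (hx : orderOf x = p) (hK : Good m1 m2 K)
    (hy : y ∈ Dg p x K) (hyo : orderOf y = p) :
    ⁅Himg p x K y, Himg p x K y⁆ = Himg p x K y ∧ Himg p x K y ≠ ⊥ ∧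
      Cfsg.pPrimeCore p ↥(Himg p x K y) = ⊥ := by
  obtain ⟨J, -, ⟨e⟩⟩ := hs.exists_link hx hK hy hyo
  have hq := isQuasisimple_of_mulEquiv hK.comp.2 e.symm
  refine ⟨?_, ?_, CfsgLib.PCore.pPrimeCore_eq_bot_of_equiv e.symm ?_⟩
  · haveI := hq.1
    have h := congrArg (map (Himg p x K y).subtype) (quasisimple_commutator_eq_top hq)
    rwa [map_subtype_commutator, ← MonoidHom.range_eq_map, range_subtype] at h
  · haveI := quasisimple_nontrivial hq
    exact (nontrivial_iff_ne_bot _).mp inferInstance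
  · rw [← map_eq_bot_iff_of_injective _ K.subtype_injective, eq_bot_iff,
      ← CfsgLib.PCore.pPrimeCore_quotient_pPrimeCore (G := ↥(Cn x)) (p := p)]
    exact CfsgLib.PCore.map_pPrimeCore_subtype_of_isSubnormal hK.comp.1

theorem link_unique {x y : G} {K : Subgroup (Bar p (Cn x))} (hx : orderOf x = p) (hK : Good m1 m2 K)
    (hy : y ∈ Dg p x K) (hyo : orderOf y = p) {J J' : Subgroup (Bar p (Cn y))}
    (h : Link p m1 m2 x K y J) {a : Bar p (Cn y)} (hap : a ^ p = 1) (hJ' : Cfsg.IsComponent J')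
    (hle : Himg p x K y ≤ sSup (orbit a J')) :
    ∃ M, M ∈ orbit (bmk p h.mem) J ∧ M ∈ orbit a J' := by
  obtain ⟨hperf, hne, -⟩ := hs.himg_perfect hx hK hy hyo
  exact exists_common_of_perfect (fun M hM => isComponent_of_mem_orbit h.spec.comp hM)
    (fun M hM => isComponent_of_mem_orbit hJ' hM) hperf hne h.spec.le_join hle

/-- Elements of `D(x,K) ∩ C(y)` centralize the image of `K ∩ C(y)`. -/
theorem mem_centralizer_himg {x y : G} {K : Subgroup (Bar p (Cn x))} (hx : orderOf x = p)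
    (hK : Good m1 m2 K) (hy : y ∈ Dg p x K) (hyo : orderOf y = p) {d : G} (hd : d ∈ Dg p x K)
    (hdy : d ∈ Cn y) : bmk p hdy ∈ centralizer (Himg p x K y : Set (Bar p (Cn y))) := by
  obtain ⟨-, -, hcore⟩ := hs.himg_perfect hx hK hy hyo
  set X := Cn x ⊓ Cn y
  set M := (img p (Cn y) (core p X)).subgroupOf (Himg p x K y)
  have hLX : Lsub p x K y ≤ X := (pElemClosure_le _).trans (inf_le_inf_right _ (lift_le _ _))
  have hM : M.Normal := by
    refine normal_subgroupOf_of_le_normalizer fun w hw => ?_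
    obtain ⟨g, hg, hgL, rfl⟩ := mem_img.mp hw
    have key : ∀ g, ∀ hg : g ∈ Cn y, g ∈ X → ∀ u ∈ img p (Cn y) (core p X),
        bmk p hg * u * (bmk p hg)⁻¹ ∈ img p (Cn y) (core p X) := by
      intro g hg hgX u hu
      obtain ⟨c, hc, hcc, rfl⟩ := mem_img.mp hu
      rw [bmk_inv hg, bmk_mul hg hc, bmk_mul]
      exact bmk_mem_img _ ((mem_normalizer_iff.mp (le_normalizer_core X hgX) c).mp hcc)
    rw [mem_normalizer_iff]
    intro u
    refine ⟨key g hg (hLX hgL) u, fun h => ?_⟩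
    have := key g⁻¹ (inv_mem hg) (inv_mem (hLX hgL)) _ h
    rw [← bmk_inv hg] at this
    simpa [mul_assoc] using this
  have hMbot : M = ⊥ := by
    rw [eq_bot_iff, ← hcore]
    refine CfsgLib.PCore.le_pPrimeCore hM ?_
    refine (core_coprime X).coprime_dvd_left (((card_map_of_injective (Himg p x K y).subtype_injective).symm.dvd.trans (card_dvd_of_le
      ((subgroupOf_map_subtype _ _).trans_le inf_le_left))).trans ?_)
    exact (card_map_dvd _ _).trans (by
      rw [← card_map_of_injective (Cn y).subtype_injective, subgroupOf_map_subtype]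
      exact card_dvd_of_le inf_le_left)
  obtain ⟨hdx, hdc⟩ := mem_Dg_iff.mp hd
  rw [mem_centralizer_iff]
  intro w hw
  obtain ⟨g, hg, hgL, rfl⟩ := mem_img.mp hw
  have hgl := (pElemClosure_le _ hgL).1
  obtain ⟨hgx, hgK⟩ := mem_lift.mp hgl
  have hc : d * g * d⁻¹ * g⁻¹ ∈ core p (Cn x) := by
    refine mem_core.mpr ⟨mul_mem (mul_mem (mul_mem hdx hgx) (inv_mem hdx)) (inv_mem hgx), ?_⟩
    rw [← bmk_mul (mul_mem (mul_mem hdx hgx) (inv_mem hdx)) (inv_mem hgx), ← bmk_mul (mul_mem hdx hgx) (inv_mem hdx), ← bmk_mul hdx hgx, ← bmk_inv hdx, ← bmk_inv hgx,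
      ← mem_centralizer_iff.mp hdc _ hgK, mul_inv_cancel_right, mul_inv_cancel]
  have hdL : d * g * d⁻¹ ∈ Lsub p x K y := by
    have hdn : d ∈ normalizer ((lift p (Cn x) K ⊓ Cn y : Subgroup G) : Set G) :=
      mem_normalizer_iff.mpr fun u =>
        and_congr (mem_normalizer_iff.mp (Dg_normalizes hd) u) (mem_normalizer_iff.mp (le_normalizer hdy) u)
    exact (mem_normalizer_iff.mp (le_normalizer_pElemClosure (p := p)
      (Y := lift p (Cn x) K ⊓ Cn y) (M := zpowers d) (zpowers_le.mpr hdn) (mem_zpowers d)) g).mp hgL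
  have hcy : d * g * d⁻¹ * g⁻¹ ∈ Cn y := mul_mem (mul_mem (mul_mem hdy hg) (inv_mem hdy)) (inv_mem hg)
  have h1 : bmk p hcy ∈ Himg p x K y ⊓ img p (Cn y) (core p X) :=
    ⟨bmk_mem_img hcy (mul_mem hdL (inv_mem hgL)),
      bmk_mem_img hcy (core_inf_le inf_le_left ⟨hc, hLX (mul_mem hdL (inv_mem hgL))⟩)⟩
  have h2 : (⟨bmk p hcy, h1.1⟩ : Himg p x K y) ∈ M := h1.2
  rw [hMbot, mem_bot] at h2
  have h3 : bmk p hcy = 1 := congrArg Subtype.val h2
  rw [← bmk_mul (mul_mem (mul_mem hdy hg) (inv_mem hdy)) (inv_mem hg), ← bmk_mul (mul_mem hdy hg) (inv_mem hdy), ← bmk_mul hdy hg, ← bmk_inv hdy, ← bmk_inv hg,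
    mul_inv_eq_one, mul_inv_eq_iff_eq_mul] at h3
  exact h3.symm

/-- A linked component normalized by an element of `D(x,K) ∩ C(y)` is centralized by it. -/
theorem mem_Dg_of_normalizes {x y : G} {K : Subgroup (Bar p (Cn x))} (hx : orderOf x = p)
    (hK : Good m1 m2 K) (hy : y ∈ Dg p x K) (hyo : orderOf y = p) {J : Subgroup (Bar p (Cn y))}
    (h : Link p m1 m2 x K y J) {d : G} (hd : d ∈ Dg p x K) (hdy : d ∈ Cn y)
    (hdn : bmk p hdy ∈ normalizer (J : Set (Bar p (Cn y)))) : d ∈ Dg p y J := by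
  refine mem_Dg_iff.mpr ⟨hdy, mem_centralizer_of_commute_onto h.spec.comp hdn fun k hk => ?_⟩
  obtain ⟨w, hw, hkw⟩ := h.spec.onto k hk
  exact ⟨w, hkw, (mem_centralizer_iff.mp (hs.mem_centralizer_himg hx hK hy hyo hd hdy) w hw).symm⟩

/-- Elements of `D(x,K) ∩ C(y)` permute the orbit of a linked component. -/
theorem conj_mem_orbit {x y : G} {K : Subgroup (Bar p (Cn x))} (hx : orderOf x = p)
    (hK : Good m1 m2 K) (hy : y ∈ Dg p x K) (hyo : orderOf y = p) {J : Subgroup (Bar p (Cn y))}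
    (h : Link p m1 m2 x K y J) {d : G} (hd : d ∈ Dg p x K) (hdy : d ∈ Cn y) :
    J.map (MulAut.conj (bmk p hdy)).toMonoidHom ∈ orbit (bmk p h.mem) J := by
  have hap := bmk_pow_order (p := p) h.mem hx
  have hdx : d * x = x * d := mem_centralizer_singleton_iff.mp (Dg_le x K hd)
  have hga : bmk p hdy * bmk p h.mem = bmk p h.mem * bmk p hdy := bmk_commute hdy h.mem hdx
  have hc := hs.mem_centralizer_himg hx hK hy hyo hd hdy
  have hle : Himg p x K y ≤ sSup (orbit (bmk p h.mem) (J.map (MulAut.conj (bmk p hdy)).toMonoidHom)) := by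
    refine le_trans ?_ (map_conj_sSup_orbit hga J)
    intro w hw
    refine ⟨w, h.spec.le_join hw, ?_⟩
    show bmk p hdy * w * (bmk p hdy)⁻¹ = w
    rw [← mem_centralizer_iff.mp hc w hw, mul_inv_cancel_right]
  obtain ⟨M, hM, hM'⟩ := hs.link_unique hx hK hy hyo h hap (isComponent_conj _ h.spec.comp) hle
  rw [← orbit_eq_of_mem hap hM, orbit_eq_of_mem hap hM']
  exact self_mem_orbit _ _

/-- A linked component normalized by `x`. -/
theorem single_eq {x y : G} {K : Subgroup (Bar p (Cn x))} (hxo : orderOf x = p) {J : Subgroup (Bar p (Cn y))}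
    (h : Link p m1 m2 x K y J) (hx : bmk p h.mem ∈ normalizer (J : Set (Bar p (Cn y)))) :
    Himg p x K y = J ∧ x ∈ Dg p y J :=
  ⟨(h.spec.fixed hx).2, mem_Dg_iff.mpr ⟨h.mem, (h.spec.fixed hx).1⟩⟩

/-- The descent of a linked orbit contains the descent of `K`. -/
theorem img_le_iSup_orbit {x y z : G} {K : Subgroup (Bar p (Cn x))} {J : Subgroup (Bar p (Cn y))}
    (h : Link p m1 m2 x K y J) {X : Subgroup G} (hXy : X ≤ Cn y) (hXz : X ≤ Cn z)
    (hfix : Fixes p (Cn y) X (sSup (orbit (bmk p h.mem) J))) :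
    img p X (pElemClosure p (lift p (Cn x) K ⊓ (Cn y ⊓ Cn z))) ≤
      ⨆ i : ℕ, desc p (Cn y) X (J.map (MulAut.conj ((bmk p h.mem) ^ i)).toMonoidHom) := by
  have e : sSup (orbit (bmk p h.mem) J) = ⨆ i : ℕ, J.map (MulAut.conj ((bmk p h.mem) ^ i)).toMonoidHom := by
    refine le_antisymm (sSup_le ?_) (iSup_le fun i => le_sSup ⟨i, rfl⟩)
    rintro L ⟨i, rfl⟩
    exact le_iSup (fun i : ℕ => J.map (MulAut.conj ((bmk p h.mem) ^ i)).toMonoidHom) i
  rw [e] at hfix
  refine le_trans ?_ (img_le_iSup_desc hfix)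
  intro w hw
  obtain ⟨g, hgX, hgL, rfl⟩ := mem_img.mp hw
  refine bmk_mem_img hgX ⟨mem_lift.mpr ⟨hXy hgX, ?_⟩, hgX⟩
  rw [← e]
  refine h.spec.le_join (bmk_mem_img _ ?_)
  exact pElemClosure_mono (inf_le_inf_left _ inf_le_left) hgL

theorem triple_perfect {x y z : G} {K : Subgroup (Bar p (Cn x))} (hK : Good m1 m2 K)
    (hy : y ∈ Dg p x K) (hyo : orderOf y = p) (hz : z ∈ Dg p x K) (hzo : orderOf z = p)
    (hyz : y ∈ Cn z) {X : Subgroup G} (hX : X = Cn y ⊓ Cn z) :
    let L := pElemClosure p (lift p (Cn x) K ⊓ (Cn y ⊓ Cn z))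
    ⁅img p X L, img p X L⁆ = img p X L ∧ img p X L ≠ ⊥ := by
  intro L
  have hf := fixes_triple hy hyo hz hzo hyz
  have heq : lift p (Cn x) K ⊓ (Cn y ⊓ Cn z) = lift p (Cn x) K ⊓ (Cn x ⊓ (Cn y ⊓ Cn z)) := by
    rw [← inf_assoc (lift p (Cn x) K) (Cn x), inf_eq_left.mpr (lift_le (Cn x) K)]
  obtain ⟨-, -, -, hperf, hne, -⟩ := pElem_spec (p := p)
    (inf_le_right : lift p (Cn x) K ⊓ (Cn x ⊓ (Cn y ⊓ Cn z)) ≤ _)
    (lift_inf_subnormal hf.le hK.comp.1) (hf.desc_spec hK.comp).1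
  rw [← heq] at hperf hne
  have hLX : L ≤ X := hX ▸ (pElemClosure_le _).trans inf_le_right
  refine ⟨by rw [← img_commutator_of_le hLX hLX, hperf], fun h => hne ?_⟩
  rw [eq_bot_iff]
  refine (closure_le _).mpr ?_
  rintro g ⟨hg, n, hn⟩
  exact mem_bot.mpr (eq_one_of_mem_core (le_core_of_img_eq_bot hLX h (mem_pElemClosure hg hn)) hn)

/-- **Plane lemma.** If `y` is linked to a moved orbit and `z` to a component centralized by `x`, then
`z` does not normalize the members of the orbit. -/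
theorem plane {x y z : G} {K : Subgroup (Bar p (Cn x))} (hx : orderOf x = p) (hK : Good m1 m2 K)
    (hy : y ∈ Dg p x K) (hyo : orderOf y = p) (hz : z ∈ Dg p x K) (hzo : orderOf z = p)
    (hzy : z ∈ Cn y) {J : Subgroup (Bar p (Cn y))} (hJ : Link p m1 m2 x K y J)
    (hmove : bmk p hJ.mem ∉ normalizer (J : Set (Bar p (Cn y))))
    {Jz : Subgroup (Bar p (Cn z))} (hJz : Link p m1 m2 x K z Jz)
    (hfix : bmk p hJz.mem ∈ normalizer (Jz : Set (Bar p (Cn z)))) :
    bmk p hzy ∉ normalizer (J : Set (Bar p (Cn y))) := by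
  intro hzn
  have hyz : y ∈ Cn z := mem_Cn_comm.mp hzy
  obtain ⟨_, hzc⟩ := mem_Dg_iff.mp (hs.mem_Dg_of_normalizes hx hK hy hyo hJ hz hzy hzn)
  set a := bmk p hJ.mem
  have hcom : a * bmk p hzy = bmk p hzy * a :=
    bmk_commute hJ.mem hzy (mem_centralizer_singleton_iff.mp (Dg_le x K hz)).symm
  set X := Cn y ⊓ Cn z with hX
  have hfW : Fixes p (Cn y) X (sSup (orbit a J)) :=
    fixes_of_element hzy hzo (mem_centralizer_sSup_orbit hcom hzc)
  obtain ⟨hHJ, -⟩ := hs.single_eq hx hJz hfix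
  have hfz : Fixes p (Cn z) X Jz := by
    have h1 := hs.mem_centralizer_himg hx hK hz hzo hy hyz
    rw [hHJ] at h1
    rw [hX, inf_comm]
    exact fixes_of_element hyz hyo h1
  set L := pElemClosure p (lift p (Cn x) K ⊓ (Cn y ⊓ Cn z))
  obtain ⟨hperf, hne⟩ := hs.triple_perfect (x := x) hK hy hyo hz hzo hyz hX
  have h1 : img p X L ≤ sSup ({desc p (Cn z) X Jz} : Set _) := by
    rw [sSup_singleton]
    intro w hw
    obtain ⟨g, hgX, hgL, rfl⟩ := mem_img.mp hw
    refine bmk_mem_img hgX ⟨mem_lift.mpr ⟨hgX.2, ?_⟩, hgX⟩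
    rw [← hHJ]
    exact bmk_mem_img _ (pElemClosure_mono (inf_le_inf_left _ inf_le_right) hgL)
  have h2 : img p X L ≤ sSup (Set.range fun i : ℕ => desc p (Cn y) X (J.map (MulAut.conj (a ^ i)).toMonoidHom)) :=
    (hs.img_le_iSup_orbit hJ inf_le_left inf_le_right hfW).trans (le_of_eq (sSup_range).symm)
  have hci : ∀ i : ℕ, Cfsg.IsComponent (desc p (Cn y) X (J.map (MulAut.conj (a ^ i)).toMonoidHom)) := fun i =>
    ((hfW.mono (le_sSup (conj_pow_mem_orbit a J i))).desc_spec (isComponent_conj _ hJ.spec.comp)).1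
  obtain ⟨M, hM, i, hi⟩ := exists_common_of_perfect (fun M hM => hM ▸ (hfz.desc_spec hJz.spec.comp).1)
    (by rintro M ⟨i, rfl⟩; exact hci i) hperf hne h1 h2
  rw [Set.mem_singleton_iff] at hM
  subst hM
  have hxX : x ∈ X := ⟨hJ.mem, hJz.mem⟩
  have hfixd : (desc p (Cn z) X Jz).map (MulAut.conj (bmk p hxX)).toMonoidHom ≤ desc p (Cn z) X Jz :=
    desc_conj hJz.mem hxX (mem_normalizer_iff_conj_eq.mp hfix)
  rw [← hi] at hfixd
  have hmoved := desc_conj (X := X) hJ.mem hxX (B := J.map (MulAut.conj (a ^ i)).toMonoidHom)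
    (B' := J.map (MulAut.conj (a ^ (i + 1))).toMonoidHom) (by rw [map_conj_map_conj, pow_succ'])
  have heq : desc p (Cn y) X (J.map (MulAut.conj (a ^ i)).toMonoidHom) =
      desc p (Cn y) X (J.map (MulAut.conj (a ^ (i + 1))).toMonoidHom) := by
    by_contra hne'
    apply component_commutator_ne_bot (isComponent_conj (bmk p hxX) (hci i))
    refine le_bot_iff.mp ((commutator_mono hfixd hmoved).trans (le_of_eq ?_))
    exact commutator_components_eq_bot (hci i) (hci (i + 1)) hne'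
  have h3 := desc_injective (hfW.mono (le_sSup (conj_pow_mem_orbit a J i)))
    (hfW.mono (le_sSup (conj_pow_mem_orbit a J (i + 1)))) (isComponent_conj _ hJ.spec.comp)
    (isComponent_conj _ hJ.spec.comp) heq
  apply hmove
  rw [mem_normalizer_iff_conj_eq]
  have h4 := congrArg (map (MulAut.conj (a ^ i)⁻¹).toMonoidHom) h3
  rw [map_conj_map_conj, map_conj_map_conj, inv_mul_cancel, map_conj_one, pow_succ, inv_mul_cancel_left] at h4
  exact h4.symm

end Setup

/-- For centreless components: if `h` normalizes the orbit of `y`, then `y` normalizes that of `h`. -/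
theorem Setup.compat {m : ℕ} (hs : Setup G p m m) {x y h : G} {K : Subgroup (Bar p (Cn x))}
    (hx : orderOf x = p) (hK : Good m m K)
    (hy : y ∈ Dg p x K) (hyo : orderOf y = p) (hh : h ∈ Dg p x K) (hho : orderOf h = p)
    (hhy : h ∈ Cn y) (hyh : y ∈ Cn h) {J : Subgroup (Bar p (Cn y))} (hJ : Link p m m x K y J)
    (hmove : bmk p hJ.mem ∉ normalizer (J : Set (Bar p (Cn y))))
    {J' : Subgroup (Bar p (Cn h))} (hJ' : Link p m m x K h J')
    (hmove' : bmk p hJ'.mem ∉ normalizer (J' : Set (Bar p (Cn h))))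
    (hhn : bmk p hhy ∈ normalizer (J : Set (Bar p (Cn y)))) :
    bmk p hyh ∈ normalizer (J' : Set (Bar p (Cn h))) := by
  by_contra hyn
  set a := bmk p hJ.mem
  set b := bmk p hJ'.mem
  have hbp : b ^ p = 1 := bmk_pow_order hJ'.mem hx
  have hxy : x * y = y * x := (mem_centralizer_singleton_iff.mp (Dg_le x K hy)).symm
  have hxh : x * h = h * x := (mem_centralizer_singleton_iff.mp (Dg_le x K hh)).symm
  set W' := sSup (orbit b J') with hW'
  obtain ⟨i, hi⟩ := hs.conj_mem_orbit hx hK hh hho hJ' hy hyh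
  have hcby : b * bmk p hyh = bmk p hyh * b := bmk_commute hJ'.mem hyh hxy
  -- `d = x^{-i} y` normalizes, hence centralizes, the orbit
  have hdD : (x ^ i)⁻¹ * y ∈ Dg p x K := by
    refine mul_mem (inv_mem (pow_mem ?_ i)) hy
    refine mem_Dg_iff.mpr ⟨mem_centralizer_singleton_iff.mpr rfl, ?_⟩
    rw [mem_centralizer_iff]
    intro k _
    obtain ⟨g, hg, rfl⟩ := exists_bmk k
    exact bmk_commute _ _ (mem_centralizer_singleton_iff.mp hg)
  have hdh : (x ^ i)⁻¹ * y ∈ Cn h := mul_mem (inv_mem (pow_mem hJ'.mem i)) hyh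
  have hdn : bmk p hdh ∈ normalizer (J' : Set (Bar p (Cn h))) := by
    rw [← bmk_mul (inv_mem (pow_mem hJ'.mem i)) hyh, ← bmk_inv (pow_mem hJ'.mem i), ← bmk_pow hJ'.mem,
      mem_normalizer_iff_conj_eq, ← map_conj_map_conj, hi, map_conj_map_conj, inv_mul_cancel, map_conj_one]
  obtain ⟨_, hdc⟩ := mem_Dg_iff.mp (hs.mem_Dg_of_normalizes hx hK hh hho hJ' hdD hdh hdn)
  have hdW : bmk p hdh ∈ centralizer (W' : Set (Bar p (Cn h))) := by
    refine mem_centralizer_sSup_orbit ?_ hdc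
    refine bmk_commute hJ'.mem hdh ?_
    have h1 : Commute x ((x ^ i)⁻¹ * y) := ((Commute.self_pow x i).inv_right).mul_right hxy
    exact h1.eq
  have hip : ¬ p ∣ i := by
    intro hd
    obtain ⟨j, rfl⟩ := hd
    apply hyn
    rw [mem_normalizer_iff_conj_eq, hi, pow_mul, hbp, one_pow, map_conj_one]
  -- so fixed points of `y` and of `x` on the orbit agree
  have hfix : ∀ w ∈ W', w * bmk p hyh = bmk p hyh * w → w ∈ centralizer ({b} : Set (Bar p (Cn h))) := by
    intro w hw hwy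
    have h1 : w * bmk p hdh = bmk p hdh * w := mem_centralizer_iff.mp hdW w hw
    have e : bmk p hyh * (bmk p hdh)⁻¹ = b ^ i := by
      rw [← bmk_mul (inv_mem (pow_mem hJ'.mem i)) hyh, ← bmk_inv (pow_mem hJ'.mem i), ← bmk_pow hJ'.mem,
        mul_inv_rev, mul_inv_cancel_left, inv_inv]
    have h2 : Commute w (b ^ i) := by
      rw [← e]
      exact (show Commute w (bmk p hyh) from hwy).mul_right (show Commute w (bmk p hdh) from h1).inv_right
    obtain ⟨n, -, hn⟩ := Nat.exists_mul_mod_eq_one_of_coprime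
      (hp.out.coprime_iff_not_dvd.mpr hip).symm hp.out.one_lt
    have h3 : Commute w b := by
      have := h2.pow_right n
      rwa [← pow_mul, ← Nat.mod_add_div (i * n) p, hn, pow_add, pow_one, pow_mul, hbp, one_pow, mul_one] at this
    exact mem_centralizer_singleton_iff.mpr h3.eq
  set H' := Himg p x K h
  have hH'b : H' ≤ centralizer ({b} : Set (Bar p (Cn h))) := by
    intro w hw
    obtain ⟨g, hg, hgL, rfl⟩ := mem_img.mp hw
    rw [mem_centralizer_singleton_iff]
    exact bmk_commute hg hJ'.mem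
      (mem_centralizer_singleton_iff.mp (lift_le _ _ (pElemClosure_le _ hgL).1))
  set X := Cn y ⊓ Cn h with hX
  have hfH : Fixes p (Cn h) X H' := by
    rw [hX, inf_comm]
    exact fixes_of_element hyh hyo (hs.mem_centralizer_himg hx hK hh hho hy hyh)
  have hS : lift p (Cn h) W' ⊓ X = lift p (Cn h) H' ⊓ X := by
    refine le_antisymm (fun g hg => ⟨?_, hg.2⟩) (inf_le_inf_right _ (lift_mono hJ'.spec.le_join))
    obtain ⟨hgh, hgW⟩ := mem_lift.mp hg.1
    refine mem_lift.mpr ⟨hgh, hJ'.spec.exact hH'b ⟨hgW, hfix _ hgW ?_⟩⟩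
    exact bmk_commute hgh hyh (mem_centralizer_singleton_iff.mp hg.2.1)
  set C := img p X (lift p (Cn h) W' ⊓ X) with hC
  set L := pElemClosure p (lift p (Cn x) K ⊓ (Cn y ⊓ Cn h))
  obtain ⟨hperf, hne⟩ := hs.triple_perfect (x := x) hK hy hyo hh hho hyh hX
  have hLC : img p X L ≤ C := by
    intro w hw
    obtain ⟨g, hgX, hgL, rfl⟩ := mem_img.mp hw
    refine bmk_mem_img hgX ⟨mem_lift.mpr ⟨hgX.2, ?_⟩, hgX⟩
    exact hJ'.spec.le_join (bmk_mem_img _ (pElemClosure_mono (inf_le_inf_left _ inf_le_right) hgL))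
  have hCc : Cfsg.IsComponent C := by
    refine ⟨(lift_inf_subnormal inf_le_right (isSubnormal_sSup_orbit hJ'.spec.comp)).map
      (QuotientGroup.mk'_surjective _), ?_⟩
    obtain ⟨J₀, -, ⟨e⟩⟩ := hs.exists_link hx hK hh hho
    obtain ⟨f, hf, -⟩ := hfH.exists_hom
    haveI : Nontrivial C := (nontrivial_iff_ne_bot _).mpr fun h0 => hne (le_bot_iff.mp (hLC.trans h0.le))
    have hCd : C = desc p (Cn h) X H' := by rw [hC, hS, desc]
    exact isQuasisimple_of_surjective (isQuasisimple_of_mulEquiv hK.comp.2 e.symm)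
      ((MulEquiv.subgroupCongr hCd).symm.toMonoidHom.comp f) ((MulEquiv.subgroupCongr hCd).symm.surjective.comp hf)
  have hzc : bmk p hhy ∈ centralizer ((sSup (orbit a J) : Subgroup _) : Set (Bar p (Cn y))) := by
    refine mem_centralizer_sSup_orbit (bmk_commute hJ.mem hhy hxh) ?_
    obtain ⟨_, h1⟩ := mem_Dg_iff.mp (hs.mem_Dg_of_normalizes hx hK hy hyo hJ hh hhy hhn)
    exact h1
  have hfW : Fixes p (Cn y) X (sSup (orbit a J)) := fixes_of_element hhy hho hzc
  have hci : ∀ i : ℕ, Cfsg.IsComponent (desc p (Cn y) X (J.map (MulAut.conj (a ^ i)).toMonoidHom)) := fun i =>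
    ((hfW.mono (le_sSup (conj_pow_mem_orbit a J i))).desc_spec (isComponent_conj _ hJ.spec.comp)).1
  obtain ⟨M, hM, j, hj⟩ := exists_common_of_perfect (𝒯 := ({C} : Set _)) (fun M hM => hM ▸ hCc)
    (by rintro M ⟨i, rfl⟩; exact hci i) hperf hne (by rw [sSup_singleton]; exact hLC)
    ((hs.img_le_iSup_orbit hJ inf_le_left inf_le_right hfW).trans (le_of_eq (sSup_range).symm))
  rw [Set.mem_singleton_iff] at hM
  subst hM
  have hxX : x ∈ X := ⟨hJ.mem, hJ'.mem⟩
  have hCfix : C.map (MulAut.conj (bmk p hxX)).toMonoidHom ≤ C :=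
    desc_conj (B := W') hJ'.mem hxX (mem_normalizer_iff_conj_eq.mp (self_mem_normalizer_orbit_join b J'))
  rw [← hj] at hCfix
  have hmoved := desc_conj (X := X) hJ.mem hxX (B := J.map (MulAut.conj (a ^ j)).toMonoidHom)
    (B' := J.map (MulAut.conj (a ^ (j + 1))).toMonoidHom) (by rw [map_conj_map_conj, pow_succ'])
  have heq : desc p (Cn y) X (J.map (MulAut.conj (a ^ j)).toMonoidHom) =
      desc p (Cn y) X (J.map (MulAut.conj (a ^ (j + 1))).toMonoidHom) := by
    by_contra hne'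
    apply component_commutator_ne_bot (isComponent_conj (bmk p hxX) (hci j))
    refine le_bot_iff.mp ((commutator_mono hCfix hmoved).trans (le_of_eq ?_))
    exact commutator_components_eq_bot (hci j) (hci (j + 1)) hne'
  have h3 := desc_injective (hfW.mono (le_sSup (conj_pow_mem_orbit a J j)))
    (hfW.mono (le_sSup (conj_pow_mem_orbit a J (j + 1)))) (isComponent_conj _ hJ.spec.comp)
    (isComponent_conj _ hJ.spec.comp) heq
  apply hmove
  rw [mem_normalizer_iff_conj_eq]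
  have h4 := congrArg (map (MulAut.conj (a ^ j)⁻¹).toMonoidHom) h3
  rw [map_conj_map_conj, map_conj_map_conj, inv_mul_cancel, map_conj_one, pow_succ, inv_mul_cancel_left] at h4
  exact h4.symm

/-- For centreless components: the stabilizers of two commuting linked orbits agree. -/
theorem Setup.stab_eq {m : ℕ} (hs : Setup G p m m) {x y h : G} {K : Subgroup (Bar p (Cn x))}
    (hx : orderOf x = p) (hK : Good m m K)
    (hy : y ∈ Dg p x K) (hyo : orderOf y = p) (hh : h ∈ Dg p x K) (hho : orderOf h = p)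
    (hhy : h ∈ Cn y) (hyh : y ∈ Cn h) {J : Subgroup (Bar p (Cn y))} (hJ : Link p m m x K y J)
    (hmove : bmk p hJ.mem ∉ normalizer (J : Set (Bar p (Cn y))))
    {J' : Subgroup (Bar p (Cn h))} (hJ' : Link p m m x K h J')
    (hmove' : bmk p hJ'.mem ∉ normalizer (J' : Set (Bar p (Cn h))))
    (hhn : bmk p hhy ∈ normalizer (J : Set (Bar p (Cn y))))
    {d : G} (hd : d ∈ Dg p x K) (hdy : d ∈ Cn y) (hdh : d ∈ Cn h)
    (hdn : bmk p hdy ∈ normalizer (J : Set (Bar p (Cn y)))) :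
    bmk p hdh ∈ normalizer (J' : Set (Bar p (Cn h))) := by
  set a := bmk p hJ.mem
  set b := bmk p hJ'.mem
  have hbp : b ^ p = 1 := bmk_pow_order hJ'.mem hx
  have hyn := hs.compat hx hK hy hyo hh hho hhy hyh hJ hmove hJ' hmove' hhn
  have hxy : x * y = y * x := (mem_centralizer_singleton_iff.mp (Dg_le x K hy)).symm
  have hxh : x * h = h * x := (mem_centralizer_singleton_iff.mp (Dg_le x K hh)).symm
  have hxd : x * d = d * x := (mem_centralizer_singleton_iff.mp (Dg_le x K hd)).symm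
  obtain ⟨_, hhc⟩ := mem_Dg_iff.mp (hs.mem_Dg_of_normalizes hx hK hy hyo hJ hh hhy hhn)
  obtain ⟨_, hyc⟩ := mem_Dg_iff.mp (hs.mem_Dg_of_normalizes hx hK hh hho hJ' hy hyh hyn)
  set X := Cn y ⊓ Cn h with hX
  have hfW : Fixes p (Cn y) X (sSup (orbit a J)) :=
    fixes_of_element hhy hho (mem_centralizer_sSup_orbit (bmk_commute hJ.mem hhy hxh) hhc)
  have hfW' : Fixes p (Cn h) X (sSup (orbit b J')) := by
    rw [hX, inf_comm]
    exact fixes_of_element hyh hyo (mem_centralizer_sSup_orbit (bmk_commute hJ'.mem hyh hxy) hyc)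
  obtain ⟨hperf, hne⟩ := hs.triple_perfect (x := x) hK hy hyo hh hho hyh hX
  have hci : ∀ i : ℕ, Cfsg.IsComponent (desc p (Cn y) X (J.map (MulAut.conj (a ^ i)).toMonoidHom)) := fun i =>
    ((hfW.mono (le_sSup (conj_pow_mem_orbit a J i))).desc_spec (isComponent_conj _ hJ.spec.comp)).1
  have hci' : ∀ i : ℕ, Cfsg.IsComponent (desc p (Cn h) X (J'.map (MulAut.conj (b ^ i)).toMonoidHom)) := fun i =>
    ((hfW'.mono (le_sSup (conj_pow_mem_orbit b J' i))).desc_spec (isComponent_conj _ hJ'.spec.comp)).1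
  have hle' : img p X (pElemClosure p (lift p (Cn x) K ⊓ (Cn y ⊓ Cn h))) ≤
      ⨆ i : ℕ, desc p (Cn h) X (J'.map (MulAut.conj (b ^ i)).toMonoidHom) := by
    rw [inf_comm (Cn y) (Cn h)]
    exact hs.img_le_iSup_orbit hJ' inf_le_right inf_le_left hfW'
  obtain ⟨M, ⟨i, hi⟩, j, hj⟩ := exists_common_of_perfect (by rintro M ⟨i, rfl⟩; exact hci i)
    (by rintro M ⟨i, rfl⟩; exact hci' i) hperf hne
    ((hs.img_le_iSup_orbit hJ inf_le_left inf_le_right hfW).trans (le_of_eq (sSup_range).symm))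
    (hle'.trans (le_of_eq (sSup_range).symm))
  subst hi
  have hdX : d ∈ X := ⟨hdy, hdh⟩
  have hdi := mem_normalizer_orbit (bmk_commute hdy hJ.mem hxd.symm) hdn (conj_pow_mem_orbit a J i)
  have h1 : (desc p (Cn y) X (J.map (MulAut.conj (a ^ i)).toMonoidHom)).map
      (MulAut.conj (bmk p hdX)).toMonoidHom ≤ desc p (Cn y) X (J.map (MulAut.conj (a ^ i)).toMonoidHom) :=
    desc_conj hdy hdX (mem_normalizer_iff_conj_eq.mp hdi)
  obtain ⟨n, hn⟩ := hs.conj_mem_orbit hx hK hh hho hJ' hd hdh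
  have hn' : (J'.map (MulAut.conj (b ^ j)).toMonoidHom).map (MulAut.conj (bmk p hdh)).toMonoidHom =
      J'.map (MulAut.conj (b ^ (j + n))).toMonoidHom := by
    have hc : Commute (bmk p hdh) (b ^ j) := Commute.pow_right (bmk_commute hdh hJ'.mem hxd.symm) j
    rw [map_conj_map_conj, hc.eq, ← map_conj_map_conj, hn, map_conj_map_conj, pow_add]
  have h2 := desc_conj (X := X) hdh hdX hn'
  have heq : desc p (Cn h) X (J'.map (MulAut.conj (b ^ j)).toMonoidHom) =
      desc p (Cn h) X (J'.map (MulAut.conj (b ^ (j + n))).toMonoidHom) := by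
    by_contra hne'
    have hj' : desc p (Cn h) X (J'.map (MulAut.conj (b ^ j)).toMonoidHom) =
        desc p (Cn y) X (J.map (MulAut.conj (a ^ i)).toMonoidHom) := hj
    rw [← hj'] at h1
    apply component_commutator_ne_bot (isComponent_conj (bmk p hdX) (hci' j))
    exact le_bot_iff.mp ((commutator_mono h1 h2).trans
      (commutator_components_eq_bot (hci' j) (hci' (j + n)) hne').le)
  have h3 := desc_injective (hfW'.mono (le_sSup (conj_pow_mem_orbit b J' j)))
    (hfW'.mono (le_sSup (conj_pow_mem_orbit b J' (j + n)))) (isComponent_conj _ hJ'.spec.comp)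
    (isComponent_conj _ hJ'.spec.comp) heq
  rw [mem_normalizer_iff_conj_eq, hn]
  have h4 := congrArg (map (MulAut.conj (b ^ j)⁻¹).toMonoidHom) h3
  rw [map_conj_map_conj, map_conj_map_conj, inv_mul_cancel, map_conj_one, pow_add, inv_mul_cancel_left] at h4
  exact h4.symm

end CfsgLib.Tech46.Terminal
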