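import Cfsg.Agent.Lib.Tech46.Terminal.Diag
import Cfsg.Agent.Lib.Classif.PTerminal

/-!
Existence of `p`-terminal `p`-components.
-/

set_option autoImplicit false

namespace CfsgLib.Tech46.Terminal

open Subgroup CfsgLib.Components
open scoped commutatorElement

section General

variable {Z : Type*} [Group Z] [Finite Z] {p : ℕ} [hp : Fact p.Prime]

/-- A `p`-component inside a subnormal subgroup is a `p`-component of it. -/
theorem isPComponent_subgroupOf_of_le {L H : Subgroup Z} (hL : Cfsg.IsPComponent p L) (hH : H.IsSubnormal)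
    (hle : L ≤ H) : Cfsg.IsPComponent p (L.subgroupOf H) := by
  set qZ := QuotientGroup.mk' (Cfsg.pPrimeCore p Z)
  set qH := QuotientGroup.mk' (Cfsg.pPrimeCore p ↥H)
  let θ : (↥H ⧸ Cfsg.pPrimeCore p ↥H) →* Z ⧸ Cfsg.pPrimeCore p Z :=
    QuotientGroup.lift _ (qZ.comp H.subtype) fun h hh => by
      refine MonoidHom.mem_ker.mpr ((QuotientGroup.eq_one_iff _).mpr ?_)
      exact CfsgLib.PCore.map_pPrimeCore_subtype_of_isSubnormal hH ⟨h, hh, rfl⟩
  have hθ : Function.Injective θ := by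
    rw [injective_iff_map_eq_one]
    intro z hz
    obtain ⟨h, rfl⟩ := QuotientGroup.mk'_surjective _ z
    have h1 : (h : Z) ∈ (Cfsg.pPrimeCore p ↥H).map H.subtype := by
      rw [map_pPrimeCore_eq_inf hH]
      exact mem_inf.mpr ⟨h.2, (QuotientGroup.eq_one_iff _).mp hz⟩
    obtain ⟨h', hh', he⟩ := h1
    exact (QuotientGroup.eq_one_iff _).mpr (Subtype.ext he ▸ hh')
  have hmap : ∀ A : Subgroup H, (A.map qH).map θ = (A.map H.subtype).map qZ := by
    intro A
    rw [map_map, map_map]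
    rfl
  refine ⟨hL.1.comap H.subtype, ⟨(hL.1.comap H.subtype).map (QuotientGroup.mk'_surjective _), ?_⟩, ?_⟩
  · refine isQuasisimple_of_mulEquiv hL.2.1.2 (MulEquiv.trans ?_ (equivMapOfInjective _ θ hθ).symm)
    exact MulEquiv.subgroupCongr (by rw [hmap, map_subgroupOf_eq_of_le hle])
  · intro A hA hAL hAeq
    apply map_injective H.subtype_injective
    rw [map_subgroupOf_eq_of_le hle]
    refine hL.2.2 _ (hA.trans' hH) ((map_mono hAL).trans (map_subgroupOf_eq_of_le hle).le) ?_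
    rw [← hmap, hAeq, hmap, map_subgroupOf_eq_of_le hle]

omit hp in
/-- `p`-components are transported by isomorphisms. -/
theorem isPComponent_mulEquiv {Z' : Type*} [Group Z'] (e : Z ≃* Z') {L : Subgroup Z}
    (hL : Cfsg.IsPComponent p L) : Cfsg.IsPComponent p (L.map e.toMonoidHom) := by
  let e' : (Z ⧸ Cfsg.pPrimeCore p Z) ≃* (Z' ⧸ Cfsg.pPrimeCore p Z') :=
    QuotientGroup.congr _ _ e (CfsgLib.PCore.map_pPrimeCore_equiv (p := p) e)
  have hcomm : ∀ M : Subgroup Z, (M.map e.toMonoidHom).map (QuotientGroup.mk' (Cfsg.pPrimeCore p Z')) =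
      (M.map (QuotientGroup.mk' _)).map e'.toMonoidHom := by
    intro M
    rw [map_map, map_map]
    rfl
  refine ⟨hL.1.map e.surjective, ?_, fun A hA hle hm => ?_⟩
  · rw [hcomm]
    exact isComponent_map_equiv e' hL.2.1
  · have hA' : A = (A.map e.symm.toMonoidHom).map e.toMonoidHom := by
      rw [map_map]
      convert (map_id A).symm
      ext y; simp
    rw [hA', hcomm, hcomm] at hm
    rw [hA']
    congr 1
    refine hL.2.2 _ (hA.map e.symm.surjective) ?_ (map_injective e'.injective hm)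
    rintro _ ⟨y, hy, rfl⟩
    obtain ⟨z, hz, rfl⟩ := hle hy
    simpa using hz

theorem pLayerOf_le_pElemClosure {G : Type*} [Group G] [Finite G] (H : Subgroup G) :
    Cfsg.pLayerOf p H ≤ pElemClosure p H := by
  have h : Cfsg.pLayer p ↥H ≤ pElemClosure p (⊤ : Subgroup ↥H) :=
    sSup_le fun K hK => (pComponent_le_pElemClosure hK).trans (pElemClosure_mono le_top)
  refine (map_mono h).trans ?_
  rw [map_pElemClosure, ← MonoidHom.range_eq_map, range_subtype]

end General

variable {G : Type*} [Group G] [Finite G] {p : ℕ} [hp : Fact p.Prime] {m1 m2 : ℕ}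

/-- The `p`-component over a component. -/
theorem pComp_spec {H : Subgroup G} {B : Subgroup (Bar p H)} (hB : Cfsg.IsComponent B) :
    Cfsg.IsPComponentOf p (pElemClosure p (lift p H B)) H ∧ img p H (pElemClosure p (lift p H B)) = B := by
  have hsub : ((lift p H B).subgroupOf H).IsSubnormal := by
    rw [subgroupOf_lift]
    exact hB.1.comap _
  obtain ⟨hP, hmap, -, -, -, himg⟩ := pElem_spec (lift_le H B) hsub (by rw [img_lift]; exact hB)
  refine ⟨⟨(pElemClosure_le _).trans (lift_le H B), ?_⟩, himg.trans (img_lift H B)⟩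
  rwa [← hmap, subgroupOf, comap_map_eq_self_of_injective H.subtype_injective]

/-- A `p`-component modulo its core is isomorphic to its image. -/
theorem quotient_equiv_img {H K : Subgroup G} (hK : Cfsg.IsPComponentOf p K H) :
    Nonempty (↥K ⧸ Cfsg.pPrimeCore p ↥K ≃* ↥(img p H K)) := by
  set L := K.subgroupOf H
  set q := QuotientGroup.mk' (Cfsg.pPrimeCore p ↥H)
  have hker : (q.subgroupMap L).ker = Cfsg.pPrimeCore p L := by
    apply map_injective (subtype_injective L)
    rw [map_pPrimeCore_eq_inf hK.2.1]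
    ext z
    constructor
    · rintro ⟨y, hy, rfl⟩
      exact mem_inf.mpr ⟨y.2, (QuotientGroup.eq_one_iff _).mp (congrArg Subtype.val hy)⟩
    · intro hz
      exact ⟨⟨z, hz.1⟩, Subtype.ext ((QuotientGroup.eq_one_iff _).mpr hz.2), rfl⟩
  exact ⟨((QuotientGroup.congr _ _ (subgroupOfEquivOfLe hK.1)
    (CfsgLib.PCore.map_pPrimeCore_equiv (p := p) (subgroupOfEquivOfLe hK.1))).symm.trans
    (QuotientGroup.quotientMulEquivOfEq hker).symm).trans
    (QuotientGroup.quotientKerEquivOfSurjective _ (q.subgroupMap_surjective L))⟩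

omit [Finite G] hp in
theorem centralizerOfPComponent_eq (x : G) (K : Subgroup G) :
    Cfsg.centralizerOfPComponent p x K =
      lift p (Cn x) (centralizer (img p (Cn x) K : Set (Bar p (Cn x)))) :=
  rfl

/-- At a maximizing pair, the single link at a central element of a Sylow subgroup keeps that subgroup Sylow. -/
theorem Best.central {x : G} {K : Subgroup (Bar p (Cn x))} (hs : Setup G p m1 m2) (hb : Best p m1 m2 x K)
    {Q : Subgroup G} (hQ : IsSylIn p Q (Dg p x K)) {y : G} (hyQ : y ∈ Q) (hyo : orderOf y = p)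
    (hyc : ∀ w ∈ Q, y * w = w * y) :
    Q ≤ Dg p y (Himg p x K y) ∧ ¬ p ∣ Q.relIndex (Dg p y (Himg p x K y)) := by
  have hx := hb.order
  have hK := hb.good
  have hyD := hQ.le hyQ
  obtain ⟨J, hJ, -⟩ := hs.exists_link hx hK hyD hyo
  have hc := hb.single hs hyD hyo
  have hHJ := (hs.single_eq hx hJ ((hs.single_iff hx hJ).mp hc)).1
  have hQy : Q ≤ Cn y := fun w hw => mem_centralizer_singleton_iff.mpr (hyc w hw).symm
  have hle : Q ≤ Dg p y (Himg p x K y) := fun d hd =>
    mem_Dg_iff.mpr ⟨hQy hd, hs.mem_centralizer_himg hx hK hyD hyo (hQ.le hd) (hQy hd)⟩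
  refine ⟨hle, fun hdvd => ?_⟩
  have hgood : Good m1 m2 (Himg p x K y) := hHJ.symm ▸ hJ.good
  have hsig : sig p y (Himg p x K y) ≤ sig p x K := by
    by_cases hm : m1 = m2
    · by_cases hwf : WF p m1 m2 x K
      · obtain ⟨P, hP, hcfg⟩ := hwf hm
        obtain ⟨d, hd, hdQ⟩ := hP.exists_conj hQ.le hQ.isPGroup
        have hQP : Q.map (MulAut.conj d).toMonoidHom = P := by
          refine eq_of_le_of_card_ge ?_ (by rw [card_map_of_injective (MulAut.conj d).injective, hP.card, hQ.card])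
          rintro _ ⟨w, hw, rfl⟩
          exact hdQ w hw
        have hy'o : orderOf (d * y * d⁻¹) = p := by
          rw [← hyo]
          exact orderOf_injective (MulAut.conj d).toMonoidHom (MulAut.conj d).injective y
        have hy'c : ∀ w ∈ P, d * y * d⁻¹ * w = w * (d * y * d⁻¹) := by
          intro w hw
          obtain ⟨v, hv, rfl⟩ : w ∈ Q.map (MulAut.conj d).toMonoidHom := hQP ▸ hw
          exact (map_mul (MulAut.conj d) y v).symm.trans
            ((congrArg (MulAut.conj d) (hyc v hv)).trans (map_mul (MulAut.conj d) v y))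
        have hy'P := hdQ y hyQ
        have hc' := hb.single hs (hP.le hy'P) hy'o
        obtain ⟨J', hJ', -⟩ := hs.exists_link hx hK (hP.le hy'P) hy'o
        have hfix' := (hs.single_iff hx hJ').mp hc'
        obtain ⟨-, hwf'⟩ := hs.wf_of_central hx hK hy'o hP hy'P hy'c (fun _ => hcfg) hJ' hfix'
        rw [← sig_himg_conj hd, (hs.single_eq hx hJ' hfix').1]
        exact hb.sig_le _ J' hy'o hJ'.good fun _ => hwf'
      · exact hb.sig_le _ _ hyo hgood fun h => absurd h hwf
    · exact hb.sig_le _ _ hyo hgood fun _ h => absurd h hm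
  have h1 := (Q.subgroupOf (Dg p y (Himg p x K y))).index_mul_card
  rw [Nat.card_congr (subgroupOfEquivOfLe hle).toEquiv, hQ.card] at h1
  have h2 : p ^ (sig p x K + 1) ∣ Nat.card (Dg p y (Himg p x K y)) := by
    have h3 := mul_dvd_mul_right hdvd (p ^ sig p x K)
    rwa [← pow_succ', show Q.relIndex (Dg p y (Himg p x K y)) * p ^ sig p x K = _ from h1] at h3
  have h4 : sig p x K + 1 ≤ sig p y (Himg p x K y) :=
    (hp.out.pow_dvd_iff_le_factorization Nat.card_pos.ne').mp h2
  omega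

/-- A maximizing pair gives a `p`-terminal `p`-component. -/
theorem Best.isPTerminal {x : G} {K : Subgroup (Bar p (Cn x))} (hs : Setup G p m1 m2) (hb : Best p m1 m2 x K) :
    Cfsg.IsPTerminal p x (pElemClosure p (lift p (Cn x) K)) := by
  have hx := hb.order
  have hK := hb.good
  set KG := pElemClosure p (lift p (Cn x) K) with hKG
  obtain ⟨hKP, hKimg⟩ := pComp_spec hK.comp
  have hD : Cfsg.centralizerOfPComponent p x KG = Dg p x K := by
    rw [centralizerOfPComponent_eq, hKimg, Dg]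
  have hLsub : ∀ y, pElemClosure p (KG ⊓ Cn y) = Lsub p x K y := by
    intro y
    refine le_antisymm (pElemClosure_mono (inf_le_inf_right _ (pElemClosure_le _))) ?_
    refine pElemClosure_eq_of_le (le_inf ?_ ((pElemClosure_le _).trans inf_le_right))
    exact pElemClosure_mono inf_le_left
  refine ⟨hx, hKP, ?_, ?_⟩
  · intro y hy hyo
    rw [hD] at hy
    have hc := hb.single hs hy hyo
    obtain ⟨J, hJ, ⟨e⟩⟩ := hs.exists_link hx hK hy hyo
    obtain ⟨hJP, hJimg⟩ := pComp_spec hc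
    refine ⟨_, hJP, ?_, ?_⟩
    · refine (pLayerOf_le_pElemClosure (p := p) (KG ⊓ Cn y)).trans ?_
      rw [hLsub]
      refine pElemClosure_eq_of_le fun g hg => ?_
      exact mem_lift.mpr ⟨(pElemClosure_le _ hg).2, bmk_mem_img _ hg⟩
    · obtain ⟨eJ⟩ := quotient_equiv_img hJP
      obtain ⟨eK⟩ := quotient_equiv_img hKP
      exact ⟨(eJ.trans (MulEquiv.subgroupCongr hJimg)).trans (e.trans
        (eK.trans (MulEquiv.subgroupCongr hKimg)).symm)⟩
  · intro Q y hyQ hyc hyo J hJ hle
    generalize hQG : (Q : Subgroup _).map (Cfsg.centralizerOfPComponent p x KG).subtype = QG at *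
    have hQsyl : IsSylIn p QG (Dg p x K) := by
      rw [← hQG, ← hD]
      exact map_subgroupOf_isSylIn Q
    have hyD := hQsyl.le hyQ
    obtain ⟨hQle, hQidx⟩ := hb.central hs hQsyl hyQ hyo fun w hw => (hyc w hw).symm
    -- the component under `J`
    have hXle : Lsub p x K y ≤ Cfsg.pLayerOf p (KG ⊓ Cn y) := by
      set X := Cn x ⊓ Cn y
      have hgood := hs.good_desc hK hyD hyo
      have hle' : lift p (Cn x) K ⊓ Cn y ≤ X := inf_le_inf_right _ (lift_le _ _)
      have hsub : ((lift p (Cn x) K ⊓ Cn y).subgroupOf X).IsSubnormal := by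
        have := lift_inf_subnormal (p := p) (inf_le_left : X ≤ Cn x) hK.comp.1
        rwa [← inf_assoc, inf_eq_left.mpr (lift_le (Cn x) K)] at this
      obtain ⟨hLP, hLmap, -⟩ := pElem_spec hle' hsub hgood.comp
      have hLle : Lsub p x K y ≤ KG ⊓ Cn y :=
        le_inf (pElemClosure_mono inf_le_left) ((pElemClosure_le _).trans inf_le_right)
      have hHX : KG ⊓ Cn y ≤ X := inf_le_inf_right _ hKP.1
      have hHsub : ((KG ⊓ Cn y).subgroupOf X).IsSubnormal := by
        have h1 : (KG.subgroupOf (Cn x)).IsSubnormal := hKP.2.1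
        have := h1.comap (inclusion (inf_le_left : X ≤ Cn x))
        convert this using 1
        ext ⟨g, hg⟩
        exact ⟨fun h => h.1, fun h => mem_inf.mpr ⟨h, hg.2⟩⟩
      have hLX : Lsub p x K y ≤ X := hLle.trans hHX
      have hLP' : Cfsg.IsPComponent p ((Lsub p x K y).subgroupOf X) := by
        rw [Lsub, ← hLmap, subgroupOf, comap_map_eq_self_of_injective X.subtype_injective]
        exact hLP
      have h1 := isPComponent_subgroupOf_of_le hLP' hHsub (comap_mono hLle)
      have h2 := pComponent_le_pLayer h1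
      intro g hg
      have hg' : (⟨g, hLX hg⟩ : X) ∈ (KG ⊓ Cn y).subgroupOf X := hLle hg
      have h3 := h2 (x := ⟨⟨g, hLX hg⟩, hg'⟩) hg
      let e : ↥((KG ⊓ Cn y).subgroupOf X) ≃* ↥(KG ⊓ Cn y) := subgroupOfEquivOfLe hHX
      refine ⟨e ⟨⟨g, hLX hg⟩, hg'⟩, ?_, rfl⟩
      have h4 : (Cfsg.pLayer p ↥((KG ⊓ Cn y).subgroupOf X)).map e.toMonoidHom ≤ Cfsg.pLayer p ↥(KG ⊓ Cn y) := by
        rw [map_le_iff_le_comap]
        exact sSup_le fun A hA => map_le_iff_le_comap.mp (pComponent_le_pLayer (isPComponent_mulEquiv e hA))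
      exact h4 ⟨_, h3, rfl⟩
    have hJc : Cfsg.IsComponent (img p (Cn y) J) := hJ.2.2.1
    have hsub : Himg p x K y ≤ img p (Cn y) J := img_mono (hXle.trans hle)
    have hcH := hb.single hs hyD hyo
    have heq : Himg p x K y = img p (Cn y) J := by
      by_contra hne
      apply component_commutator_ne_bot hcH
      exact le_bot_iff.mp ((commutator_mono le_rfl hsub).trans (commutator_components_eq_bot hcH hJc hne).le)
    rw [centralizerOfPComponent_eq, ← heq]
    exact ⟨hQle, hQidx⟩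

/-- A finite group in which some centralizer of an element of order `p` has a component modulo its core has a
maximizing pair, for suitable invariants. -/
theorem exists_best (hsch : ∀ a : G, orderOf a = p → ∀ K : Subgroup (Bar p (Cn a)), Cfsg.IsComponent K →
      Group.IsSolvable (Cfsg.Out (↥K ⧸ center ↥K)))
    {a : G} (ha : orderOf a = p) {K : Subgroup (Bar p (Cn a))} (hK : Cfsg.IsComponent K) :
    ∃ (m1 m2 : ℕ) (x : G) (L : Subgroup (Bar p (Cn x))), Setup G p m1 m2 ∧ Best p m1 m2 x L := by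
  classical
  let Pair := Σ b : {b : G // orderOf b = p}, {L : Subgroup (Bar p (Cn b.1)) // Cfsg.IsComponent L}
  haveI : Nonempty Pair := ⟨⟨⟨a, ha⟩, K, hK⟩⟩
  obtain ⟨q1, hq1⟩ := Finite.exists_max fun q : Pair => topCard q.2.1
  set m1 := topCard q1.2.1 with hm1
  haveI : Nonempty {q : Pair // topCard q.2.1 = m1} := ⟨⟨q1, rfl⟩⟩
  obtain ⟨q2, hq2⟩ := Finite.exists_max fun q : {q : Pair // topCard q.2.1 = m1} => Nat.card q.1.2.1
  set m2 := Nat.card q2.1.2.1 with hm2
  have hs : Setup G p m1 m2 := ⟨hsch, fun b hb L hL => ⟨hq1 ⟨⟨b, hb⟩, L, hL⟩,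
    fun h => hq2 ⟨⟨⟨b, hb⟩, L, hL⟩, h⟩⟩⟩
  let GPair := {q : Pair // topCard q.2.1 = m1 ∧ Nat.card q.2.1 = m2}
  let S : Set GPair := {q | (∃ q' : GPair, WF p m1 m2 q'.1.1.1 q'.1.2.1) → WF p m1 m2 q.1.1.1 q.1.2.1}
  haveI : Nonempty S := by
    by_cases h : ∃ q' : GPair, WF p m1 m2 q'.1.1.1 q'.1.2.1
    · obtain ⟨q', hq'⟩ := h
      exact ⟨⟨q', fun _ => hq'⟩⟩
    · exact ⟨⟨⟨q2.1, q2.2, rfl⟩, fun h' => absurd h' h⟩⟩
  let sc : S → ℕ := fun q => 2 * sig p q.1.1.1.1 q.1.1.2.1 + if WE p q.1.1.1.1 q.1.1.2.1 then 1 else 0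
  obtain ⟨⟨⟨⟨⟨x, hx⟩, L, hL⟩, hL1, hL2⟩, hbS⟩, hbmax⟩ := Finite.exists_max sc
  have hmem : ∀ y (J : Subgroup (Bar p (Cn y))) (hy : orderOf y = p) (hJ : Good m1 m2 J),
      (WF p m1 m2 x L → WF p m1 m2 y J) →
      (⟨⟨⟨y, hy⟩, J, hJ.comp⟩, hJ.top_eq, hJ.card_eq⟩ : GPair) ∈ S :=
    fun y J hy hJ h hex => h (hbS hex)
  refine ⟨m1, m2, x, L, hs, ⟨hx, ⟨hL, hL1, hL2⟩, ?_, ?_, ?_⟩⟩
  · intro y J hy hJ hwf
    exact hbS ⟨⟨⟨⟨y, hy⟩, J, hJ.comp⟩, hJ.top_eq, hJ.card_eq⟩, hwf⟩
  · intro y J hy hJ h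
    have h1 := hbmax ⟨_, hmem y J hy hJ h⟩
    simp only [sc] at h1
    split_ifs at h1 <;> omega
  · intro y J hy hJ h hsig hwe
    have h1 := hbmax ⟨_, hmem y J hy hJ h⟩
    simp only [sc] at h1
    rw [hsig, if_pos hwe] at h1
    by_contra hne
    rw [if_neg hne] at h1
    omega

end CfsgLib.Tech46.Terminal
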