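import Cfsg.Agent.Lib.Tech46.Balance
import Cfsg.Agent.Lib.Components.ComponentAction
import Cfsg.Agent.Lib.Tech46.Terminal.Descend

/-!
An element `a` of prime order acting on the components: orbits, diagonal subgroups, and the position of a
perfect subnormal subgroup of the centralizer of `a` inside the layer.
-/

set_option autoImplicit false

namespace CfsgLib.Tech46.Terminal

open Subgroup CfsgLib.Components
open scoped commutatorElement Pointwise

variable {Y : Type*} [Group Y]

/-- `|K / Z(K)|`. -/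
noncomputable def topCard (K : Subgroup Y) : ℕ := Nat.card (↥K ⧸ center ↥K)

/-- The conjugates of `K` under the powers of `a`. -/
def orbit (a : Y) (K : Subgroup Y) : Set (Subgroup Y) :=
  {L | ∃ i : ℕ, L = K.map (MulAut.conj (a ^ i)).toMonoidHom}

theorem self_mem_orbit (a : Y) (K : Subgroup Y) : K ∈ orbit a K :=
  ⟨0, by rw [pow_zero, map_conj_one]⟩

theorem le_sSup_orbit (a : Y) (K : Subgroup Y) : K ≤ sSup (orbit a K) :=
  le_sSup (self_mem_orbit a K)

theorem isComponent_of_mem_orbit {a : Y} {K L : Subgroup Y} (hK : Cfsg.IsComponent K)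
    (h : L ∈ orbit a K) : Cfsg.IsComponent L := by
  obtain ⟨i, rfl⟩ := h
  exact isComponent_conj _ hK

theorem topCard_map {Z : Type*} [Group Z] (e : Y ≃* Z) (K : Subgroup Y) :
    topCard (K.map e.toMonoidHom) = topCard K :=
  (Nat.card_congr (QuotientGroup.congr (center ↥K) (center ↥(K.map e.toMonoidHom)) (e.subgroupMap K)
    (le_antisymm (map_center_le_center_of_surjective _ (e.subgroupMap K).surjective) (fun z hz =>
      ⟨(e.subgroupMap K).symm z,
        map_center_le_center_of_surjective (e.subgroupMap K).symm.toMonoidHom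
          (e.subgroupMap K).symm.surjective ⟨z, hz, rfl⟩, (e.subgroupMap K).apply_symm_apply z⟩))).toEquiv).symm

theorem topCard_eq_of_mulEquiv {Z : Type*} [Group Z] {K : Subgroup Y} {L : Subgroup Z} (e : ↥K ≃* ↥L) :
    topCard K = topCard L :=
  Nat.card_congr (QuotientGroup.congr (center ↥K) (center ↥L) e
    (le_antisymm (map_center_le_center_of_surjective _ e.surjective) (fun z hz =>
      ⟨e.symm z, map_center_le_center_of_surjective e.symm.toMonoidHom e.symm.surjective ⟨z, hz, rfl⟩,
        e.apply_symm_apply z⟩))).toEquiv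

theorem mem_normalizer_iff_conj_eq {a : Y} {K : Subgroup Y} :
    a ∈ normalizer (K : Set Y) ↔ K.map (MulAut.conj a).toMonoidHom = K := by
  rw [mem_normalizer_iff_map_conj_eq]
  rfl

theorem card_conj_range (K : Subgroup Y) : Nat.card (MulAut.conj (G := ↥K)).range = topCard K := by
  rw [topCard, ← Nat.card_congr (QuotientGroup.quotientKerEquivRange (MulAut.conj (G := ↥K))).toEquiv]
  congr 2
  ext z
  simp only [MonoidHom.mem_ker, mem_center_iff, MulEquiv.ext_iff, MulAut.conj_apply, MulAut.one_apply]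
  exact ⟨fun h w => by
    conv_lhs => rw [← h w]
    group, fun h w => by rw [← h w, mul_inv_cancel_right]⟩

theorem normalizerMonoidHom_eq_one_iff {K : Subgroup Y} {g : Y} (hg : g ∈ normalizer (K : Set Y)) :
    K.normalizerMonoidHom ⟨g, hg⟩ = 1 ↔ g ∈ centralizer (K : Set Y) := by
  rw [← MonoidHom.mem_ker, normalizerMonoidHom_ker]
  rfl

theorem normalizerMonoidHom_self {K : Subgroup Y} (k : K) :
    K.normalizerMonoidHom ⟨k, le_normalizer k.2⟩ = MulAut.conj k := by
  ext z
  rfl

theorem conj_mem_centralizer {K : Subgroup Y} {g c : Y} (hg : g ∈ normalizer (K : Set Y))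
    (hc : c ∈ centralizer (K : Set Y)) : g * c * g⁻¹ ∈ centralizer (K : Set Y) := by
  rw [mem_centralizer_iff] at hc ⊢
  intro l hl
  have h2 := hc (g⁻¹ * l * g) ((mem_normalizer_iff''.mp hg l).mp hl)
  calc l * (g * c * g⁻¹) = g * ((g⁻¹ * l * g) * c) * g⁻¹ := by group
    _ = g * (c * (g⁻¹ * l * g)) * g⁻¹ := by rw [h2]
    _ = g * c * g⁻¹ * l := by group

theorem normalizerMonoidHom_eq_of_mem {K : Subgroup Y} {g k : Y} (hg : g ∈ normalizer (K : Set Y))
    (hk : k ∈ normalizer (K : Set Y)) (h : k⁻¹ * g ∈ centralizer (K : Set Y)) :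
    K.normalizerMonoidHom ⟨g, hg⟩ = K.normalizerMonoidHom ⟨k, hk⟩ := by
  have h1 := (normalizerMonoidHom_eq_one_iff (mul_mem (inv_mem hk) hg)).mpr h
  rw [show (⟨g, hg⟩ : normalizer (K : Set Y)) = ⟨k, hk⟩ * ⟨k⁻¹ * g, mul_mem (inv_mem hk) hg⟩ from
    Subtype.ext (mul_inv_cancel_left k g).symm, map_mul, h1, mul_one]

variable [Finite Y] {p : ℕ} [hp : Fact p.Prime]

omit hp in
theorem exists_inner_rep {K : Subgroup Y} (hK : Cfsg.IsComponent K) {g : Y} (hg : g ∈ Cfsg.layer Y) :
    ∃ k ∈ K, k⁻¹ * g ∈ centralizer (K : Set Y) := by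
  have hEKC : Cfsg.layer Y ≤ K ⊔ centralizer (K : Set Y) := by
    refine sSup_le fun L hL => ?_
    obtain rfl | hne := eq_or_ne L K
    · exact le_sup_left
    · exact (le_centralizer_of_commutator_eq_bot (commutator_components_eq_bot hL hK hne)).trans le_sup_right
  have h : g ∈ (K : Set Y) * (centralizer (K : Set Y) : Set Y) := by
    rw [← coe_mul_of_right_le_normalizer_left K _ (centralizer_le_normalizer _)]
    exact hEKC hg
  obtain ⟨k, hk, c, hc, rfl⟩ := Set.mem_mul.mp h
  exact ⟨k, hk, by rwa [inv_mul_cancel_left]⟩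

omit hp in
/-- An element normalizing the component `K` and commuting with a set inducing all inner automorphisms of
`K` centralizes `K`. -/
theorem mem_centralizer_of_commute_onto {K : Subgroup Y} (hK : Cfsg.IsComponent K) {g : Y}
    (hg : g ∈ normalizer (K : Set Y))
    (h : ∀ k ∈ K, ∃ n, k⁻¹ * n ∈ centralizer (K : Set Y) ∧ g * n = n * g) :
    g ∈ centralizer (K : Set Y) := by
  refine mem_centralizer_of_component_mod_center hK fun k hk => ?_
  obtain ⟨n, hc, hgn⟩ := h k hk
  refine mem_inf.mpr ⟨mul_mem ((mem_normalizer_iff.mp hg k).mp hk) (inv_mem hk), ?_⟩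
  have hnN : n ∈ normalizer (K : Set Y) := by
    have := mul_mem (le_normalizer hk) (centralizer_le_normalizer _ hc)
    rwa [mul_inv_cancel_left] at this
  have h1 := conj_mem_centralizer hnN (mul_mem (conj_mem_centralizer hg (inv_mem hc)) hc)
  have e : ⁅g, k⁆ = n * (g * (k⁻¹ * n)⁻¹ * g⁻¹ * (k⁻¹ * n)) * n⁻¹ := by
    rw [commutatorElement_def]
    have e1 : n * g = g * n := hgn.symm
    calc g * k * g⁻¹ * k⁻¹ = g * n * (n⁻¹ * k) * g⁻¹ * k⁻¹ := by group
      _ = n * g * (n⁻¹ * k) * g⁻¹ * k⁻¹ := by rw [e1]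
      _ = _ := by group
  rw [e]
  exact h1

omit hp in
theorem dvd_topCard [hp : Fact p.Prime] (hO : Cfsg.pPrimeCore p Y = ⊥) {K : Subgroup Y}
    (hK : Cfsg.IsComponent K) : p ∣ topCard K := by
  by_contra hnd
  have h1 := pElemClosure_top_of_quasisimple (p := p) hK.2 (dvd_card_component hO hK)
  apply quasisimple_center_ne_top hK.2
  rw [eq_top_iff, ← h1]
  refine (closure_le _).mpr ?_
  rintro z ⟨-, n, hn⟩
  refine (QuotientGroup.eq_one_iff z).mp (orderOf_eq_one_iff.mp (Nat.eq_one_of_dvd_coprimes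
    ((hp.out.coprime_iff_not_dvd.mpr hnd).pow_left n) (orderOf_dvd_of_pow_eq_one ?_) (orderOf_dvd_natCard _)))
  rw [← QuotientGroup.mk_pow, hn, QuotientGroup.mk_one]

omit [Finite Y] in
/-- `(k a)^n a^{-n}`. -/
theorem diag_fixed {K : Subgroup Y} {a : Y} (hap : a ^ p = 1)
    (hcomm : ∀ i, 0 < i → i < p → ⁅K.map (MulAut.conj (a ^ i)).toMonoidHom, K⁆ = ⊥) {k : Y} (hk : k ∈ K) :
    a * (k * a) ^ p * a⁻¹ = (k * a) ^ p ∧ (k * a) ^ p ∈ sSup (orbit a K) ∧
      k⁻¹ * (k * a) ^ p ∈ centralizer (K : Set Y) := by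
  have hp0 : 0 < p := hp.out.pos
  have hsucc : ∀ n : ℕ, (k * a) ^ (n + 1) * (a ^ (n + 1))⁻¹ =
      (k * a) ^ n * (a ^ n)⁻¹ * (a ^ n * k * (a ^ n)⁻¹) := by
    intro n; rw [pow_succ, pow_succ]; group
  have hrest : ∀ n, n < p →
      k⁻¹ * ((k * a) ^ (n + 1) * (a ^ (n + 1))⁻¹) ∈
        centralizer (K : Set Y) ⊓ sSup (orbit a K) := by
    intro n
    induction n with
    | zero =>
      intro _
      rw [show k⁻¹ * ((k * a) ^ (0 + 1) * (a ^ (0 + 1))⁻¹) = 1 by simp]
      exact one_mem _
    | succ n ih =>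
      intro hn
      rw [hsucc, ← mul_assoc]
      refine mul_mem (ih (by omega)) ⟨?_, ?_⟩
      · exact le_centralizer_of_commutator_eq_bot (hcomm (n + 1) (by omega) hn) ⟨k, hk, rfl⟩
      · exact le_sSup (s := orbit a K) ⟨n + 1, rfl⟩ ⟨k, hk, rfl⟩
  obtain ⟨hc, hW⟩ := hrest (p - 1) (by omega)
  rw [Nat.sub_add_cancel hp0, hap, inv_one, mul_one] at hc hW
  have hk' : Commute k ((k * a) ^ p) := by
    have h0 : k * (k⁻¹ * (k * a) ^ p) = k⁻¹ * (k * a) ^ p * k := mem_centralizer_iff.mp hc k hk
    rw [mul_inv_cancel_left] at h0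
    show k * (k * a) ^ p = (k * a) ^ p * k
    conv_lhs => rw [h0]
    group
  refine ⟨?_, ?_, hc⟩
  · have h1 : Commute a ((k * a) ^ p) := by
      have h2 : Commute (k * a) ((k * a) ^ p) := Commute.self_pow _ _
      have h3 := hk'.inv_left.mul_left h2
      rwa [inv_mul_cancel_left] at h3
    rw [h1.eq, mul_inv_cancel_right]
  · have := mul_mem (le_sSup_orbit a K hk) hW
    rwa [mul_inv_cancel_left] at this

omit [Finite Y] in
theorem diag_mul {K : Subgroup Y} {a : Y} (hap : a ^ p = 1)
    (hcomm : ∀ i j, i < p → j < p → i ≠ j →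
      ⁅K.map (MulAut.conj (a ^ i)).toMonoidHom, K.map (MulAut.conj (a ^ j)).toMonoidHom⁆ = ⊥)
    {k l : Y} (hk : k ∈ K) (hl : l ∈ K) : (k * l * a) ^ p = (k * a) ^ p * (l * a) ^ p := by
  have hsucc : ∀ (z : Y) (n : ℕ), (z * a) ^ (n + 1) * (a ^ (n + 1))⁻¹ =
      (z * a) ^ n * (a ^ n)⁻¹ * (a ^ n * z * (a ^ n)⁻¹) := by
    intro z n; rw [pow_succ, pow_succ]; group
  have hmem : ∀ (z : Y), z ∈ K → ∀ n, (z * a) ^ n * (a ^ n)⁻¹ ∈
      ⨆ (i : ℕ) (_ : i < n), K.map (MulAut.conj (a ^ i)).toMonoidHom := by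
    intro z hz n
    induction n with
    | zero => simp
    | succ n ih =>
      rw [hsucc]
      refine mul_mem (iSup₂_le (fun i hi => le_iSup₂ (f := fun i (_ : i < n + 1) =>
        K.map (MulAut.conj (a ^ i)).toMonoidHom) i (Nat.lt_succ_of_lt hi)) ih) ?_
      exact le_iSup₂ (f := fun i (_ : i < n + 1) => K.map (MulAut.conj (a ^ i)).toMonoidHom) n
        (Nat.lt_succ_self n) ⟨z, hz, rfl⟩
  have key : ∀ n, n ≤ p → (k * l * a) ^ n * (a ^ n)⁻¹ =
      (k * a) ^ n * (a ^ n)⁻¹ * ((l * a) ^ n * (a ^ n)⁻¹) := by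
    intro n
    induction n with
    | zero => simp
    | succ n ih =>
      intro hn
      rw [hsucc (k * l), hsucc k, hsucc l, ih (by omega)]
      have hle : (⨆ (i : ℕ) (_ : i < n), K.map (MulAut.conj (a ^ i)).toMonoidHom) ≤
          centralizer ((K.map (MulAut.conj (a ^ n)).toMonoidHom : Subgroup Y) : Set Y) :=
        iSup₂_le fun i hi => le_centralizer_of_commutator_eq_bot (hcomm i n (by omega) hn (by omega))
      have h0 := mem_centralizer_iff.mp (hle (hmem l hl n)) (a ^ n * k * (a ^ n)⁻¹) ⟨k, hk, rfl⟩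
      set A := (k * a) ^ n * (a ^ n)⁻¹
      set B := (l * a) ^ n * (a ^ n)⁻¹
      set C := a ^ n * k * (a ^ n)⁻¹
      calc A * B * (a ^ n * (k * l) * (a ^ n)⁻¹) = A * (B * C) * (a ^ n * l * (a ^ n)⁻¹) := by
            simp only [C]; group
        _ = A * (C * B) * (a ^ n * l * (a ^ n)⁻¹) := by rw [h0]
        _ = A * C * (B * (a ^ n * l * (a ^ n)⁻¹)) := by group
  have h := key p le_rfl
  rwa [hap, inv_one, mul_one, mul_one, mul_one] at h

omit [Finite Y] in
theorem orbit_pairwise {K : Subgroup Y} {a : Y} (hap : a ^ p = 1) (ha : a ∉ normalizer (K : Set Y))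
    {i j : ℕ} (hi : i < p) (hj : j < p) (hij : i ≠ j) :
    K.map (MulAut.conj (a ^ i)).toMonoidHom ≠ K.map (MulAut.conj (a ^ j)).toMonoidHom := by
  intro he
  wlog hlt : i < j generalizing i j with H
  · exact H hj hi hij.symm he.symm (by omega)
  apply ha
  have hd : a ^ (j - i) ∈ normalizer (K : Set Y) := by
    rw [mem_normalizer_iff_conj_eq]
    have h1 := congrArg (map (MulAut.conj (a ^ i)⁻¹).toMonoidHom) he.symm
    rw [map_conj_map_conj, map_conj_map_conj, inv_mul_cancel, map_conj_one] at h1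
    rwa [show a ^ (j - i) = (a ^ i)⁻¹ * a ^ j by
      rw [eq_inv_mul_iff_mul_eq, ← pow_add, Nat.add_sub_cancel' hlt.le]]
  have hcop : Nat.Coprime (j - i) p := ((hp.out.coprime_iff_not_dvd.mpr fun hd' => by
    have := Nat.le_of_dvd (by omega) hd'
    omega)).symm
  obtain ⟨m, -, hm⟩ := Nat.exists_mul_mod_eq_one_of_coprime hcop hp.out.one_lt
  have : (a ^ (j - i)) ^ m = a := by
    rw [← pow_mul]
    conv_lhs => rw [← Nat.mod_add_div ((j - i) * m) p, hm, pow_add, pow_one, pow_mul, hap, one_pow, mul_one]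
  exact this ▸ pow_mem hd m

omit [Finite Y] hp in
theorem mem_centralizer_sSup_orbit {K : Subgroup Y} {a h : Y} (hha : a * h = h * a)
    (hc : h ∈ centralizer (K : Set Y)) : h ∈ centralizer ((sSup (orbit a K) : Subgroup Y) : Set Y) := by
  have hle : sSup (orbit a K) ≤ centralizer ({h} : Set Y) := by
    refine sSup_le ?_
    rintro L ⟨i, rfl⟩
    rintro _ ⟨k, hk, rfl⟩
    rw [mem_centralizer_singleton_iff]
    have hai : Commute (a ^ i) h := Commute.pow_left hha i
    show (a ^ i * k * (a ^ i)⁻¹) * h = h * (a ^ i * k * (a ^ i)⁻¹)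
    rw [mul_assoc, hai.inv_left.eq, ← mul_assoc, mul_assoc (a ^ i), mem_centralizer_iff.mp hc k hk,
      ← mul_assoc, hai.eq]
    group
  exact mem_centralizer_iff.mpr fun y hy => mem_centralizer_singleton_iff.mp (hle hy)

/-- The conclusion about a perfect subnormal subgroup `H` of the centralizer of `a`. -/
structure OrbitSpec (a : Y) (H K : Subgroup Y) (m1 m2 : ℕ) : Prop where
  comp : Cfsg.IsComponent K
  top_eq : topCard K = m1
  card_eq : Nat.card K = m2
  card_H : Nat.card H = m2
  le_join : H ≤ sSup (orbit a K)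
  onto : ∀ k ∈ K, ∃ h ∈ H, k⁻¹ * h ∈ centralizer (K : Set Y)
  fixed : a ∈ normalizer (K : Set Y) → a ∈ centralizer (K : Set Y) ∧ H = K

/-- A perfect subnormal subgroup of `C(a)` inside the layer, with simple top as large as that of any
component, is a component centralized by `a` or the diagonal of an orbit of length `p`. -/
theorem exists_orbitSpec (hO : Cfsg.pPrimeCore p Y = ⊥) {a : Y} (hap : a ^ p = 1) {H : Subgroup Y}
    (hHa : H ≤ centralizer ({a} : Set Y)) (hHE : H ≤ Cfsg.layer Y) (hperf : ⁅H, H⁆ = H)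
    (hgen : pElemClosure p H = H) (hsub : (H.subgroupOf (centralizer ({a} : Set Y))).IsSubnormal)
    {Q : Type*} [Group Q] (hQ : Cfsg.IsQuasisimple Q) (f : H →* Q) (hf : Function.Surjective f)
    (hker : (Nat.card f.ker).Coprime p) {m1 m2 : ℕ} (hQ1 : Nat.card (Q ⧸ center Q) = m1)
    (hQ2 : Nat.card Q = m2)
    (hmax : ∀ K : Subgroup Y, Cfsg.IsComponent K → topCard K ≤ m1 ∧ (topCard K = m1 → Nat.card K ≤ m2)) :
    ∃ K, OrbitSpec a H K m1 m2 := by
  classical
  haveI : Finite Q := Finite.of_surjective f hf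
  -- nontrivial images of `H` are at least as large as its top
  have hbig : ∀ {Z : Type _} [Group Z] (g : H →* Z), g.range ≠ ⊥ → m1 ≤ Nat.card g.range := by
    intro Z _ g hg
    obtain htop | hcen := quasisimple_normal_eq_top_or_le_center hQ (g.ker.map f)
      (hN := g.normal_ker.map f hf)
    · exfalso
      apply hg
      have hidx : g.ker.index ∣ Nat.card f.ker := by
        have h1 : g.ker ⊔ f.ker = ⊤ := by
          rw [← comap_map_eq, htop, comap_top]
        rw [← relIndex_top_right, ← h1, relIndex_sup_left]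
        exact relIndex_dvd_card _ _
      have hgk : ∀ x : H, x ∈ g.ker := by
        intro x
        have hx : (x : Y) ∈ pElemClosure p H := by rw [hgen]; exact x.2
        suffices hle : pElemClosure p H ≤ g.ker.map H.subtype by
          obtain ⟨x', hx', he⟩ := hle hx
          rwa [← Subtype.ext he]
        refine (closure_le _).mpr ?_
        rintro z ⟨hz, n, hn⟩
        exact ⟨⟨z, hz⟩, mem_of_isSubnormal_of_coprime_index g.normal_ker.isSubnormal
          (hker.coprime_dvd_left hidx) (n := n) (Subtype.ext (by simpa using hn)), rfl⟩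
      rw [MonoidHom.range_eq_bot_iff]
      ext x
      exact MonoidHom.mem_ker.mp (hgk x)
    · rw [← hQ1, ← index_ker g]
      refine Nat.le_of_dvd (Nat.pos_of_ne_zero index_ne_zero_of_finite) ?_
      have h1 : ((QuotientGroup.mk' (center Q)).comp f).ker.index = Nat.card (Q ⧸ center Q) := by
        rw [index_ker, MonoidHom.range_eq_top.mpr
          (show Function.Surjective ((QuotientGroup.mk' (center Q)).comp f) from
            (QuotientGroup.mk'_surjective (center Q)).comp hf), card_top]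
      rw [← h1]
      refine index_dvd_of_le fun x hx => ?_
      rw [MonoidHom.mem_ker]
      exact (QuotientGroup.eq_one_iff _).mpr (hcen ⟨x, hx, rfl⟩)
  have hm2le : m2 ≤ Nat.card H := hQ2 ▸ Nat.card_le_card_of_surjective f hf
  -- a component on which `H` acts nontrivially
  obtain ⟨K, hK, hKH⟩ : ∃ K : Subgroup Y, Cfsg.IsComponent K ∧ ¬ H ≤ centralizer (K : Set Y) := by
    by_contra hcon
    push Not at hcon
    have h1 : H ≤ centralizer (Cfsg.layer Y : Set Y) := fun x hx =>
      mem_centralizer_layer fun K hK => hcon K hK hx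
    have h2 : ⁅H, H⁆ = ⊥ := le_bot_iff.mp ((commutator_mono le_rfl hHE).trans
      (commutator_eq_bot_iff_le_centralizer.mpr h1).le)
    rw [hperf] at h2
    haveI := quasisimple_nontrivial hQ
    obtain ⟨q, hq⟩ := exists_ne (1 : Q)
    obtain ⟨x, rfl⟩ := hf q
    have hx1 : x = 1 := Subtype.ext (mem_bot.mp (h2.le x.2))
    exact hq (hx1 ▸ map_one f)
  have hHN : H ≤ normalizer (K : Set Y) := hHE.trans (layer_le_normalizer_component hK)
  let θ : H →* MulAut K := K.normalizerMonoidHom.comp (inclusion hHN)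
  have hθ : θ.range ≠ ⊥ := by
    intro h
    apply hKH
    intro x hx
    have : θ ⟨x, hx⟩ = 1 := by rw [MonoidHom.range_eq_bot_iff.mp h]; rfl
    exact (normalizerMonoidHom_eq_one_iff _).mp this
  have hθle : θ.range ≤ (MulAut.conj (G := ↥K)).range := by
    rintro _ ⟨x, rfl⟩
    obtain ⟨k, hk, hkx⟩ := exists_inner_rep hK (hHE x.2)
    exact ⟨⟨k, hk⟩, (normalizerMonoidHom_self ⟨k, hk⟩).symm.trans
      (normalizerMonoidHom_eq_of_mem (hHN x.2) (le_normalizer hk) hkx).symm⟩
  have hle1 := Nat.le_of_dvd Nat.card_pos (card_dvd_of_le hθle)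
  rw [card_conj_range] at hle1
  have hKm1 : topCard K = m1 := le_antisymm (hmax K hK).1 ((hbig θ hθ).trans hle1)
  have hθeq : θ.range = (MulAut.conj (G := ↥K)).range :=
    eq_of_le_of_card_ge hθle (by rw [card_conj_range, hKm1]; exact hbig θ hθ)
  have honto : ∀ k ∈ K, ∃ h ∈ H, k⁻¹ * h ∈ centralizer (K : Set Y) := by
    intro k hk
    obtain ⟨x, hx⟩ : MulAut.conj (⟨k, hk⟩ : K) ∈ θ.range := hθeq ▸ ⟨_, rfl⟩
    refine ⟨x, x.2, (normalizerMonoidHom_eq_one_iff (mul_mem (inv_mem (le_normalizer hk)) (hHN x.2))).mp ?_⟩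
    have h1 : K.normalizerMonoidHom ⟨k, le_normalizer hk⟩ = K.normalizerMonoidHom ⟨x, hHN x.2⟩ :=
      (normalizerMonoidHom_self ⟨k, hk⟩).trans hx.symm
    calc K.normalizerMonoidHom ⟨k⁻¹ * x, _⟩
        = (K.normalizerMonoidHom ⟨k, le_normalizer hk⟩)⁻¹ * K.normalizerMonoidHom ⟨x, hHN x.2⟩ := by
          rw [← map_inv, ← map_mul]; rfl
      _ = 1 := by rw [h1, inv_mul_cancel]
  have hKle : Nat.card K ≤ m2 := (hmax K hK).2 hKm1
  have haN : a ∈ normalizer ((centralizer ({a} : Set Y) : Subgroup Y) : Set Y) :=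
    le_normalizer (mem_centralizer_singleton_iff.mpr rfl)
  -- a component `N` of `C(a)` on which `H` acts nontrivially is contained in, hence equal to, `H`
  have hfinish : ∀ N : Subgroup Y, N ≤ centralizer ({a} : Set Y) →
      Cfsg.IsComponent (N.subgroupOf (centralizer ({a} : Set Y))) → ⁅N, H⁆ ≠ ⊥ →
      Nat.card N ≤ Nat.card K → p ∣ Nat.card N → H = N ∧ Nat.card H = m2 ∧ Nat.card K = m2 := by
    intro N hN hNc hne hcard hpN
    obtain h | h := le_or_commutator_eq_bot hNc hsub
    · have hle : N ≤ H := le_of_subgroupOf_le hN h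
      have hperfN : ⁅N, N⁆ = N := by
        have := component_commutator_self hNc
        apply_fun map (centralizer ({a} : Set Y)).subtype at this
        rwa [map_commutator, map_subgroupOf_eq_of_le hN] at this
      have hNs : (N.subgroupOf H).IsSubnormal := hNc.1.comap (inclusion hHa)
      have htop : (N.subgroupOf H).map f = ⊤ := by
        have hperf' : ⁅(N.subgroupOf H).map f, (N.subgroupOf H).map f⁆ = (N.subgroupOf H).map f := by
          rw [← map_commutator]
          congr 1
          apply map_injective H.subtype_injective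
          rw [map_commutator, map_subgroupOf_eq_of_le hle, hperfN]
        obtain hb | hq := le_or_commutator_eq_bot (L := (⊤ : Subgroup Q))
          ⟨IsSubnormal.top, isQuasisimple_of_mulEquiv hQ topEquiv.symm⟩ (hNs.map hf)
        · exact top_le_iff.mp hb
        · exfalso
          have hbot : (N.subgroupOf H).map f = ⊥ := by
            rw [← hperf']
            exact le_bot_iff.mp ((commutator_mono le_top le_rfl).trans hq.le)
          rw [Subgroup.map_eq_bot_iff] at hbot
          have hNcop : (Nat.card N).Coprime p := by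
            rw [← Nat.card_congr (subgroupOfEquivOfLe hle).toEquiv]
            exact hker.coprime_dvd_left (card_dvd_of_le hbot)
          exact hp.out.one_lt.ne' (Nat.dvd_one.mp (hNcop ▸ Nat.dvd_gcd hpN dvd_rfl))
      have hidx : (N.subgroupOf H).index ∣ Nat.card f.ker := by
        have h1 : N.subgroupOf H ⊔ f.ker = ⊤ := by rw [← comap_map_eq, htop, comap_top]
        rw [← relIndex_top_right]
        exact relIndex_dvd_card_of_le_sup le_top h1.ge
      have hHN' : H ≤ N := by
        rw [← hgen]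
        refine (closure_le _).mpr ?_
        rintro z ⟨hz, n, hn⟩
        exact mem_of_isSubnormal_of_coprime_index (p := p) hNs (hker.coprime_dvd_left hidx)
          (g := ⟨z, hz⟩) (n := n) (Subtype.ext (by simpa using hn))
      have heq : H = N := le_antisymm hHN' hle
      exact ⟨heq, le_antisymm (by rw [heq]; omega) hm2le, le_antisymm hKle (by rw [← heq] at hcard; omega)⟩
    · exact absurd ((commutator_subgroupOf_eq_bot_iff hN hHa).mp h) hne
  have hnot : ∀ N : Subgroup Y, (∀ k ∈ K, ∃ n ∈ N, k⁻¹ * n ∈ centralizer (K : Set Y)) → ⁅N, H⁆ ≠ ⊥ := by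
    intro N hN h
    apply hKH
    intro x hx
    refine mem_centralizer_of_commute_onto hK (hHN hx) fun k hk => ?_
    obtain ⟨n, hn, hkn⟩ := hN k hk
    exact ⟨n, hkn, (commute_of_commutator_eq_bot h hn hx).symm⟩
  by_cases ha : a ∈ normalizer (K : Set Y)
  · have hac : a ∈ centralizer (K : Set Y) := mem_centralizer_of_commute_onto hK ha fun k hk =>
      let ⟨x, hx, hkx⟩ := honto k hk
      ⟨x, hkx, (mem_centralizer_singleton_iff.mp (hHa hx)).symm⟩
    have hKC : K ≤ centralizer ({a} : Set Y) := fun k hk =>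
      mem_centralizer_singleton_iff.mpr (mem_centralizer_iff.mp hac k hk)
    obtain ⟨heq, hcH, hcK⟩ := hfinish K hKC (isComponent_subgroupOf hK hKC)
      (hnot K fun k hk => ⟨k, hk, by rw [inv_mul_cancel]; exact one_mem _⟩) le_rfl
      (dvd_card_component hO hK)
    exact ⟨K, hK, hKm1, hcK, hcH, heq ▸ le_sSup_orbit a K, honto, fun _ => ⟨hac, heq⟩⟩
  · have hpw : ∀ i j, i < p → j < p → i ≠ j →
        ⁅K.map (MulAut.conj (a ^ i)).toMonoidHom, K.map (MulAut.conj (a ^ j)).toMonoidHom⁆ = ⊥ :=
      fun i j hi hj hij => commutator_components_eq_bot (isComponent_conj _ hK) (isComponent_conj _ hK)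
        (orbit_pairwise hap ha hi hj hij)
    have hdf := fun k (hk : k ∈ K) => diag_fixed (p := p) hap (fun i hi hip => by
      have := hpw i 0 hip hp.out.pos hi.ne'
      rwa [pow_zero, map_conj_one] at this) hk
    let ν : K →* Y := MonoidHom.mk' (fun k => ((k : Y) * a) ^ p) fun k l => diag_mul hap hpw k.2 l.2
    have hνC : ν.range ≤ centralizer ({a} : Set Y) := by
      rintro _ ⟨k, rfl⟩
      rw [mem_centralizer_singleton_iff]
      exact (mul_inv_eq_iff_eq_mul.mp (hdf k k.2).1).symm
    set W := sSup (orbit a K) with hW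
    have hνW : ν.range ≤ W := by
      rintro _ ⟨k, rfl⟩
      exact (hdf k k.2).2.1
    haveI : Nontrivial ν.range := by
      rw [nontrivial_iff_ne_bot, Ne, MonoidHom.range_eq_bot_iff]
      intro h
      apply component_commutator_ne_bot hK
      rw [commutator_eq_bot_iff_le_centralizer]
      intro k hk
      have h1 := (hdf k hk).2.2
      rw [show (k * a) ^ p = 1 from DFunLike.congr_fun h ⟨k, hk⟩, mul_one] at h1
      exact inv_mem_iff.mp h1
    have hνq : Cfsg.IsQuasisimple ν.range :=
      isQuasisimple_of_surjective hK.2 ν.rangeRestrict ν.rangeRestrict_surjective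
    set C := centralizer ({a} : Set Y)
    have hνnorm : W ⊓ C ≤ normalizer (ν.range : Set Y) := by
      intro w hw
      have hwE : w ∈ Cfsg.layer Y := sSup_le (fun L hL => component_le_layer (isComponent_of_mem_orbit hK hL)) hw.1
      obtain ⟨k, hk, hkw⟩ := exists_inner_rep hK hwE
      have hν : ν ⟨k, hk⟩ ∈ ν.range := ⟨_, rfl⟩
      have hz : (ν ⟨k, hk⟩)⁻¹ * w ∈ centralizer (W : Set Y) := by
        refine mem_centralizer_sSup_orbit ?_ ?_
        · have h1 := mem_centralizer_singleton_iff.mp (mul_mem (inv_mem (hνC hν)) hw.2)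
          exact h1.symm
        · have h1 := mul_mem (inv_mem (hdf k hk).2.2) hkw
          rwa [show (k⁻¹ * (k * a) ^ p)⁻¹ * (k⁻¹ * w) = ((k * a) ^ p)⁻¹ * w by group] at h1
      have hz' : (ν ⟨k, hk⟩)⁻¹ * w ∈ normalizer (ν.range : Set Y) :=
        centralizer_le_normalizer _ (centralizer_le (SetLike.coe_subset_coe.mpr hνW) hz)
      have := mul_mem (le_normalizer hν) hz'
      rwa [mul_inv_cancel_left] at this
    have hWE : W ≤ Cfsg.layer Y := sSup_le fun L hL => component_le_layer (isComponent_of_mem_orbit hK hL)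
    have hEW : Cfsg.layer Y ≤ normalizer (W : Set Y) := by
      refine CfsgLib.Structure.le_normalizer_sSup fun g hg L hL => ?_
      rwa [mem_normalizer_iff_conj_eq.mp (layer_le_normalizer_component (isComponent_of_mem_orbit hK hL) hg)]
    have hνsub : (ν.range.subgroupOf C).IsSubnormal := by
      have h1 : (((W ⊓ C).subgroupOf C)).IsSubnormal := by
        rw [inf_subgroupOf_right]
        have h2 : W.IsSubnormal := IsSubnormal.step _ _ hWE (inferInstance : (Cfsg.layer Y).Normal).isSubnormal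
          ((normal_subgroupOf_iff_le_normalizer hWE).mpr hEW)
        exact h2.comap C.subtype
      have hle' : ν.range.subgroupOf C ≤ (W ⊓ C).subgroupOf C := comap_mono (le_inf hνW hνC)
      refine IsSubnormal.step _ _ hle' h1 ((normal_subgroupOf_iff_le_normalizer hle').mpr ?_)
      exact (comap_mono hνnorm).trans (le_normalizer_comap _)
    have hνc : Cfsg.IsComponent (ν.range.subgroupOf C) :=
      ⟨hνsub, isQuasisimple_of_mulEquiv hνq (subgroupOfEquivOfLe hνC).symm⟩
    obtain ⟨heq, hcH, hcK⟩ := hfinish ν.range hνC hνc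
      (hnot ν.range fun k hk => ⟨_, ⟨⟨k, hk⟩, rfl⟩, (hdf k hk).2.2⟩)
      (Nat.card_le_card_of_surjective _ ν.rangeRestrict_surjective) ((dvd_topCard hO hK).trans (by
        rw [← index_ker, topCard]
        refine index_dvd_of_le fun z hz => mem_center_iff.mpr fun l => Subtype.ext ?_
        have h1 := (hdf z z.2).2.2
        rw [show ((z : Y) * a) ^ p = 1 from MonoidHom.mem_ker.mp hz, mul_one] at h1
        exact mem_centralizer_iff.mp (inv_mem_iff.mp h1) l l.2))
    exact ⟨K, hK, hKm1, hcK, hcH, heq ▸ hνW, honto, fun h => absurd h ha⟩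

end CfsgLib.Tech46.Terminal
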