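import Cfsg.Agent.Lib.Tech46.Terminal.Transfer

/-!
A Sylow subgroup of `D(x,K)` without central moved links has a small centralizer at a moved link of
maximal centralizer.
-/

set_option autoImplicit false

namespace CfsgLib.Tech46.Terminal

open Subgroup CfsgLib.Components
open scoped commutatorElement

variable {G : Type*} [Group G] [Finite G] {p : ℕ} [hp : Fact p.Prime] {m1 m2 : ℕ}

theorem pow_p_eq_one {g : G} (h : orderOf g = p) : g ^ p = 1 := h ▸ pow_orderOf_eq_one g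

theorem orderOf_eq_of_pow {g : G} (h : g ^ p = 1) (h1 : g ≠ 1) : orderOf g = p := orderOf_eq_prime h h1

theorem eq_zpowers_of_mem {a b : G} (ha : orderOf a = p) (hb : orderOf b = p) (h : b ∈ zpowers a) :
    zpowers b = zpowers a :=
  eq_of_le_of_card_ge (zpowers_le.mpr h) (by rw [Nat.card_zpowers, Nat.card_zpowers, ha, hb])

theorem exists_pow_order (g : G) (hpd : p ∣ orderOf g) :
    orderOf (g ^ (orderOf g / p)) = p := by
  rw [orderOf_pow_of_dvd (Nat.div_pos (Nat.le_of_dvd (orderOf_pos g) hpd) hp.out.pos).ne'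
    (Nat.div_dvd_of_dvd hpd), Nat.div_div_self hpd (orderOf_pos g).ne']

namespace Setup

variable (hs : Setup G p m1 m2)
include hs

/-- Elements of `D(x,K) ∩ C(z)` lie in `⟨x⟩ D(z,J)`. -/
theorem exists_pow_rep {x z : G} {K : Subgroup (Bar p (Cn x))} (hx : orderOf x = p) (hK : Good m1 m2 K)
    (hz : z ∈ Dg p x K) (hzo : orderOf z = p) {J : Subgroup (Bar p (Cn z))} (h : Link p m1 m2 x K z J)
    {d : G} (hd : d ∈ Dg p x K) (hdz : d ∈ Cn z) : ∃ i : ℕ, (x ^ i)⁻¹ * d ∈ Dg p z J := by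
  obtain ⟨i, hi⟩ := hs.conj_mem_orbit hx hK hz hzo h hd hdz
  have h1 : (x ^ i)⁻¹ * d ∈ Cn z := mul_mem (inv_mem (pow_mem h.mem i)) hdz
  refine ⟨i, hs.mem_Dg_of_normalizes hx hK hz hzo h (mul_mem (inv_mem (pow_mem (self_mem_Dg x K) i)) hd) h1 ?_⟩
  rw [← bmk_mul (inv_mem (pow_mem h.mem i)) hdz, ← bmk_inv (pow_mem h.mem i), ← bmk_pow h.mem,
    mem_normalizer_iff_conj_eq, ← map_conj_map_conj, hi, map_conj_map_conj, inv_mul_cancel, map_conj_one]

omit hs in
theorem pow_not_mem_Dg {x z : G} {K : Subgroup (Bar p (Cn x))} (hx : orderOf x = p)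
    {J : Subgroup (Bar p (Cn z))} (h : Link p m1 m2 x K z J)
    (hm : bmk p h.mem ∉ normalizer (J : Set (Bar p (Cn z)))) {i : ℕ} (hi : x ^ i ∈ Dg p z J) : x ^ i = 1 := by
  by_contra h1
  have hip : ¬ p ∣ i := by
    rintro ⟨j, rfl⟩
    exact h1 (by rw [pow_mul, pow_p_eq_one hx, one_pow])
  obtain ⟨n, -, hn⟩ := Nat.exists_mul_mod_eq_one_of_coprime
    (hp.out.coprime_iff_not_dvd.mpr hip).symm hp.out.one_lt
  have h2 : x ∈ Dg p z J := by
    have := pow_mem hi n
    rwa [← pow_mul, ← Nat.mod_add_div (i * n) p, hn, pow_add, pow_one, pow_mul, pow_p_eq_one hx, one_pow,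
      mul_one] at this
  obtain ⟨_, hc⟩ := mem_Dg_iff.mp h2
  exact hm (centralizer_le_normalizer _ hc)

/-- A moved link at a central element of a Sylow subgroup increases the Sylow exponent. -/
theorem sig_lt_of_central {x z : G} {K : Subgroup (Bar p (Cn x))} (hx : orderOf x = p) (hK : Good m1 m2 K)
    {P : Subgroup G} (hP : IsSylIn p P (Dg p x K)) (hzP : z ∈ P) (hzo : orderOf z = p)
    (hzc : ∀ w ∈ P, z * w = w * z) {J : Subgroup (Bar p (Cn z))} (h : Link p m1 m2 x K z J)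
    (hm : bmk p h.mem ∉ normalizer (J : Set (Bar p (Cn z)))) : sig p x K < sig p z J := by
  have hzD := hP.le hzP
  have hPz : P ≤ Cn z := fun w hw => mem_centralizer_singleton_iff.mpr (hzc w hw).symm
  have hxP : x ∈ P := hP.mem_of_commute (self_mem_Dg x K) (n := 1) (by rw [pow_one, pow_p_eq_one hx])
    fun w hw => (mem_centralizer_singleton_iff.mp (Dg_le x K (hP.le hw))).symm
  set P0 := P ⊓ Dg p z J
  have hsurj : Function.Surjective (fun u : ↥(zpowers x) × ↥P0 =>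
      (⟨u.1 * u.2, mul_mem (zpowers_le.mpr hxP u.1.2) u.2.2.1⟩ : P)) := by
    rintro ⟨d, hd⟩
    obtain ⟨i, hi⟩ := hs.exists_pow_rep hx hK hzD hzo h (hP.le hd) (hPz hd)
    exact ⟨(⟨x ^ i, pow_mem (mem_zpowers x) i⟩, ⟨(x ^ i)⁻¹ * d, mem_inf.mpr ⟨mul_mem (inv_mem (pow_mem hxP i)) hd, hi⟩⟩),
      Subtype.ext (mul_inv_cancel_left _ _)⟩
  have hle := Nat.card_le_card_of_surjective _ hsurj
  rw [Nat.card_prod, Nat.card_zpowers, hx, hP.card] at hle
  obtain ⟨k, hk⟩ := IsPGroup.iff_card.mp (hP.isPGroup.to_le (inf_le_left : P0 ≤ P))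
  rw [hk, ← pow_succ', Nat.pow_le_pow_iff_right hp.out.one_lt] at hle
  set a := bmk p h.mem
  obtain ⟨e, hei, he⟩ := exists_others (bmk_pow_order h.mem hx) hm
  classical
  have hb := sig_bound (m := m1) (J := J) (hP.isPGroup.to_le (inf_le_left : P0 ≤ P)) (inf_le_right : P0 ≤ _)
    (Finset.univ.image e) ?_ ?_ ?_
  · rw [hk, hp.out.factorization_pow, Finsupp.single_eq_same, Finset.card_image_of_injective _ hei,
      Finset.card_univ, Fintype.card_fin] at hb
    obtain ⟨h1, h2⟩ := two_le_factorization_topCard h.spec.comp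
      (CfsgLib.PCore.pPrimeCore_quotient_pPrimeCore (G := ↥(Cn z)) (p := p))
    rw [h.spec.top_eq] at h1 h2
    have h3 : 2 ≤ (p - 1) * m1.factorization p := by
      by_cases hp2 : p = 2
      · have := h2 hp2
        calc 2 ≤ m1.factorization p := this
          _ = 1 * m1.factorization p := (one_mul _).symm
          _ ≤ (p - 1) * m1.factorization p := Nat.mul_le_mul_right _ (by omega)
      · have := hp.out.two_le
        calc 2 = 2 * 1 := rfl
          _ ≤ (p - 1) * m1.factorization p := Nat.mul_le_mul (by omega) h1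
    rw [sig]
    omega
  all_goals
    intro L hL
    obtain ⟨j, -, rfl⟩ := Finset.mem_image.mp hL
  · obtain ⟨i, hi⟩ := (he j).1
    rw [hi]
    exact ⟨isComponent_conj _ h.spec.comp, (topCard_map _ J).trans h.spec.top_eq⟩
  · exact le_centralizer_of_commutator_eq_bot (commutator_components_eq_bot
      (isComponent_of_mem_orbit h.spec.comp (he j).1) h.spec.comp (he j).2)
  · intro w hw
    obtain ⟨g, hg, hgP, rfl⟩ := mem_img.mp hw
    obtain ⟨_, hgJ⟩ := mem_Dg_iff.mp hgP.2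
    exact centralizer_le (SetLike.coe_subset_coe.mpr (le_sSup (he j).1))
      (mem_centralizer_sSup_orbit (bmk_commute h.mem hg
        (mem_centralizer_singleton_iff.mp (Dg_le x K (hP.le hgP.1))).symm) hgJ)

end Setup

/-- If no central element of order `p` of `P` gives a moved link and `y` is a moved link in `P` with largest
centralizer, then that centralizer has order `p ^ 2` (centreless components). -/
theorem Setup.card_centralizer_eq {m : ℕ} (hs : Setup G p m m) {x : G} {K : Subgroup (Bar p (Cn x))}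
    (hx : orderOf x = p) (hK : Good m m K) {P : Subgroup G} (hP : IsSylIn p P (Dg p x K))
    (hcen : ∀ z ∈ P, orderOf z = p → (∀ w ∈ P, z * w = w * z) → Cfsg.IsComponent (Himg p x K z))
    {y : G} (hyP : y ∈ P) (hyo : orderOf y = p) (hy : ¬ Cfsg.IsComponent (Himg p x K y))
    (hmax : ∀ z ∈ P, orderOf z = p → ¬ Cfsg.IsComponent (Himg p x K z) →
      Nat.card (P ⊓ Cn z : Subgroup G) ≤ Nat.card (P ⊓ Cn y : Subgroup G)) :
    Nat.card (P ⊓ Cn y : Subgroup G) = p ^ 2 := by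
  have hxP : x ∈ P := hP.mem_of_commute (self_mem_Dg x K) (n := 1) (by rw [pow_one, pow_p_eq_one hx])
    fun w hw => (mem_centralizer_singleton_iff.mp (Dg_le x K (hP.le hw))).symm
  have hxcom : ∀ w ∈ P, x * w = w * x := fun w hw =>
    (mem_centralizer_singleton_iff.mp (Dg_le x K (hP.le hw))).symm
  set C := P ⊓ Cn y with hC
  obtain ⟨J, hJ, -⟩ := hs.exists_link hx hK (hP.le hyP) hyo
  have hm : bmk p hJ.mem ∉ normalizer (J : Set (Bar p (Cn y))) := fun h => hy ((hs.single_iff hx hJ).mpr h)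
  let A : Subgroup G :=
    { carrier := {u | u ∈ C ∧ u ^ p = 1 ∧ ∀ d ∈ C, u * d = d * u}
      one_mem' := ⟨one_mem _, one_pow p, fun d _ => by rw [one_mul, mul_one]⟩
      mul_mem' := fun {a b} ha hb => ⟨mul_mem ha.1 hb.1, by
          rw [(show Commute a b from ha.2.2 b hb.1).mul_pow, ha.2.1, hb.2.1, one_mul],
        fun d hd => ((show Commute a d from ha.2.2 d hd).mul_left (show Commute b d from hb.2.2 d hd)).eq⟩
      inv_mem' := fun {a} ha => ⟨inv_mem ha.1, by rw [inv_pow, ha.2.1, inv_one],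
        fun d hd => (show Commute a d from ha.2.2 d hd).inv_left.eq⟩ }
  have hyy : y ∈ Cn y := mem_centralizer_singleton_iff.mpr rfl
  have hyA : y ∈ A := ⟨⟨hyP, hyy⟩, pow_p_eq_one hyo,
    fun d hd => (mem_centralizer_singleton_iff.mp hd.2).symm⟩
  have hxC : x ∈ C := ⟨hxP, mem_centralizer_singleton_iff.mpr (hxcom y hyP)⟩
  have hxA : x ∈ A := ⟨hxC, pow_p_eq_one hx, fun d hd => hxcom d hd.1⟩
  set H := A ⊓ Dg p y J with hH
  have hyH : y ∈ H := mem_inf.mpr ⟨hyA, self_mem_Dg y J⟩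
  have hAord : ∀ u ∈ A, u ≠ 1 → orderOf u = p := fun u hu h1 => orderOf_eq_of_pow hu.2.1 h1
  have hAP : ∀ u ∈ A, u ∈ P := fun u hu => hu.1.1
  -- all nontrivial elements of `H` are moved links
  have hdiag : ∀ h ∈ H, h ≠ 1 → ¬ Cfsg.IsComponent (Himg p x K h) := by
    intro h hh h1 hc
    obtain ⟨Jh, hJh, -⟩ := hs.exists_link hx hK (hP.le (hAP h hh.1)) (hAord h hh.1 h1)
    obtain ⟨hhy, hhc⟩ := mem_Dg_iff.mp hh.2
    exact hs.plane hx hK (hP.le hyP) hyo (hP.le (hAP h hh.1)) (hAord h hh.1 h1) hhy hJ hm hJh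
      ((hs.single_iff hx hJh).mp hc) (centralizer_le_normalizer _ hhc)
  -- and their centralizers in `P` equal `C`
  have hcent : ∀ h ∈ H, h ≠ 1 → P ⊓ Cn h = C := by
    intro h hh h1
    have hle : C ≤ P ⊓ Cn h := le_inf inf_le_left fun d hd =>
      mem_centralizer_singleton_iff.mpr (hh.1.2.2 d hd).symm
    exact (eq_of_le_of_card_ge hle (hmax h (hAP h hh.1) (hAord h hh.1 h1) (hdiag h hh h1))).symm
  -- an element normalizing `C` outside it
  haveI : Group.IsNilpotent P := hP.isPGroup.isNilpotent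
  have hCne : C ≠ P := fun h => hy (hcen y hyP hyo fun w hw =>
    (mem_centralizer_singleton_iff.mp (show w ∈ Cn y from (h.ge hw).2)).symm)
  have hlt : C.subgroupOf P < ⊤ := lt_top_iff_ne_top.mpr fun h =>
    hCne (le_antisymm inf_le_left (subgroupOf_eq_top.mp h))
  obtain ⟨⟨g, hgP⟩, hgN, hgC⟩ := SetLike.exists_of_lt
    (Group.normalizerCondition_of_isNilpotent (G := P) (C.subgroupOf P) hlt)
  rw [mem_subgroupOf] at hgC
  change g ∉ C at hgC
  have hgnorm : ∀ d : G, d ∈ C ↔ g * d * g⁻¹ ∈ C := by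
    intro d
    constructor
    · intro hd
      exact (mem_normalizer_iff.mp hgN ⟨d, hd.1⟩).mp hd
    · intro hd
      have hdP : d ∈ P := by simpa [mul_assoc] using mul_mem (mul_mem (inv_mem hgP) hd.1) hgP
      exact (mem_normalizer_iff.mp hgN ⟨d, hdP⟩).mpr hd
  have hgA : ∀ u ∈ A, g * u * g⁻¹ ∈ A := by
    intro u hu
    refine ⟨(hgnorm u).mp hu.1, by rw [conj_pow, hu.2.1]; group, fun d hd => ?_⟩
    have h1 : g⁻¹ * d * g ∈ C := (hgnorm _).mpr (by simpa [mul_assoc] using hd)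
    have h2 := hu.2.2 _ h1
    calc g * u * g⁻¹ * d = g * (u * (g⁻¹ * d * g)) * g⁻¹ := by group
      _ = g * ((g⁻¹ * d * g) * u) * g⁻¹ := by rw [h2]
      _ = d * (g * u * g⁻¹) := by group
  -- `g` does not normalize `H`
  have hfix : ¬ ∀ h ∈ H, g * h * g⁻¹ ∈ H := by
    intro hg
    set R := P ⊓ normalizer (H : Set G)
    have hgR : g ∈ R := by
      refine ⟨hgP, ?_⟩
      refine mem_normalizer_iff_conj_eq.mpr
        (eq_of_le_of_card_ge ?_ (card_map_of_injective (MulAut.conj g).injective).ge)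
      rintro _ ⟨h, hh, rfl⟩
      exact hg h hh
    haveI : (H.subgroupOf R).Normal := normal_subgroupOf_of_le_normalizer inf_le_right
    have hyR : y ∈ R := ⟨hyP, le_normalizer hyH⟩
    have hne : H.subgroupOf R ≠ ⊥ := fun h => by
      have h1 : (⟨y, hyR⟩ : R) ∈ H.subgroupOf R := hyH
      rw [h, mem_bot] at h1
      exact hp.out.ne_one (by rw [← hyo, show y = 1 from congrArg Subtype.val h1, orderOf_one])
    obtain ⟨w, hwH, hwc, hw1⟩ := CfsgLib.Techniques.KInf.exists_mem_center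
      (hP.isPGroup.to_le (inf_le_left : R ≤ P)) (H.subgroupOf R) hne
    have h1 : g ∈ P ⊓ Cn (w : G) := mem_inf.mpr ⟨hgP, mem_centralizer_singleton_iff.mpr
      (congrArg Subtype.val (mem_center_iff.mp hwc ⟨g, hgR⟩))⟩
    rw [hcent w hwH (fun h => hw1 (Subtype.ext h))] at h1
    exact hgC h1
  -- `H` has order `p`
  have hHy : H = zpowers y := by
    by_contra hne
    obtain ⟨h1, hh1, hh1y⟩ := SetLike.exists_of_lt (lt_of_le_of_ne (zpowers_le.mpr hyH) (Ne.symm hne))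
    apply hfix
    intro h hh
    by_cases h0 : h = 1
    · rw [h0, mul_one, mul_inv_cancel]; exact one_mem _
    set u := g * h * g⁻¹ with hu
    have huA : u ∈ A := hgA h hh.1
    have huo : orderOf u = p := hAord u huA (by simpa [hu] using h0)
    have hud : ¬ Cfsg.IsComponent (Himg p x K u) := fun hc => hdiag h hh h0 (by
      have := isComponent_himg_conj (inv_mem (hP.le hgP)) hc
      rwa [show g⁻¹ * u * g⁻¹⁻¹ = h by rw [hu]; group] at this)
    obtain ⟨Ju, hJu, -⟩ := hs.exists_link hx hK (hP.le (hAP u huA)) huo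
    have hmu : bmk p hJu.mem ∉ normalizer (Ju : Set (Bar p (Cn u))) := fun hn =>
      hud ((hs.single_iff hx hJu).mpr hn)
    have hCu : ∀ d ∈ C, d ∈ Cn u := fun d hd => mem_centralizer_singleton_iff.mpr (huA.2.2 d hd).symm
    -- a common element of `H` and the stabilizer at `u`
    obtain ⟨w, hwH, hw1, hwu⟩ : ∃ w ∈ H, w ≠ 1 ∧ w ∈ Dg p u Ju := by
      obtain ⟨i, hi⟩ := hs.exists_pow_rep hx hK (hP.le (hAP u huA)) huo hJu (hP.le hyP) (hCu y hyA.1)
      obtain ⟨j, hj⟩ := hs.exists_pow_rep hx hK (hP.le (hAP u huA)) huo hJu (hP.le (hAP h1 hh1.1))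
        (hCu h1 hh1.1.1)
      by_cases hpi : p ∣ i
      · obtain ⟨c, rfl⟩ := hpi
        rw [pow_mul, pow_p_eq_one hx, one_pow, inv_one, one_mul] at hi
        exact ⟨y, hyH, fun h => hp.out.ne_one (by rw [← hyo, h, orderOf_one]), hi⟩
      obtain ⟨n, -, hn⟩ := Nat.exists_mul_mod_eq_one_of_coprime
        (hp.out.coprime_iff_not_dvd.mpr hpi).symm hp.out.one_lt
      refine ⟨(y ^ (n * j))⁻¹ * h1, mul_mem (inv_mem (pow_mem hyH _)) hh1,
        fun h => hh1y ((inv_mul_eq_one.mp h) ▸ pow_mem (mem_zpowers y) _), ?_⟩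
      have hcx : Commute x y := hxcom y hyP
      have e1 : ((x ^ i)⁻¹ * y) ^ (n * j) = (x ^ j)⁻¹ * y ^ (n * j) := by
        rw [((hcx.pow_left i).inv_left).mul_pow, inv_pow, ← pow_mul]
        congr 2
        rw [← mul_assoc, pow_mul, ← Nat.mod_add_div (i * n) p, hn, pow_add, pow_one, pow_mul, pow_p_eq_one hx,
          one_pow, mul_one]
      have := mul_mem (inv_mem (pow_mem hi (n * j))) hj
      rw [e1, mul_inv_rev, inv_inv, mul_assoc, mul_inv_cancel_left] at this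
      exact this
    obtain ⟨Jw, hJw, -⟩ := hs.exists_link hx hK (hP.le (hAP w hwH.1)) (hAord w hwH.1 hw1)
    have hmw : bmk p hJw.mem ∉ normalizer (Jw : Set (Bar p (Cn w))) := fun hn =>
      hdiag w hwH hw1 ((hs.single_iff hx hJw).mpr hn)
    have hwy : y ∈ Cn w := mem_centralizer_singleton_iff.mpr (hwH.1.2.2 y hyA.1).symm
    have hCw : ∀ d ∈ C, d ∈ Cn w := fun d hd => mem_centralizer_singleton_iff.mpr (hwH.1.2.2 d hd).symm
    obtain ⟨hwCy, hwc⟩ := mem_Dg_iff.mp hwH.2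
    obtain ⟨hwCu, hwcu⟩ := mem_Dg_iff.mp hwu
    obtain ⟨_, huc⟩ := mem_Dg_iff.mp (self_mem_Dg u Ju)
    have huw : u ∈ Dg p w Jw := hs.mem_Dg_of_normalizes hx hK (hP.le (hAP w hwH.1)) (hAord w hwH.1 hw1) hJw
      (hP.le (hAP u huA)) (hCw u huA.1) (hs.stab_eq hx hK (hP.le (hAP u huA)) huo (hP.le (hAP w hwH.1))
        (hAord w hwH.1 hw1) hwCu (hCw u huA.1) hJu hmu hJw hmw (centralizer_le_normalizer _ hwcu)
        (hP.le (hAP u huA)) (mem_centralizer_singleton_iff.mpr rfl) (hCw u huA.1)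
        (centralizer_le_normalizer _ huc))
    -- decompose `u`
    obtain ⟨i, hi⟩ := hs.exists_pow_rep hx hK (hP.le hyP) hyo hJ (hP.le (hAP u huA)) huA.1.2
    have hi' : (x ^ i)⁻¹ * u ∈ H := mem_inf.mpr ⟨mul_mem (inv_mem (pow_mem hxA i)) huA, hi⟩
    obtain ⟨hvy, hvc⟩ := mem_Dg_iff.mp hi
    have hvw : (x ^ i)⁻¹ * u ∈ Dg p w Jw := hs.mem_Dg_of_normalizes hx hK (hP.le (hAP w hwH.1))
      (hAord w hwH.1 hw1) hJw (hP.le (hAP _ hi'.1)) (hCw _ hi'.1.1)
      (hs.stab_eq hx hK (hP.le hyP) hyo (hP.le (hAP w hwH.1)) (hAord w hwH.1 hw1) hwCy hwy hJ hm hJw hmw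
        (centralizer_le_normalizer _ hwc) (hP.le (hAP _ hi'.1)) hvy (hCw _ hi'.1.1)
        (centralizer_le_normalizer _ hvc))
    have hxi : x ^ i ∈ Dg p w Jw := by simpa using mul_mem huw (inv_mem hvw)
    rwa [Setup.pow_not_mem_Dg hx hJw hmw hxi, inv_one, one_mul] at hi'
  -- the stabilizer has order `p`
  set S := C ⊓ Dg p y J with hS
  set S' := S.map (MulAut.conj g).toMonoidHom with hS'
  have hCS : ∀ d ∈ C, ∀ s ∈ S, d * s * d⁻¹ ∈ S := by
    intro d hd s hs'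
    obtain ⟨i, hi⟩ := hs.exists_pow_rep hx hK (hP.le hyP) hyo hJ (hP.le hd.1) hd.2
    have h2 : (x ^ i)⁻¹ * d ∈ S := mem_inf.mpr ⟨mul_mem (inv_mem (pow_mem hxC i)) hd, hi⟩
    have h3 : Commute (x ^ i) ((x ^ i)⁻¹ * d * s * ((x ^ i)⁻¹ * d)⁻¹) :=
      (show Commute x _ from hxcom _ (mul_mem (mul_mem h2.1.1 hs'.1.1) (inv_mem h2.1.1))).pow_left i
    have h4 : d * s * d⁻¹ = x ^ i * ((x ^ i)⁻¹ * d * s * ((x ^ i)⁻¹ * d)⁻¹) * (x ^ i)⁻¹ := by group
    rw [h4, h3.eq, mul_inv_cancel_right]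
    exact mul_mem (mul_mem h2 hs') (inv_mem h2)
  have hS'C : S' ≤ C := by
    rintro _ ⟨s, hs', rfl⟩
    exact (hgnorm s).mp hs'.1
  have hCS' : ∀ d ∈ C, ∀ s ∈ S', d * s * d⁻¹ ∈ S' := by
    rintro d hd _ ⟨s, hs', rfl⟩
    refine ⟨(g⁻¹ * d * g) * s * (g⁻¹ * d * g)⁻¹, hCS _ ((hgnorm _).mpr (by simpa [mul_assoc] using hd)) s hs', ?_⟩
    simp [MulAut.conj_apply, mul_assoc]
  have hbot : S ⊓ S' = ⊥ := by
    by_contra hne
    haveI : ((S ⊓ S').subgroupOf C).Normal := ⟨fun a ha d =>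
      ⟨hCS d d.2 a ha.1, hCS' d d.2 a ha.2⟩⟩
    have hne' : (S ⊓ S').subgroupOf C ≠ ⊥ := fun h => hne (by
      rw [← inf_eq_left.mpr ((inf_le_left : S ⊓ S' ≤ S).trans inf_le_left : S ⊓ S' ≤ C), ← subgroupOf_map_subtype,
        h, Subgroup.map_bot])
    obtain ⟨w, hwS, hwc, hw1⟩ := CfsgLib.Techniques.KInf.exists_mem_center
      (hP.isPGroup.to_le (inf_le_left : C ≤ P)) ((S ⊓ S').subgroupOf C) hne'
    obtain ⟨k, hk⟩ := hP.isPGroup.to_le (inf_le_left : C ≤ P) w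
    obtain ⟨i, -, hi⟩ := (Nat.dvd_prime_pow hp.out).mp (orderOf_dvd_of_pow_eq_one hk)
    have hpd : p ∣ orderOf w := by
      rcases i with _ | i
      · exact absurd (orderOf_eq_one_iff.mp hi) hw1
      · exact hi ▸ dvd_pow_self p (Nat.succ_ne_zero i)
    have hvo := exists_pow_order w hpd
    have hvS : w ^ (orderOf w / p) ∈ (S ⊓ S').subgroupOf C := pow_mem hwS _
    have hvc : w ^ (orderOf w / p) ∈ center C := pow_mem hwc _
    generalize w ^ (orderOf w / p) = v at hvo hvS hvc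
    obtain ⟨hv1, s, hs', hse'⟩ := hvS
    have hse : g * s * g⁻¹ = (v : G) := hse'
    have hvo' : orderOf (v : G) = p := by rw [Subgroup.orderOf_coe, hvo]
    have hvA : (v : G) ∈ A := ⟨v.2, pow_p_eq_one hvo',
      fun d hd => congrArg Subtype.val (mem_center_iff.mp hvc ⟨d, hd⟩).symm⟩
    have hvH : (v : G) ∈ H := mem_inf.mpr ⟨hvA, hv1.2⟩
    have hso : orderOf s = p := by
      rw [← hvo', ← hse]
      exact (orderOf_injective (MulAut.conj g).toMonoidHom (MulAut.conj g).injective s).symm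
    have hsA : s ∈ A := ⟨hs'.1, pow_p_eq_one hso, fun d hd => by
      have h1 := congrArg Subtype.val (mem_center_iff.mp hvc ⟨g * d * g⁻¹, (hgnorm d).mp hd⟩)
      change g * d * g⁻¹ * (v : G) = (v : G) * (g * d * g⁻¹) at h1
      rw [← hse] at h1
      calc s * d = g⁻¹ * ((g * s * g⁻¹) * (g * d * g⁻¹)) * g := by group
        _ = g⁻¹ * ((g * d * g⁻¹) * (g * s * g⁻¹)) * g := by rw [h1]
        _ = d * s := by group⟩
    have hsH : s ∈ H := mem_inf.mpr ⟨hsA, hs'.2⟩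
    rw [hHy] at hvH hsH
    apply hfix
    intro h hh
    rw [hHy] at hh ⊢
    rw [← eq_zpowers_of_mem hyo hso hsH] at hh
    obtain ⟨n, rfl⟩ := hh
    show g * s ^ n * g⁻¹ ∈ zpowers y
    rw [← conj_zpow, show g * s * g⁻¹ = (v : G) from hse]
    exact zpow_mem hvH n
  have hinj : Function.Injective (fun u : S × S' => (⟨u.1 * u.2, mul_mem u.1.2.1 (hS'C u.2.2)⟩ : C)) := by
    intro u w he
    have he' : (u.1 : G) * u.2 = w.1 * w.2 := congrArg Subtype.val he
    have h1 : (w.1 : G)⁻¹ * u.1 ∈ S ⊓ S' := by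
      refine mem_inf.mpr ⟨mul_mem (inv_mem w.1.2) u.1.2, ?_⟩
      rw [show (w.1 : G)⁻¹ * u.1 = w.2 * (u.2 : G)⁻¹ by
        rw [inv_mul_eq_iff_eq_mul, ← mul_assoc, eq_mul_inv_iff_mul_eq]; exact he']
      exact mul_mem w.2.2 (inv_mem u.2.2)
    rw [hbot, mem_bot, inv_mul_eq_one] at h1
    rw [h1] at he'
    exact Prod.ext (Subtype.ext h1.symm) (Subtype.ext (mul_left_cancel he'))
  have hsurj : Function.Surjective (fun u : ↥(zpowers x) × ↥S =>
      (⟨u.1 * u.2, mul_mem (zpowers_le.mpr hxC u.1.2) u.2.2.1⟩ : C)) := by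
    rintro ⟨d, hd⟩
    obtain ⟨i, hi⟩ := hs.exists_pow_rep hx hK (hP.le hyP) hyo hJ (hP.le hd.1) hd.2
    exact ⟨(⟨x ^ i, pow_mem (mem_zpowers x) i⟩, ⟨(x ^ i)⁻¹ * d, mem_inf.mpr ⟨mul_mem (inv_mem (pow_mem hxC i)) hd, hi⟩⟩),
      Subtype.ext (mul_inv_cancel_left _ _)⟩
  have h1 := Nat.card_le_card_of_injective _ hinj
  have h2 := Nat.card_le_card_of_surjective _ hsurj
  rw [Nat.card_prod, card_map_of_injective (MulAut.conj g).injective] at h1
  rw [Nat.card_prod, Nat.card_zpowers, hx] at h2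
  have hSp : Nat.card S ≤ p := Nat.le_of_mul_le_mul_left (h1.trans (h2.trans_eq (mul_comm _ _))) Nat.card_pos
  have hCle : Nat.card C ≤ p * p := h2.trans (Nat.mul_le_mul_left _ hSp)
  have hlt : zpowers y < C := by
    refine lt_of_le_of_ne (zpowers_le.mpr ⟨hyP, hyy⟩) fun h => hm ?_
    have h3 : x ∈ zpowers y := h ▸ hxC
    obtain ⟨_, hc⟩ := mem_Dg_iff.mp (zpowers_le.mpr (self_mem_Dg y J) h3)
    exact centralizer_le_normalizer _ hc
  obtain ⟨k, hk⟩ := IsPGroup.iff_card.mp (hP.isPGroup.to_le (inf_le_left : C ≤ P))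
  have hk1 : p < p ^ k := by
    rw [← hk]
    refine lt_of_not_ge fun h => hlt.ne (eq_of_le_of_card_ge hlt.le ?_)
    rwa [Nat.card_zpowers, hyo]
  rw [hk] at hCle ⊢
  congr 1
  have h4 : 1 < k := (Nat.pow_lt_pow_iff_right hp.out.one_lt).mp (by rwa [pow_one])
  have h5 : k ≤ 2 := (Nat.pow_le_pow_iff_right hp.out.one_lt).mp (by rwa [pow_two])
  omega

end CfsgLib.Tech46.Terminal
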