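import Cfsg.Agent.Lib.Tech46.Schreier
import Cfsg.Agent.Lib.Tech46.Terminal.Orbit
import Cfsg.Prelude.Def_ClassificationStages

/-!
The step from the centralizer of one element of order `p` to that of a commuting one.
-/

set_option autoImplicit false

namespace CfsgLib.Tech46.Terminal

open Subgroup CfsgLib.Components
open scoped commutatorElement

/-- `C_G(a)`. -/
abbrev Cn {G : Type*} [Group G] (a : G) : Subgroup G := centralizer ({a} : Set G)

variable {G : Type*} [Group G] [Finite G] {p : ℕ} [hp : Fact p.Prime] {m1 m2 : ℕ}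

/-- The Schreier hypothesis and the maximality of `(m1, m2)`. -/
structure Setup (G : Type*) [Group G] (p m1 m2 : ℕ) : Prop where
  schreier : ∀ a : G, orderOf a = p → ∀ K : Subgroup (Bar p (Cn a)), Cfsg.IsComponent K →
    Group.IsSolvable (Cfsg.Out (↥K ⧸ center ↥K))
  max : ∀ a : G, orderOf a = p → ∀ K : Subgroup (Bar p (Cn a)), Cfsg.IsComponent K →
    topCard K ≤ m1 ∧ (topCard K = m1 → Nat.card K ≤ m2)

/-- A component with the maximal invariants. -/
structure Good {H : Subgroup G} (m1 m2 : ℕ) (K : Subgroup (Bar p H)) : Prop where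
  comp : Cfsg.IsComponent K
  top_eq : topCard K = m1
  card_eq : Nat.card K = m2

omit [Finite G] hp in
theorem centralizer_zpowers_eq (a : G) : centralizer ((zpowers a : Subgroup G) : Set G) = Cn a := by
  rw [Cn, zpowers_eq_closure, centralizer_closure]

omit [Finite G] in
theorem isPGroup_zpowers_of_order {a : G} (ha : orderOf a = p) : IsPGroup p (zpowers a) :=
  IsPGroup.of_card (n := 1) (by rw [Nat.card_zpowers, ha, pow_one])

omit [Finite G] hp in
theorem mem_Cn_comm {a b : G} : a ∈ Cn b ↔ b ∈ Cn a := by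
  rw [mem_centralizer_singleton_iff, mem_centralizer_singleton_iff]
  exact eq_comm

theorem img_zpowers {H : Subgroup G} {a : G} (ha : a ∈ H) :
    img p H (zpowers a) = zpowers (bmk p ha) := by
  rw [img, bmk, ← MonoidHom.map_zpowers]
  congr 1
  ext z
  simp only [mem_subgroupOf, mem_zpowers_iff]
  exact exists_congr fun k => ⟨fun h => Subtype.ext (by simpa using h), fun h => by rw [← h]; simp⟩

theorem fixes_of_element {H : Subgroup G} {B : Subgroup (Bar p H)} {r : G} (hr : r ∈ H)
    (hord : orderOf r = p) (hc : bmk p hr ∈ centralizer (B : Set (Bar p H))) :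
    Fixes p H (H ⊓ Cn r) B := by
  refine ⟨⟨zpowers r, isPGroup_zpowers_of_order hord, zpowers_le.mpr hr, ?_, ?_⟩⟩
  · rw [centralizer_zpowers_eq]
  · rw [img_zpowers hr, le_centralizer_iff, zpowers_le]
    exact hc

omit [Finite G] hp in
theorem pElemClosure_eq_of_le {Z : Type*} [Group Z] {A B : Subgroup Z} (h : pElemClosure p A ≤ B) :
    pElemClosure p A ≤ pElemClosure p B :=
  (closure_le _).mpr fun _ ⟨hz, _, hn⟩ => mem_pElemClosure (h (mem_pElemClosure hz hn)) hn

/-- The `p`-elements of a subnormal subgroup with component image generate a `p`-component. -/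
theorem pElem_spec {X S : Subgroup G} (hSX : S ≤ X) (hsub : (S.subgroupOf X).IsSubnormal)
    (hc : Cfsg.IsComponent (img p X S)) :
    Cfsg.IsPComponent p (pElemClosure p (S.subgroupOf X)) ∧
      (pElemClosure p (S.subgroupOf X)).map X.subtype = pElemClosure p S ∧
      (pElemClosure p (S.subgroupOf X)).map (QuotientGroup.mk' (Cfsg.pPrimeCore p ↥X)) = img p X S ∧
      ⁅pElemClosure p S, pElemClosure p S⁆ = pElemClosure p S ∧ pElemClosure p S ≠ ⊥ ∧
      img p X (pElemClosure p S) = img p X S := by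
  set Kb := img p X S
  have hKc : pElemClosure p (Kb.comap (QuotientGroup.mk' (Cfsg.pPrimeCore p ↥X))) =
      pElemClosure p (S.subgroupOf X) := by
    refine le_antisymm (pElemClosure_eq_of_le ?_) (pElemClosure_mono (le_comap_map _ _))
    exact pElemClosure_le_of_coprime hsub (relIndex_comap_coprime rfl)
  have hP : Cfsg.IsPComponent p (pElemClosure p (S.subgroupOf X)) :=
    hKc ▸ isPComponent_pElemClosure_comap hc
  have hmap : (pElemClosure p (S.subgroupOf X)).map X.subtype = pElemClosure p S := by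
    rw [map_pElemClosure, map_subgroupOf_eq_of_le hSX]
  have hmq : (pElemClosure p (S.subgroupOf X)).map (QuotientGroup.mk' (Cfsg.pPrimeCore p ↥X)) = Kb :=
    hKc ▸ map_pElemClosure_comap hc
  refine ⟨hP, hmap, hmq, ?_, ?_, ?_⟩
  · rw [← hmap, ← map_commutator, pComponent_commutator_self hP]
  · rw [← hmap, Ne, Subgroup.map_eq_bot_iff, ker_subtype, le_bot_iff]
    exact pComponent_ne_bot hP
  · conv_lhs => rw [img, ← hmap, subgroupOf, comap_map_eq_self_of_injective X.subtype_injective]
    exact hmq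

/-- **The step.** A good component of `C(a) ∩ C(b)` gives an orbit of good components of `C(b)`. -/
theorem Setup.step (hs : Setup G p m1 m2) {a b : G} (ha : orderOf a = p) (hb : orderOf b = p)
    (hab : a ∈ Cn b) {X : Subgroup G} (hX : X = Cn b ⊓ Cn a) {S : Subgroup G} (hSX : S ≤ X)
    (hsub : (S.subgroupOf X).IsSubnormal) (hgood : Good m1 m2 (img p X S)) :
    ∃ J : Subgroup (Bar p (Cn b)),
      OrbitSpec (bmk p hab) (img p (Cn b) (pElemClosure p S)) J m1 m2 ∧
        Nonempty (↥(img p (Cn b) (pElemClosure p S)) ≃* ↥(img p X S)) := by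
  subst hX
  set X := Cn b ⊓ Cn a with hXdef
  set Kb := img p X S with hKb
  set S' := S.subgroupOf X with hS'
  obtain ⟨hKcP, hS0, hKcmap, -, -, -⟩ := pElem_spec hSX hsub hgood.comp
  set Kc := pElemClosure p S' with hKc
  let φ : X →* Bar p (Cn b) :=
    (QuotientGroup.mk' (Cfsg.pPrimeCore p ↥(Cn b))).comp (inclusion (inf_le_left : X ≤ Cn b))
  set H := img p (Cn b) (pElemClosure p S) with hHdef
  have hH : H = Kc.map φ := by
    ext y
    constructor
    · intro hy
      obtain ⟨g, hg, hgS, rfl⟩ := mem_img.mp hy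
      rw [← hS0] at hgS
      obtain ⟨z, hz, rfl⟩ := hgS
      exact ⟨z, hz, rfl⟩
    · rintro ⟨z, hz, rfl⟩
      exact mem_img.mpr ⟨z, z.2.1, hS0 ▸ ⟨z, hz, rfl⟩, rfl⟩
  set abar := bmk p hab
  have hrange : φ.range = centralizer ({abar} : Set (Bar p (Cn b))) := by
    have h1 := img_centralizer (p := p) (H := Cn b) (isPGroup_zpowers_of_order ha) (zpowers_le.mpr hab)
    rw [centralizer_zpowers_eq, img_zpowers hab, zpowers_eq_closure, centralizer_closure] at h1
    rw [← h1]
    ext y
    constructor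
    · rintro ⟨z, rfl⟩
      exact mem_img.mpr ⟨z, z.2.1, z.2, rfl⟩
    · intro hy
      obtain ⟨g, hg, hgX, rfl⟩ := mem_img.mp hy
      exact ⟨⟨g, hgX⟩, rfl⟩
  have hHa : H ≤ centralizer ({abar} : Set (Bar p (Cn b))) := by
    rw [hH, ← hrange]
    exact map_le_range φ Kc
  have hperf : ⁅H, H⁆ = H := by rw [hH, ← map_commutator, pComponent_commutator_self hKcP]
  have hgen : pElemClosure p H = H := by
    rw [hH, ← map_pElemClosure, le_antisymm (pElemClosure_le Kc) (pComponent_le_pElemClosure hKcP)]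
  have hsubH : (H.subgroupOf (centralizer ({abar} : Set (Bar p (Cn b))))).IsSubnormal := by
    rw [← hrange]
    have h1 := hKcP.1.map (f := φ.rangeRestrict) φ.rangeRestrict_surjective
    convert h1 using 1
    ext ⟨y, hy⟩
    rw [mem_subgroupOf, hH]
    exact ⟨fun ⟨z, hz, he⟩ => ⟨z, hz, Subtype.ext he⟩, fun ⟨z, hz, he⟩ => ⟨z, hz, congrArg Subtype.val he⟩⟩
  let σ : Kc →* H := (φ.comp Kc.subtype).codRestrict H fun z => hH ▸ ⟨z, z.2, rfl⟩
  have hσ : Function.Surjective σ := by
    rintro ⟨y, hy⟩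
    obtain ⟨z, hz, rfl⟩ : y ∈ Kc.map φ := hH ▸ hy
    exact ⟨⟨z, hz⟩, rfl⟩
  let τ : Kc →* Kb := ((QuotientGroup.mk' (Cfsg.pPrimeCore p ↥X)).comp Kc.subtype).codRestrict Kb fun z => by
    rw [hKb, ← hKcmap]
    exact ⟨z, z.2, rfl⟩
  have hτ : Function.Surjective τ := by
    rintro ⟨y, hy⟩
    rw [hKb, ← hKcmap] at hy
    obtain ⟨z, hz, rfl⟩ := hy
    exact ⟨⟨z, hz⟩, rfl⟩
  have hker : σ.ker ≤ τ.ker := by
    intro z hz
    have h1 : ((z : X) : G) ∈ core p (Cn b) :=
      mem_core.mpr ⟨(z : X).2.1, congrArg Subtype.val (MonoidHom.mem_ker.mp hz)⟩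
    obtain ⟨_, h2⟩ := mem_core.mp (core_inf_le (inf_le_left : X ≤ Cn b) ⟨h1, (z : X).2⟩)
    exact Subtype.ext h2
  let f : H →* Kb := MonoidHom.liftOfSurjective σ hσ ⟨τ, hker⟩
  have hfσ : ∀ z, f (σ z) = τ z := fun z =>
    MonoidHom.liftOfRightInverse_comp_apply σ _ (Function.rightInverse_surjInv hσ) ⟨τ, hker⟩ z
  have hf : Function.Surjective f := fun y => by
    obtain ⟨z, rfl⟩ := hτ y
    exact ⟨σ z, hfσ z⟩
  have hfker : (Nat.card f.ker).Coprime p := by
    have h1 : f.ker ≤ τ.ker.map σ := by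
      intro w hw
      obtain ⟨z, rfl⟩ := hσ w
      exact ⟨z, by rwa [MonoidHom.mem_ker, hfσ] at hw, rfl⟩
    have h2 : (τ.ker.map Kc.subtype) ≤ Cfsg.pPrimeCore p ↥X := by
      rintro _ ⟨z, hz, rfl⟩
      exact (QuotientGroup.eq_one_iff _).mp (congrArg Subtype.val (MonoidHom.mem_ker.mp hz))
    refine (CfsgLib.PCore.pPrimeCore_coprime (G := X)).coprime_dvd_left ((card_dvd_of_le h1).trans
      ((card_map_dvd _ _).trans ?_))
    rw [← card_map_of_injective Kc.subtype_injective]
    exact card_dvd_of_le h2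
  have hqs : Cfsg.IsQuasisimple (↥H ⧸ Cfsg.pPrimeCore p ↥H) := by
    have hle : f.ker ≤ (QuotientGroup.mk' (Cfsg.pPrimeCore p ↥H)).ker := by
      rw [QuotientGroup.ker_mk']
      exact CfsgLib.PCore.le_pPrimeCore f.normal_ker hfker
    let g : Kb →* ↥H ⧸ Cfsg.pPrimeCore p ↥H := MonoidHom.liftOfSurjective f hf ⟨_, hle⟩
    haveI : Nontrivial (↥H ⧸ Cfsg.pPrimeCore p ↥H) := by
      rw [QuotientGroup.nontrivial_iff]
      intro htop
      have hcop : (Nat.card H).Coprime p := by
        have := CfsgLib.PCore.pPrimeCore_coprime (p := p) (G := H)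
        rwa [htop, card_top] at this
      have hdvd : p ∣ Nat.card H :=
        (dvd_card_component CfsgLib.PCore.pPrimeCore_quotient_pPrimeCore hgood.comp).trans
          (Subgroup.card_dvd_of_surjective f hf)
      exact hp.out.one_lt.ne' (Nat.dvd_one.mp (hcop ▸ Nat.dvd_gcd hdvd dvd_rfl))
    refine isQuasisimple_of_surjective hgood.comp.2 g fun y => ?_
    obtain ⟨w, rfl⟩ := QuotientGroup.mk'_surjective _ y
    exact ⟨f w, MonoidHom.liftOfRightInverse_comp_apply f _ (Function.rightInverse_surjInv hf) ⟨_, hle⟩ w⟩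
  have hHE : H ≤ Cfsg.layer (Bar p (Cn b)) := by
    have hRp : IsPGroup p (zpowers abar) := by
      rw [show zpowers abar = img p (Cn b) (zpowers a) from (img_zpowers hab).symm]
      exact ((isPGroup_zpowers_of_order ha).comap_of_injective _ (Cn b).subtype_injective).map _
    set C := centralizer ({abar} : Set (Bar p (Cn b)))
    have hCeq : centralizer ((zpowers abar : Subgroup _) : Set (Bar p (Cn b))) = C := by
      rw [zpowers_eq_closure, centralizer_closure]
    set N := normalizer ((zpowers abar : Subgroup _) : Set (Bar p (Cn b))) with hN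
    have hCN : C ≤ N := hCeq ▸ centralizer_le_normalizer _
    have hsubN : (H.subgroupOf N).IsSubnormal := by
      haveI hCn : (C.subgroupOf N).Normal := (normal_subgroupOf_iff_le_normalizer hCN).mpr (by
        intro n hn
        rw [mem_normalizer_iff]
        intro c
        rw [← hCeq]
        constructor
        · intro hc
          rw [mem_centralizer_iff] at hc ⊢
          intro r hr
          have h := hc _ ((mem_normalizer_iff.mp (inv_mem hn) r).mp hr)
          calc r * (n * c * n⁻¹) = n * ((n⁻¹ * r * n⁻¹⁻¹) * c) * n⁻¹ := by group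
            _ = n * (c * (n⁻¹ * r * n⁻¹⁻¹)) * n⁻¹ := by rw [h]
            _ = n * c * n⁻¹ * r := by group
        · intro hc
          rw [mem_centralizer_iff] at hc ⊢
          intro r hr
          have h := hc _ ((mem_normalizer_iff.mp hn r).mp hr)
          calc r * c = n⁻¹ * ((n * r * n⁻¹) * (n * c * n⁻¹)) * n := by group
            _ = n⁻¹ * (n * c * n⁻¹ * (n * r * n⁻¹)) * n := by rw [h]
            _ = c * r := by group)
      let e : ↥(C.subgroupOf N) →* C := (subgroupOfEquivOfLe hCN).toMonoidHom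
      exact IsSubnormal.trans (fun x hx => hHa hx) (hsubH.comap e) hCn.isSubnormal
    refine le_layer_of_schreier CfsgLib.PCore.pPrimeCore_quotient_pPrimeCore (hs.schreier b hb) hRp
      (hHa.trans hCN) hperf hsubN hqs ?_
    set π₀ := QuotientGroup.mk' (Cfsg.pPrimeCore p ↥N)
    intro z hz
    show π₀ z ∈ Cfsg.layer _
    by_cases hne : (H.subgroupOf N).map π₀ = ⊥
    · have : π₀ z = 1 := mem_bot.mp (hne ▸ ⟨z, hz, rfl⟩)
      rw [this]
      exact one_mem _
    refine component_le_layer ⟨hsubN.map (QuotientGroup.mk'_surjective _), ?_⟩ ⟨z, hz, rfl⟩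
    haveI : Nontrivial ((H.subgroupOf N).map π₀) := (nontrivial_iff_ne_bot _).mpr hne
    let ι : H →* H.subgroupOf N := (subgroupOfEquivOfLe (hHa.trans hCN)).symm.toMonoidHom
    let g : H →* (H.subgroupOf N).map π₀ := (π₀.subgroupMap _).comp ι
    have hg : Function.Surjective g :=
      (π₀.subgroupMap_surjective _).comp (subgroupOfEquivOfLe (hHa.trans hCN)).symm.surjective
    have hgker : Cfsg.pPrimeCore p H ≤ g.ker := by
      intro x hx
      rw [MonoidHom.mem_ker]
      apply Subtype.ext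
      show π₀ (ι x : N) = 1
      refine (QuotientGroup.eq_one_iff _).mpr (CfsgLib.PCore.map_pPrimeCore_subtype_of_isSubnormal hsubN ?_)
      exact ⟨ι x, CfsgLib.PCore.map_pPrimeCore_le ι (subgroupOfEquivOfLe (hHa.trans hCN)).symm.surjective
        ⟨x, hx, rfl⟩, rfl⟩
    refine isQuasisimple_of_surjective hqs (QuotientGroup.lift _ g hgker) fun y => ?_
    obtain ⟨x, rfl⟩ := hg y
    exact ⟨QuotientGroup.mk x, rfl⟩
  have habar : abar ^ p = 1 := by
    rw [bmk_pow hab]
    refine (bmk_eq_one_iff (p := p) (pow_mem hab p) (n := 0) ?_).mpr ?_ <;>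
      simp [← ha, pow_orderOf_eq_one]
  obtain ⟨J, hJ⟩ := exists_orbitSpec CfsgLib.PCore.pPrimeCore_quotient_pPrimeCore habar hHa hHE hperf hgen
    hsubH hgood.comp.2 f hf hfker hgood.top_eq hgood.card_eq (hs.max b hb)
  refine ⟨J, hJ, ⟨MulEquiv.ofBijective f ?_⟩⟩
  rw [Nat.bijective_iff_surjective_and_card]
  exact ⟨hf, hJ.card_H.trans hgood.card_eq.symm⟩

end CfsgLib.Tech46.Terminal
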