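import Cfsg.Agent.Lib.Tech46.Terminal.Link
import Cfsg.Agent.Lib.Involutions.Transfer
import Cfsg.Agent.Lib.Structure.IndexPowers

/-!
Sylow subgroups of subgroups, their images in `H / O_{p'}(H)`, and the order of the simple top of a component.
-/

set_option autoImplicit false

namespace CfsgLib.Tech46.Terminal

open Subgroup CfsgLib.Components
open scoped commutatorElement

/-- `P` is a Sylow `p`-subgroup of the subgroup `D`. -/
structure IsSylIn {G : Type*} [Group G] (p : ℕ) (P D : Subgroup G) : Prop where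
  le : P ≤ D
  card : Nat.card P = p ^ (Nat.card D).factorization p

variable {G : Type*} [Group G] {p : ℕ} [hp : Fact p.Prime]

omit hp in
theorem IsSylIn.isPGroup {P D : Subgroup G} (h : IsSylIn p P D) : IsPGroup p P :=
  IsPGroup.of_card h.card

variable [Finite G]

theorem exists_isSylIn_ge {R D : Subgroup G} (hRD : R ≤ D) (hR : IsPGroup p R) :
    ∃ P, R ≤ P ∧ IsSylIn p P D := by
  obtain ⟨Q, hQ⟩ := (hR.comap_of_injective D.subtype D.subtype_injective).exists_le_sylow
  refine ⟨(Q : Subgroup D).map D.subtype, ?_, map_subtype_le _, ?_⟩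
  · intro r hr
    exact ⟨⟨r, hRD hr⟩, hQ hr, rfl⟩
  · rw [card_map_of_injective D.subtype_injective]
    exact Q.card_eq_multiplicity

theorem exists_isSylIn (D : Subgroup G) : ∃ P, IsSylIn p P D := by
  obtain ⟨P, -, hP⟩ := exists_isSylIn_ge (p := p) (bot_le : ⊥ ≤ D) IsPGroup.of_bot
  exact ⟨P, hP⟩

theorem IsSylIn.eq_of_le {P R D : Subgroup G} (h : IsSylIn p P D) (hPR : P ≤ R) (hRD : R ≤ D)
    (hR : IsPGroup p R) : R = P := by
  obtain ⟨Q, hRQ, hQ⟩ := exists_isSylIn_ge hRD hR
  exact le_antisymm (hRQ.trans (eq_of_le_of_card_ge (hPR.trans hRQ) (by rw [hQ.card, h.card])).ge) hPR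

/-- A `p`-subgroup centralizing a Sylow subgroup lies in it. -/
theorem IsSylIn.mem_of_commute {P D : Subgroup G} (h : IsSylIn p P D) {g : G} (hgD : g ∈ D) {n : ℕ}
    (hn : g ^ p ^ n = 1) (hc : ∀ w ∈ P, g * w = w * g) : g ∈ P := by
  have hgN : zpowers g ≤ normalizer (P : Set G) := zpowers_le.mpr
    (centralizer_le_normalizer _ (mem_centralizer_iff.mpr fun w hw => (hc w hw).symm))
  have hgp : IsPGroup p (zpowers g) := by
    obtain ⟨k, -, hk⟩ := (Nat.dvd_prime_pow hp.out).mp (orderOf_dvd_of_pow_eq_one hn)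
    exact IsPGroup.of_card (n := k) (by rw [Nat.card_zpowers, hk])
  have hR := hgp.to_sup_of_normal_right' h.isPGroup hgN
  rw [← h.eq_of_le le_sup_right (sup_le (zpowers_le.mpr hgD) h.le) hR]
  exact mem_sup_left (mem_zpowers g)

/-- A Sylow subgroup meets a subnormal subgroup in a Sylow subgroup. -/
theorem IsSylIn.inf_isSubnormal {P D N : Subgroup G} (h : IsSylIn p P D) (hND : N ≤ D)
    (hN : (N.subgroupOf D).IsSubnormal) : IsSylIn p (P ⊓ N) N := by
  refine ⟨inf_le_right, ?_⟩
  have hd := CfsgLib.IndexPowers.relIndex_dvd_index_of_isSubnormal hN (P.subgroupOf D)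
  rw [relIndex_subgroupOf hND] at hd
  have hidx : ¬ p ∣ (P.subgroupOf D).index := by
    intro hdvd
    have h1 := (P.subgroupOf D).index_mul_card
    rw [Nat.card_congr (subgroupOfEquivOfLe h.le).toEquiv, h.card] at h1
    have h2 : p ^ ((Nat.card D).factorization p + 1) ∣ Nat.card D := by
      have h4 := mul_dvd_mul_right hdvd (p ^ (Nat.card D).factorization p)
      rwa [← pow_succ', h1] at h4
    have h3 := (hp.out.pow_dvd_iff_le_factorization Nat.card_pos.ne').mp h2
    omega
  obtain ⟨k, hk⟩ := IsPGroup.iff_card.mp (h.isPGroup.to_le (inf_le_left : P ⊓ N ≤ P))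
  rw [hk]
  congr 1
  have h1 := (P.subgroupOf N).index_mul_card
  have h2 : Nat.card (P.subgroupOf N) = p ^ k := by
    rw [← hk, ← inf_subgroupOf_right P N]
    exact Nat.card_congr (subgroupOfEquivOfLe inf_le_right).toEquiv
  rw [h2] at h1
  have h3 : (P.subgroupOf N).index.factorization p = 0 :=
    Nat.factorization_eq_zero_of_not_dvd fun hdvd => hidx (hdvd.trans hd)
  rw [← h1, Nat.factorization_mul index_ne_zero_of_finite (pow_pos hp.out.pos k).ne', Finsupp.add_apply, h3,
    hp.out.factorization_pow, Finsupp.single_eq_same, zero_add]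

theorem card_img_pGroup {H R : Subgroup G} (hR : IsPGroup p R) (hRH : R ≤ H) :
    Nat.card (img p H R) = Nat.card R := by
  symm
  refine Nat.card_eq_of_bijective (fun r : R => (⟨bmk p (hRH r.2), bmk_mem_img _ r.2⟩ : img p H R)) ⟨?_, ?_⟩
  · intro a b hab
    obtain ⟨n, hn⟩ := hR (a⁻¹ * b)
    have hn' : ((a : G)⁻¹ * b) ^ p ^ n = 1 := congrArg Subtype.val hn
    refine Subtype.ext (inv_mul_eq_one.mp ((bmk_eq_one_iff (mul_mem (inv_mem (hRH a.2)) (hRH b.2)) hn').mp ?_))
    rw [← bmk_mul (inv_mem (hRH a.2)) (hRH b.2), ← bmk_inv (hRH a.2)]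
    exact inv_mul_eq_one.mpr (congrArg Subtype.val hab)
  · rintro ⟨y, hy⟩
    obtain ⟨g, hg, hgR, rfl⟩ := mem_img.mp hy
    exact ⟨⟨g, hgR⟩, rfl⟩

omit hp in
theorem card_lift (H : Subgroup G) (B : Subgroup (Bar p H)) :
    Nat.card (lift p H B) = Nat.card B * Nat.card (core p H) := by
  rw [lift, core, card_map_of_injective H.subtype_injective, card_map_of_injective H.subtype_injective]
  set q := QuotientGroup.mk' (Cfsg.pPrimeCore p ↥H)
  have h1 : (B.comap q).index = B.index := index_comap_of_surjective _ (QuotientGroup.mk'_surjective _)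
  have e1 := (B.comap q).index_mul_card
  have e2 := B.index_mul_card
  have e3 := card_eq_card_quotient_mul_card_subgroup (Cfsg.pPrimeCore p ↥H)
  rw [← e2, ← e1, h1, mul_assoc] at e3
  exact Nat.eq_of_mul_eq_mul_left (Nat.pos_of_ne_zero index_ne_zero_of_finite) e3

theorem factorization_card_lift (H : Subgroup G) (B : Subgroup (Bar p H)) :
    (Nat.card (lift p H B)).factorization p = (Nat.card B).factorization p := by
  rw [card_lift, Nat.factorization_mul Nat.card_pos.ne' Nat.card_pos.ne', Finsupp.add_apply,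
    Nat.factorization_eq_zero_of_not_dvd
      (hp.out.coprime_iff_not_dvd.mp (core_coprime (p := p) H).symm), add_zero]

theorem IsSylIn.img {H : Subgroup G} {B : Subgroup (Bar p H)} {P : Subgroup G}
    (h : IsSylIn p P (lift p H B)) : IsSylIn p (img p H P) B := by
  refine ⟨(img_mono h.le).trans (img_lift H B).le, ?_⟩
  rw [card_img_pGroup h.isPGroup (h.le.trans (lift_le H B)), h.card, factorization_card_lift]

omit hp in
theorem map_subgroupOf_isSylIn {D : Subgroup G} (Q : Sylow p D) [Fact p.Prime] :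
    IsSylIn p ((Q : Subgroup D).map D.subtype) D :=
  ⟨map_subtype_le _, by rw [card_map_of_injective D.subtype_injective]; exact Q.card_eq_multiplicity⟩

section TopCard

variable {Y : Type*} [Group Y] [Finite Y]

omit hp in
/-- The simple top of a component has order divisible by 4 as soon as it is even. -/
theorem four_dvd_topCard {K : Subgroup Y} (hK : Cfsg.IsComponent K) (h2 : 2 ∣ topCard K) : 4 ∣ topCard K := by
  haveI : Fact (Nat.Prime 2) := ⟨Nat.prime_two⟩
  set T := ↥K ⧸ center ↥K
  by_contra h4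
  obtain ⟨S⟩ : Nonempty (Sylow 2 T) := inferInstance
  have hS : Nat.card (S : Subgroup T) = 2 := by
    rw [S.card_eq_multiplicity]
    have h1 : (Nat.card T).factorization 2 = 1 := by
      refine le_antisymm ?_ ((Nat.prime_two.pow_dvd_iff_le_factorization Nat.card_pos.ne').mp (by rwa [pow_one]))
      by_contra h
      exact h4 ((Nat.prime_two.pow_dvd_iff_le_factorization Nat.card_pos.ne').mpr (Nat.lt_of_not_le h))
    rw [h1, pow_one]
  haveI hcyc : IsCyclic (S : Subgroup T) := isCyclic_of_prime_card hS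
  obtain ⟨N, hN⟩ := CfsgLib.Involutions.exists_index_two_of_cyclic_sylow (even_iff_two_dvd.mpr h2) S hcyc
  haveI := normal_of_index_eq_two hN
  set q := QuotientGroup.mk' (center ↥K)
  have hq : Function.Surjective q := QuotientGroup.mk'_surjective _
  have hne : center ↥K ≠ ⊤ := quasisimple_center_ne_top hK.2
  obtain htop | hcen := quasisimple_normal_eq_top_or_le_center hK.2 (N.comap q)
  · rw [← comap_top q] at htop
    rw [comap_injective hq htop, index_top] at hN
    omega
  · haveI : Nontrivial T := QuotientGroup.nontrivial_iff.mpr hne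
    have hNbot : N = ⊥ := by
      rw [← map_comap_eq_self_of_surjective hq N, Subgroup.map_eq_bot_iff, QuotientGroup.ker_mk']
      exact hcen
    rw [hNbot, index_bot] at hN
    have hcy : IsCyclic T := isCyclic_of_prime_card hN
    exact hne (top_le_iff.mp fun k _ => mem_center_iff.mpr fun l =>
      @Std.Commutative.comm _ (· * ·) ⟨commutative_of_cyclic_center_quotient q (by rw [QuotientGroup.ker_mk'])⟩ l k)

omit [Fact p.Prime] in
theorem two_le_factorization_topCard [hp : Fact p.Prime] {K : Subgroup Y} (hK : Cfsg.IsComponent K)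
    (hO : Cfsg.pPrimeCore p Y = ⊥) :
    1 ≤ (topCard K).factorization p ∧ (p = 2 → 2 ≤ (topCard K).factorization p) := by
  have hd := dvd_topCard hO hK
  have h0 : topCard K ≠ 0 := by
    rw [topCard]
    exact Nat.card_pos.ne'
  refine ⟨(hp.out.pow_dvd_iff_le_factorization h0).mp (by rwa [pow_one]), ?_⟩
  rintro rfl
  exact (hp.out.pow_dvd_iff_le_factorization h0).mp (four_dvd_topCard hK hd)

end TopCard

end CfsgLib.Tech46.Terminal
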