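import Cfsg.Agent.Lib.Tech46.Terminal.Witness

/-!
Conjugation invariance of single links and of the Sylow exponent, and the inheritance of the configuration
along a single link at a central element.
-/

set_option autoImplicit false

namespace CfsgLib.Tech46.Terminal

open Subgroup CfsgLib.Components
open scoped commutatorElement

variable {G : Type*} [Group G] {p : ℕ} {m1 m2 : ℕ}

theorem map_conj_Cn (g z : G) : (Cn z).map (MulAut.conj g).toMonoidHom = Cn (g * z * g⁻¹) := by
  ext w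
  constructor
  · rintro ⟨v, hv, rfl⟩
    refine mem_centralizer_singleton_iff.mpr ?_
    exact (map_mul (MulAut.conj g) v z).symm.trans
      ((congrArg (MulAut.conj g) (mem_centralizer_singleton_iff.mp hv)).trans (map_mul (MulAut.conj g) z v))
  · intro hw
    refine ⟨g⁻¹ * w * g, mem_centralizer_singleton_iff.mpr ?_, by simp [mul_assoc]⟩
    have h := mem_centralizer_singleton_iff.mp hw
    calc g⁻¹ * w * g * z = g⁻¹ * (w * (g * z * g⁻¹)) * g := by group
      _ = g⁻¹ * ((g * z * g⁻¹) * w) * g := by rw [h]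
      _ = z * (g⁻¹ * w * g) := by group

variable [Finite G]

theorem card_lift_centralizer_map (e : G ≃* G) (H S : Subgroup G) {H' S' : Subgroup G}
    (hH : H.map e.toMonoidHom = H') (hS : S.map e.toMonoidHom = S') :
    Nat.card (lift p H' (centralizer (img p H' S' : Set (Bar p H')))) =
    Nat.card (lift p H (centralizer (img p H S : Set (Bar p H)))) := by
  subst hH hS
  rw [img_map]
  have : centralizer (((img p H S).map (barEquiv e H).toMonoidHom : Subgroup _) : Set _) =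
      (centralizer (img p H S : Set (Bar p H))).map (barEquiv e H).toMonoidHom := by
    ext w
    simp only [mem_centralizer_iff, SetLike.mem_coe]
    constructor
    · intro h
      refine ⟨(barEquiv e H).symm w, mem_centralizer_iff.mpr fun v hv => (barEquiv (p := p) e H).injective ?_,
        (barEquiv (p := p) e H).apply_symm_apply w⟩
      rw [map_mul, map_mul, MulEquiv.apply_symm_apply]
      exact h _ ⟨v, hv, rfl⟩
    · rintro ⟨w, hw, rfl⟩ _ ⟨v, hv, rfl⟩
      exact (map_mul _ _ _).symm.trans ((congrArg _ (mem_centralizer_iff.mp hw v hv)).trans (map_mul _ _ _))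
  rw [this, lift_map, card_map_of_injective e.injective]

variable [hp : Fact p.Prime]

theorem map_Lsub {x g z : G} {K : Subgroup (Bar p (Cn x))} (hg : g ∈ Dg p x K) :
    (Lsub p x K z).map (MulAut.conj g).toMonoidHom = Lsub p x K (g * z * g⁻¹) := by
  rw [Lsub, Lsub, map_pElemClosure, map_inf _ _ _ (MulAut.conj g).injective, map_conj_Cn,
    mem_normalizer_iff_conj_eq.mp (Dg_normalizes hg)]

theorem isComponent_himg_conj {x g z : G} {K : Subgroup (Bar p (Cn x))} (hg : g ∈ Dg p x K)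
    (h : Cfsg.IsComponent (Himg p x K z)) : Cfsg.IsComponent (Himg p x K (g * z * g⁻¹)) := by
  have h1 := isComponent_map_equiv (barEquiv (p := p) (MulAut.conj g) (Cn z)) h
  rw [Himg, ← img_map, map_Lsub hg] at h1
  have hC := map_conj_Cn g z
  show Cfsg.IsComponent (img p (Cn (g * z * g⁻¹)) (Lsub p x K (g * z * g⁻¹)))
  rw [← hC]
  exact h1

theorem sig_himg_conj {x g z : G} {K : Subgroup (Bar p (Cn x))} (hg : g ∈ Dg p x K) :
    sig p (g * z * g⁻¹) (Himg p x K (g * z * g⁻¹)) = sig p z (Himg p x K z) := by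
  rw [sig, sig, Dg, Dg, Himg, Himg,
    card_lift_centralizer_map (MulAut.conj g) (Cn z) (Lsub p x K z) (map_conj_Cn g z) (map_Lsub hg)]

/-- Sylow subgroups of `D` are conjugate in `D`. -/
theorem IsSylIn.exists_conj {P R D : Subgroup G} (hP : IsSylIn p P D) (hR : R ≤ D) (hRp : IsPGroup p R) :
    ∃ d ∈ D, ∀ r ∈ R, d * r * d⁻¹ ∈ P := by
  obtain ⟨Q, hQ⟩ := (hP.isPGroup.comap_of_injective D.subtype D.subtype_injective).exists_le_sylow
  obtain ⟨Q', hQ'⟩ := (hRp.comap_of_injective D.subtype D.subtype_injective).exists_le_sylow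
  have hQP : ((Q : Subgroup D).map D.subtype) = P :=
    hP.eq_of_le (fun r hr => ⟨⟨r, hP.le hr⟩, hQ hr, rfl⟩) (map_subtype_le _) (Q.2.map _)
  obtain ⟨d, hd⟩ := MulAction.exists_smul_eq D Q' Q
  refine ⟨d, d.2, fun r hr => ?_⟩
  rw [← hQP]
  refine ⟨d * ⟨r, hR hr⟩ * d⁻¹, ?_, rfl⟩
  rw [← hd]
  exact Subgroup.smul_mem_pointwise_smul _ (MulAut.conj d) (Q' : Subgroup D) (hQ' hr)

/-- A link is single exactly when the image is a component. -/
theorem Setup.single_iff (hs : Setup G p m1 m2) {x y : G} {K : Subgroup (Bar p (Cn x))} (hx : orderOf x = p)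
    {J : Subgroup (Bar p (Cn y))} (h : Link p m1 m2 x K y J) :
    Cfsg.IsComponent (Himg p x K y) ↔ bmk p h.mem ∈ normalizer (J : Set (Bar p (Cn y))) := by
  refine ⟨fun hc => ?_, fun hn => (hs.single_eq hx h hn).1 ▸ h.spec.comp⟩
  set a := bmk p h.mem
  have hap : a ^ p = 1 := bmk_pow_order h.mem hx
  have hM : Himg p x K y ∈ orbit a J :=
    component_mem_of_le_sSup (fun L hL => isComponent_of_mem_orbit h.spec.comp hL) hc h.spec.le_join
  have haM : a ∈ normalizer (Himg p x K y : Set (Bar p (Cn y))) := by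
    refine centralizer_le_normalizer _ (mem_centralizer_iff.mpr fun w hw => ?_)
    obtain ⟨g, hg, hgL, rfl⟩ := mem_img.mp hw
    exact bmk_commute hg h.mem (mem_centralizer_singleton_iff.mp (lift_le _ _ (pElemClosure_le _ hgL).1))
  exact mem_normalizer_orbit rfl haM ((orbit_eq_of_mem hap hM).symm ▸ self_mem_orbit a J)

/-- The single link at a central element of a Sylow subgroup of `D(x,K)` carrying the configuration inherits
it. -/
theorem Setup.wf_of_central (hs : Setup G p m1 m2) {x y : G} {K : Subgroup (Bar p (Cn x))} (hx : orderOf x = p)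
    (hK : Good m1 m2 K) (hyo : orderOf y = p) {P : Subgroup G} (hP : IsSylIn p P (Dg p x K)) (hyP : y ∈ P)
    (hyc : ∀ w ∈ P, y * w = w * y)
    (hcfg : m1 = m2 →
      (p = 2 → ∃ a ∈ P, orderOf a = p ∧ ∃ S : Subgroup G, S ≤ P ∧ S ≤ Cn a ∧ a ∉ S ∧ 4 ≤ Nat.card S) ∧
      (p ≠ 2 → ∃ u ∈ lift p (Cn x) K, orderOf u = p ∧ P ≤ Cn u ∧
        ∃ (O : Fin (p - 1) → Set (Subgroup (Bar p (Cn u)))) (S : Fin (p - 1) → Subgroup (Bar p (Cn u))),
          Spread p m1 (img p (Cn u) P) O S))
    {J : Subgroup (Bar p (Cn y))} (hJ : Link p m1 m2 x K y J)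
    (hfix : bmk p hJ.mem ∈ normalizer (J : Set (Bar p (Cn y)))) :
    P ≤ Dg p y J ∧ WF p m1 m2 y J := by
  obtain ⟨hHJ, -⟩ := hs.single_eq hx hJ hfix
  have hyD := hP.le hyP
  have hPy : P ≤ Cn y := fun w hw => mem_centralizer_singleton_iff.mpr (hyc w hw).symm
  have hPD : P ≤ Dg p y J := by
    intro d hd
    refine mem_Dg_iff.mpr ⟨hPy hd, ?_⟩
    rw [← hHJ]
    exact hs.mem_centralizer_himg hx hK hyD hyo (hP.le hd) (hPy hd)
  refine ⟨hPD, fun hm => ?_⟩
  obtain ⟨h2, hodd⟩ := hcfg hm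
  by_cases hp2 : p = 2
  · obtain ⟨Q, hPQ, hQ⟩ := exists_isSylIn_ge hPD hP.isPGroup
    obtain ⟨a, ha, hao, S, hS, hSa, haS, h4⟩ := h2 hp2
    exact ⟨Q, hQ, fun _ => ⟨a, hPQ ha, hao, S, hS.trans hPQ, hSa, haS, h4⟩, fun h => absurd hp2 h⟩
  obtain ⟨u, huK, huo, hPu, O, S, hsp⟩ := hodd hp2
  have huy : u ∈ Cn y := mem_Cn_comm.mp (hPu hyP)
  have huL : u ∈ Lsub p x K y :=
    mem_pElemClosure (mem_inf.mpr ⟨huK, huy⟩) (n := 1) (by rw [pow_one, ← huo, pow_orderOf_eq_one])
  have hubJ : bmk p huy ∈ J := hHJ ▸ bmk_mem_img huy huL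
  set M := Dg p y J ⊓ Cn u with hM
  obtain ⟨Q, hPQ, hQ⟩ := exists_isSylIn_ge (le_inf hPD hPu : P ≤ M) hP.isPGroup
  have hfix : Fixes p (Cn y) (Cn y ⊓ Cn u) (centralizer (J : Set (Bar p (Cn y)))) :=
    fixes_of_element huy huo (mem_centralizer_iff.mpr fun w hw => (mem_centralizer_iff.mp hw _ hubJ).symm)
  have hsyl : IsSylIn p Q (Dg p y J) := by
    refine ⟨hQ.le.trans inf_le_left, ?_⟩
    rw [hQ.card]
    congr 1
    refine le_antisymm ((Nat.factorization_le_iff_dvd Nat.card_pos.ne' Nat.card_pos.ne').mpr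
      (card_dvd_of_le (inf_le_left : M ≤ _)) p) ?_
    rw [Dg, factorization_card_lift]
    have hMX : M = lift p (Cn y) (centralizer (J : Set (Bar p (Cn y)))) ⊓ (Cn y ⊓ Cn u) := by
      rw [hM, Dg, ← inf_assoc, inf_eq_left.mpr (lift_le (Cn y) _)]
    have hd : Nat.card (centralizer (J : Set (Bar p (Cn y)))) ∣ Nat.card M := by
      rw [← hfix.img_inf, ← hMX]
      refine (card_map_dvd _ _).trans ?_
      rw [← card_map_of_injective (Cn y).subtype_injective, subgroupOf_map_subtype]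
      exact card_dvd_of_le inf_le_left
    exact (Nat.factorization_le_iff_dvd Nat.card_pos.ne' Nat.card_pos.ne').mpr hd p
  refine ⟨Q, hsyl, fun h => absurd h hp2, fun _ => ⟨u, mem_lift.mpr ⟨huy, hubJ⟩, huo, hQ.le.trans inf_le_right,
    O, S, ?_⟩⟩
  exact ⟨hsp.big, hsp.ne, hsp.disj, fun j => (hsp.le_Q j).trans (img_mono hPQ), hsp.le_join, hsp.card,
    hsp.faithful⟩

end CfsgLib.Tech46.Terminal
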