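import Cfsg.Agent.Lib.Tech46.Terminal.Syl
import Cfsg.Agent.Lib.Tech46.Terminal.Count

/-!
The criterion used to select a `p`-terminal pair, and its values at a pair linked through a moved orbit.
-/

set_option autoImplicit false

namespace CfsgLib.Tech46.Terminal

open Subgroup CfsgLib.Components
open scoped commutatorElement

variable {G : Type*} [Group G] {p : ℕ} {m1 m2 : ℕ}

/-- The exponent of a Sylow `p`-subgroup of `D(x,K)`. -/
noncomputable def sig (p : ℕ) (x : G) (K : Subgroup (Bar p (Cn x))) : ℕ :=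
  (Nat.card (Dg p x K)).factorization p

/-- Every Sylow subgroup of `D(x,K)` has a central element of order `p` outside `⟨x⟩`. -/
def WE (p : ℕ) (x : G) (K : Subgroup (Bar p (Cn x))) : Prop :=
  ∀ P, IsSylIn p P (Dg p x K) → ∃ z ∈ P, orderOf z = p ∧ z ∉ zpowers x ∧ ∀ w ∈ P, z * w = w * z

/-- The configuration forced in `D(x,K)` by a moved orbit. -/
def WF (p m1 m2 : ℕ) (x : G) (K : Subgroup (Bar p (Cn x))) : Prop :=
  m1 = m2 → ∃ P, IsSylIn p P (Dg p x K) ∧
    (p = 2 → ∃ a ∈ P, orderOf a = p ∧ ∃ S : Subgroup G, S ≤ P ∧ S ≤ Cn a ∧ a ∉ S ∧ 4 ≤ Nat.card S) ∧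
    (p ≠ 2 → ∃ u ∈ lift p (Cn x) K, orderOf u = p ∧ P ≤ Cn u ∧
      ∃ (O : Fin (p - 1) → Set (Subgroup (Bar p (Cn u)))) (S : Fin (p - 1) → Subgroup (Bar p (Cn u))),
        Spread p m1 (img p (Cn u) P) O S)

variable [Finite G] [hp : Fact p.Prime]

theorem self_mem_Dg (x : G) (K : Subgroup (Bar p (Cn x))) : x ∈ Dg p x K := by
  refine mem_Dg_iff.mpr ⟨mem_centralizer_singleton_iff.mpr rfl, mem_centralizer_iff.mpr fun k _ => ?_⟩
  obtain ⟨g, hg, rfl⟩ := exists_bmk k
  exact bmk_commute _ _ (mem_centralizer_singleton_iff.mp hg)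

theorem bmk_self_mem_centralizer (x : G) (S : Set (Bar p (Cn x))) (hx : x ∈ Cn x) :
    bmk p hx ∈ centralizer S := by
  refine mem_centralizer_iff.mpr fun k _ => ?_
  obtain ⟨g, hg, rfl⟩ := exists_bmk k
  exact bmk_commute hg hx (mem_centralizer_singleton_iff.mp hg)

theorem bmk_ne_one {H : Subgroup G} {g : G} (hg : g ∈ H) (ho : orderOf g = p) : bmk p hg ≠ 1 := fun h => by
  have h1 := (bmk_eq_one_iff (p := p) hg (n := 1) (by rw [pow_one, ← ho, pow_orderOf_eq_one])).mp h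
  exact hp.out.ne_one (by rw [← ho, h1, orderOf_one])

theorem img_inf_lift (H P : Subgroup G) (B : Subgroup (Bar p H)) :
    img p H (P ⊓ lift p H B) = img p H P ⊓ B := by
  refine le_antisymm (le_inf (img_mono inf_le_left) ((img_mono inf_le_right).trans (img_lift H B).le)) ?_
  rintro y ⟨hy, hyB⟩
  obtain ⟨g, hg, hgP, rfl⟩ := mem_img.mp hy
  exact bmk_mem_img hg ⟨hgP, mem_lift.mpr ⟨hg, hyB⟩⟩

theorem img_le_of_img_le {H X S T : Subgroup G} (hXH : X ≤ H) (hTX : T ≤ X)
    (h : img p H S ≤ img p H T) : img p X S ≤ img p X T := by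
  intro w hw
  obtain ⟨g, hgX, hgS, rfl⟩ := mem_img.mp hw
  obtain ⟨t, htH, htT, he⟩ := mem_img.mp (h (bmk_mem_img (hXH hgX) hgS))
  have h1 : t⁻¹ * g ∈ core p H := mem_core.mpr ⟨mul_mem (inv_mem htH) (hXH hgX), by
    rw [← bmk_mul (inv_mem htH) (hXH hgX), ← bmk_inv htH, he, inv_mul_cancel]⟩
  obtain ⟨h2, h3⟩ := mem_core.mp (core_inf_le hXH (mem_inf.mpr ⟨h1, mul_mem (inv_mem (hTX htT)) hgX⟩))
  rw [← bmk_mul (inv_mem (hTX htT)) hgX, ← bmk_inv (hTX htT), inv_mul_eq_one] at h3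
  exact h3 ▸ bmk_mem_img _ htT

/-- Enumeration of the other members of a moved orbit. -/
theorem exists_others {Y : Type*} [Group Y] [Finite Y] {a : Y} (hap : a ^ p = 1) {J : Subgroup Y}
    (ha : a ∉ normalizer (J : Set Y)) :
    ∃ e : Fin (p - 1) → Subgroup Y, Function.Injective e ∧ ∀ j, e j ∈ orbit a J ∧ e j ≠ J := by
  refine ⟨fun j => J.map (MulAut.conj (a ^ (j.val + 1))).toMonoidHom, fun i j h => ?_, fun j => ⟨⟨_, rfl⟩, ?_⟩⟩
  · have hi := i.isLt
    have hj := j.isLt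
    by_contra hne
    refine orbit_pairwise hap ha (i := i.val + 1) (j := j.val + 1) (by omega) (by omega) ?_ h
    simpa [Fin.ext_iff] using hne
  · have hj := j.isLt
    have := orbit_pairwise hap ha (i := j.val + 1) (j := 0) (by omega) hp.out.pos (by omega)
    rwa [pow_zero, map_conj_one] at this

/-- The lower bound for the Sylow exponent of `D(y,J)`. -/
theorem sig_bound {y : G} {J : Subgroup (Bar p (Cn y))} {m : ℕ} {R : Subgroup G} (hR : IsPGroup p R)
    (hRD : R ≤ Dg p y J) (s : Finset (Subgroup (Bar p (Cn y))))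
    (hsc : ∀ L ∈ s, Cfsg.IsComponent L ∧ topCard L = m)
    (hsJ : ∀ L ∈ s, L ≤ centralizer (J : Set (Bar p (Cn y))))
    (hRs : ∀ L ∈ s, img p (Cn y) R ≤ centralizer (L : Set (Bar p (Cn y)))) :
    (Nat.card R).factorization p + s.card * m.factorization p ≤ sig p y J := by
  have hA : img p (Cn y) R ≤ centralizer (J : Set (Bar p (Cn y))) :=
    (img_mono hRD).trans (img_lift _ _).le
  have h := card_mul_pow_dvd (Y := Bar p (Cn y)) s hsc hsJ hA hRs
  rw [card_img_pGroup hR (hRD.trans (Dg_le y J))] at h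
  rcases Nat.eq_zero_or_pos m with hm | hm
  · subst hm
    rcases s.eq_empty_or_nonempty with hs | ⟨L, hL⟩
    · subst hs
      rw [Finset.card_empty, zero_mul, add_zero, sig, Dg, factorization_card_lift]
      rw [Finset.card_empty, pow_zero, mul_one] at h
      exact (Nat.factorization_le_iff_dvd Nat.card_pos.ne' Nat.card_pos.ne').mpr h p
    · exact absurd (hsc L hL).2 (by rw [topCard]; exact Nat.card_pos.ne')
  have h1 := (Nat.factorization_le_iff_dvd (Nat.mul_ne_zero Nat.card_pos.ne' (pow_ne_zero _ hm.ne'))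
    Nat.card_pos.ne').mpr h p
  rw [Nat.factorization_mul Nat.card_pos.ne' (pow_ne_zero _ hm.ne'), Nat.factorization_pow, Finsupp.add_apply,
    Finsupp.smul_apply, smul_eq_mul] at h1
  rwa [sig, Dg, factorization_card_lift]

theorem isSylIn_img_centralizer {y : G} {J : Subgroup (Bar p (Cn y))} {P : Subgroup G}
    (hP : IsSylIn p P (Dg p y J)) : IsSylIn p (img p (Cn y) P) (centralizer (J : Set (Bar p (Cn y)))) :=
  hP.img

/-- A Sylow subgroup of `D(y,J)` meets the preimage of another component in a Sylow subgroup of it. -/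
theorem card_inf_lift {y : G} {J L : Subgroup (Bar p (Cn y))} {P : Subgroup G}
    (hP : IsSylIn p P (Dg p y J)) (hL : Cfsg.IsComponent L) (hLJ : L ≤ centralizer (J : Set (Bar p (Cn y)))) :
    Nat.card (P ⊓ lift p (Cn y) L : Subgroup G) = p ^ (Nat.card L).factorization p := by
  rw [← card_img_pGroup (H := Cn y) (hP.isPGroup.to_le inf_le_left) (inf_le_right.trans (lift_le _ _)),
    img_inf_lift]
  exact ((isSylIn_img_centralizer hP).inf_isSubnormal hLJ (isComponent_subgroupOf hL hLJ).1).card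

/-- At a pair linked through a moved orbit of centreless components, the central condition holds. -/
theorem we_of_moved {y : G} (hyo : orderOf y = p) {m : ℕ} {J : Subgroup (Bar p (Cn y))}
    (hJ : J ∈ bigSet (Bar p (Cn y)) m) {a : Bar p (Cn y)} (hap : a ^ p = 1)
    (ha : a ∉ normalizer (J : Set (Bar p (Cn y)))) : WE p y J := by
  intro P hP
  obtain ⟨e, -, he⟩ := exists_others (p := p) hap ha
  set j0 : Fin (p - 1) := ⟨0, by have := hp.out.two_le; omega⟩
  have he0 : e j0 ∈ bigSet (Bar p (Cn y)) m := by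
    obtain ⟨i, hi⟩ := (he j0).1
    exact hi ▸ map_mem_bigSet hJ _
  set 𝒯 := bigSet (Bar p (Cn y)) m \ {J}
  set N := sSup 𝒯 with hNdef
  have hNJ : N ≤ centralizer (J : Set (Bar p (Cn y))) :=
    sSup_le_centralizer_of_not_mem (fun L hL => hL.1.1) hJ.1 fun h => h.2 rfl
  have hCN : centralizer (J : Set (Bar p (Cn y))) ≤ normalizer (N : Set (Bar p (Cn y))) := by
    refine CfsgLib.Structure.le_normalizer_sSup fun g hg L hL => ⟨map_mem_bigSet hL.1 g, fun h => hL.2 ?_⟩
    have hgJ := mem_normalizer_iff_conj_eq.mp (centralizer_le_normalizer _ hg)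
    exact map_injective (MulAut.conj g).injective ((Set.mem_singleton_iff.mp h).trans hgJ.symm)
  haveI hNn : (N.subgroupOf (centralizer (J : Set (Bar p (Cn y))))).Normal :=
    normal_subgroupOf_of_le_normalizer hCN
  have hPC := isSylIn_img_centralizer hP
  have hsyl := hPC.inf_isSubnormal hNJ hNn.isSubnormal
  set Pb := img p (Cn y) P
  have hNp : p ∣ Nat.card N := (dvd_card_component CfsgLib.PCore.pPrimeCore_quotient_pPrimeCore he0.1).trans
    (card_dvd_of_le (le_sSup ⟨he0, (he j0).2⟩))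
  haveI : (N.subgroupOf Pb).Normal := normal_subgroupOf_of_le_normalizer (hPC.le.trans hCN)
  have hne : N.subgroupOf Pb ≠ ⊥ := by
    intro h
    have h1 : Nat.card (Pb ⊓ N : Subgroup (Bar p (Cn y))) = 1 := by
      rw [inf_comm, ← subgroupOf_map_subtype, h, Subgroup.map_bot, card_bot]
    rw [hsyl.card] at h1
    have h2 : 1 ≤ (Nat.card N).factorization p :=
      (hp.out.pow_dvd_iff_le_factorization Nat.card_pos.ne').mp (by rwa [pow_one])
    have h3 := (Nat.pow_eq_one.mp h1).resolve_left hp.out.ne_one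
    omega
  obtain ⟨w, hwN, hwc, hw1⟩ := CfsgLib.Techniques.KInf.exists_mem_center hPC.isPGroup (N.subgroupOf Pb) hne
  obtain ⟨k, hk⟩ := hPC.isPGroup w
  obtain ⟨i, -, hi⟩ := (Nat.dvd_prime_pow hp.out).mp (orderOf_dvd_of_pow_eq_one hk)
  have hpd : p ∣ orderOf w := by
    rcases i with _ | i
    · exact absurd (orderOf_eq_one_iff.mp hi) hw1
    · exact hi ▸ dvd_pow_self p (Nat.succ_ne_zero i)
  set v := w ^ (orderOf w / p) with hv
  have hvo : orderOf v = p := by
    rw [hv, orderOf_pow_of_dvd (Nat.div_pos (Nat.le_of_dvd (orderOf_pos w) hpd) hp.out.pos).ne'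
      (Nat.div_dvd_of_dvd hpd), Nat.div_div_self hpd (orderOf_pos w).ne']
  obtain ⟨z, hz, hzP, hzv⟩ := mem_img.mp v.2
  obtain ⟨n, hn⟩ := hP.isPGroup ⟨z, hzP⟩
  have hn' : z ^ p ^ n = 1 := congrArg Subtype.val hn
  refine ⟨z, hzP, ?_, ?_, ?_⟩
  · rw [← orderOf_bmk hz hn', hzv, Subgroup.orderOf_coe, hvo]
  · intro hzy
    have hyy : y ∈ Cn y := mem_centralizer_singleton_iff.mpr rfl
    obtain ⟨q, rfl⟩ := hzy
    have hvC : (v : Bar p (Cn y)) ∈ centralizer (N : Set (Bar p (Cn y))) := by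
      rw [← hzv, show bmk p hz = bmk p hyy ^ q from
        map_zpow (QuotientGroup.mk' (Cfsg.pPrimeCore p ↥(Cn y))) ⟨y, hyy⟩ q]
      exact zpow_mem (bmk_self_mem_centralizer y _ hyy) q
    have hvN : (v : Bar p (Cn y)) ∈ N ⊓ centralizer (N : Set (Bar p (Cn y))) :=
      ⟨pow_mem hwN (orderOf w / p), hvC⟩
    rw [hNdef, bigSet_join_inf_centralizer (fun _ h => h.1), mem_bot, OneMemClass.coe_eq_one] at hvN
    exact hp.out.ne_one (by rw [← hvo, hvN, orderOf_one])
  · intro r hr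
    have hrC : r ∈ Cn y := hP.le.trans (Dg_le y J) hr
    have hcom : bmk p (mul_mem hz hrC) = bmk p (mul_mem hrC hz) := by
      rw [← bmk_mul hz hrC, ← bmk_mul hrC hz, hzv]
      exact congrArg Subtype.val (mem_center_iff.mp (pow_mem hwc (orderOf w / p)) ⟨bmk p hrC, bmk_mem_img _ hr⟩).symm
    obtain ⟨l, hl⟩ := hP.isPGroup ⟨(r * z)⁻¹ * (z * r), mul_mem (inv_mem (mul_mem hr hzP)) (mul_mem hzP hr)⟩
    refine (inv_mul_eq_one.mp ((bmk_eq_one_iff (p := p)
      (mul_mem (inv_mem (mul_mem hrC hz)) (mul_mem hz hrC)) (congrArg Subtype.val hl)).mp ?_)).symm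
    rw [← bmk_mul (inv_mem (mul_mem hrC hz)) (mul_mem hz hrC), ← bmk_inv (mul_mem hrC hz), hcom, inv_mul_cancel]

omit [Finite G] hp in
theorem Link.orbit_mem_bigSet {m : ℕ} {x y : G} {K : Subgroup (Bar p (Cn x))} {J : Subgroup (Bar p (Cn y))}
    (h : Link p m m x K y J) : J ∈ bigSet (Bar p (Cn y)) m :=
  ⟨h.spec.comp, h.spec.top_eq, h.spec.card_eq⟩

/-- At a pair linked through a moved orbit, the configuration holds. -/
theorem Setup.wf_of_moved (hs : Setup G p m1 m2) {x y : G} {K : Subgroup (Bar p (Cn x))} (hx : orderOf x = p)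
    (hyo : orderOf y = p) {J : Subgroup (Bar p (Cn y))} (hJ : Link p m1 m2 x K y J)
    (hmove : bmk p hJ.mem ∉ normalizer (J : Set (Bar p (Cn y)))) : WF p m1 m2 y J := by
  intro hm
  subst hm
  set a := bmk p hJ.mem
  have hap : a ^ p = 1 := bmk_pow_order hJ.mem hx
  obtain ⟨e, hei, he⟩ := exists_others hap hmove
  have heB : ∀ j, e j ∈ bigSet (Bar p (Cn y)) m1 := fun j => by
    obtain ⟨i, hi⟩ := (he j).1
    exact hi ▸ map_mem_bigSet hJ.orbit_mem_bigSet _
  have heJ : ∀ j, e j ≤ centralizer (J : Set (Bar p (Cn y))) := fun j =>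
    le_centralizer_of_commutator_eq_bot (commutator_components_eq_bot (heB j).1 hJ.spec.comp (he j).2)
  obtain ⟨P, hP⟩ := exists_isSylIn (p := p) (Dg p y J)
  refine ⟨P, hP, fun hp2 => ?_, fun _ => ?_⟩
  · set j0 : Fin (p - 1) := ⟨0, by omega⟩
    have hyP : y ∈ P := hP.mem_of_commute (self_mem_Dg y J) (n := 1)
      (by rw [pow_one, ← hyo, pow_orderOf_eq_one])
      fun w hw => (mem_centralizer_singleton_iff.mp (Dg_le y J (hP.le hw))).symm
    refine ⟨y, hyP, hyo, P ⊓ lift p (Cn y) (e j0), inf_le_left,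
      inf_le_right.trans (lift_le _ _), ?_, ?_⟩
    · rintro ⟨-, hy⟩
      obtain ⟨hyy, hyb⟩ := mem_lift.mp hy
      have h1 : bmk p hyy ∈ e j0 ⊓ centralizer ((e j0 : Subgroup _) : Set (Bar p (Cn y))) :=
        ⟨hyb, bmk_self_mem_centralizer y _ hyy⟩
      rw [center_trivial_of_card (heB j0).2.1 (heB j0).2.2, mem_bot] at h1
      exact bmk_ne_one hyy hyo h1
    · rw [card_inf_lift hP (heB j0).1 (heJ j0), (heB j0).2.2]
      have h2 := ((two_le_factorization_topCard (heB j0).1 CfsgLib.PCore.pPrimeCore_quotient_pPrimeCore).2 hp2)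
      rw [(heB j0).2.1] at h2
      calc 4 ≤ p ^ 2 := by rw [hp2]
        _ ≤ p ^ m1.factorization p := Nat.pow_le_pow_right hp.out.pos h2
  -- an element `u` of order `p` over `J` centralizing `P`
  have hfix : Fixes p (Cn y) (Cn y ⊓ centralizer (P : Set G)) J := fixes_of_le_Dg hP.isPGroup hP.le
  obtain ⟨b, hb⟩ := exists_prime_orderOf_dvd_card' p
    (dvd_card_component CfsgLib.PCore.pPrimeCore_quotient_pPrimeCore hJ.spec.comp)
  obtain ⟨g, hg, hgS, hgb⟩ := hfix.exists_rep b.2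
  have hpd : p ∣ orderOf g := by
    have h1 := orderOf_map_dvd (QuotientGroup.mk' (Cfsg.pPrimeCore p ↥(Cn y))) (⟨g, hg⟩ : Cn y)
    change orderOf (bmk p hg) ∣ _ at h1
    rwa [hgb, Subgroup.orderOf_coe, hb, Subgroup.orderOf_mk] at h1
  set u := g ^ (orderOf g / p) with hu
  have huo : orderOf u = p := by
    rw [hu, orderOf_pow_of_dvd (Nat.div_pos (Nat.le_of_dvd (orderOf_pos g) hpd) hp.out.pos).ne'
      (Nat.div_dvd_of_dvd hpd), Nat.div_div_self hpd (orderOf_pos g).ne']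
  have huJ : u ∈ lift p (Cn y) J := pow_mem hgS.1 _
  have huy : u ∈ Cn y := lift_le _ _ huJ
  have huP : P ≤ Cn u := fun r hr =>
    mem_centralizer_singleton_iff.mpr (mem_centralizer_iff.mp (pow_mem hgS.2.2 _) r hr)
  refine ⟨u, huJ, huo, huP, ?_⟩
  obtain ⟨_, hubJ⟩ := mem_lift.mp huJ
  have hyu : y ∈ Cn u := mem_Cn_comm.mp huy
  set X := Cn u ⊓ Cn y with hX
  have hfixL : ∀ j, Fixes p (Cn y) X (e j) := fun j => by
    rw [hX, inf_comm]
    refine fixes_of_element huy huo ?_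
    exact mem_centralizer_iff.mpr fun l hl => (mem_centralizer_iff.mp (heJ j hl) _ hubJ).symm
  have hgood : ∀ j, Good m1 m1 (img p X (lift p (Cn y) (e j) ⊓ X)) := fun j => by
    obtain ⟨hc, ⟨ee⟩⟩ := (hfixL j).desc_spec (heB j).1
    exact ⟨hc, (topCard_eq_of_mulEquiv ee).symm.trans (heB j).2.1,
      (Nat.card_congr ee.toEquiv).symm.trans (heB j).2.2⟩
  have hstep := fun j => hs.step hyo huo hyu hX (inf_le_right : lift p (Cn y) (e j) ⊓ X ≤ X)
    (lift_inf_subnormal (hfixL j).le (heB j).1.1) (hgood j)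
  choose I hI _ using hstep
  set ay := bmk p hyu
  have hayp : ay ^ p = 1 := bmk_pow_order hyu hyo
  set L := fun j => pElemClosure p (lift p (Cn y) (e j) ⊓ X) with hL
  have hLX : ∀ j, L j ≤ X := fun j => (pElemClosure_le _).trans inf_le_right
  have hbig : ∀ j, orbit ay (I j) ⊆ bigSet (Bar p (Cn u)) m1 := by
    rintro j M ⟨i, rfl⟩
    exact map_mem_bigSet ⟨(hI j).comp, (hI j).top_eq, (hI j).card_eq⟩ _
  refine ⟨fun j => orbit ay (I j), fun j => img p (Cn u) (P ⊓ lift p (Cn y) (e j)), hbig,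
    fun j => ⟨_, self_mem_orbit ay (I j)⟩, ?_, fun j => img_mono inf_le_left, ?_, ?_, ?_⟩
  · intro i j hij
    rw [Set.disjoint_left]
    intro M hMi hMj
    have hO : orbit ay (I i) = orbit ay (I j) :=
      ((orbit_eq_of_mem hayp hMi).symm.trans (orbit_eq_of_mem hayp hMj))
    have hHa : ∀ j, img p (Cn u) (L j) ≤ centralizer ({ay} : Set (Bar p (Cn u))) := by
      intro j w hw
      obtain ⟨g, hg, hgL, rfl⟩ := mem_img.mp hw
      exact mem_centralizer_singleton_iff.mpr (bmk_commute hg hyu (mem_centralizer_singleton_iff.mp (hLX j hgL).2))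
    have hle : ∀ i j, orbit ay (I i) = orbit ay (I j) →
        img p X (lift p (Cn y) (e i) ⊓ X) ≤ img p X (lift p (Cn y) (e j) ⊓ X) := by
      intro i j hO
      rw [← (pElem_spec inf_le_right (lift_inf_subnormal (hfixL i).le (heB i).1.1) (hgood i).comp).2.2.2.2.2,
        ← (pElem_spec inf_le_right (lift_inf_subnormal (hfixL j).le (heB j).1.1) (hgood j).comp).2.2.2.2.2]
      refine img_le_of_img_le inf_le_left (hLX j) ((le_inf ?_ (hHa i)).trans ((hI j).exact (hHa j)))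
      exact hO ▸ (hI i).le_join
    refine hij (hei (desc_injective (hfixL i) (hfixL j) (heB i).1 (heB j).1 ?_))
    exact le_antisymm (hle i j hO) (hle j i hO.symm)
  · intro j
    refine le_trans (img_mono fun r hr => ?_) (hI j).le_join
    obtain ⟨n, hn⟩ := hP.isPGroup ⟨r, hr.1⟩
    exact mem_pElemClosure (mem_inf.mpr ⟨hr.2, mem_inf.mpr ⟨huP hr.1, lift_le _ _ hr.2⟩⟩)
      (congrArg Subtype.val hn)
  · intro j
    rw [card_img_pGroup (hP.isPGroup.to_le inf_le_left) (inf_le_left.trans huP),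
      card_inf_lift hP (heB j).1 (heJ j), (heB j).2.2]
  · intro j M hM
    rw [eq_bot_iff]
    rintro w ⟨hw, hwM⟩
    obtain ⟨r, hr, hrS, rfl⟩ := mem_img.mp hw
    have hrw : ay * bmk p hr = bmk p hr * ay :=
      bmk_commute hyu hr (mem_centralizer_singleton_iff.mp (lift_le _ _ hrS.2)).symm
    have hwj : bmk p hr ∈ sSup (orbit ay (I j)) ⊓ centralizer ((sSup (orbit ay (I j)) : Subgroup _) : Set (Bar p (Cn u))) := by
      refine ⟨(hI j).le_join (bmk_mem_img hr ?_), ?_⟩
      · obtain ⟨n, hn⟩ := hP.isPGroup ⟨r, hrS.1⟩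
        exact mem_pElemClosure (mem_inf.mpr ⟨hrS.2, mem_inf.mpr ⟨huP hrS.1, lift_le _ _ hrS.2⟩⟩)
          (congrArg Subtype.val hn)
      · rw [← orbit_eq_of_mem hayp hM]
        exact mem_centralizer_sSup_orbit hrw hwM
    rw [bigSet_join_inf_centralizer (hbig j)] at hwj
    exact hwj

end CfsgLib.Tech46.Terminal
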